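import Cfsg.Agent.Lib.BrauerMap.Basic
import Mathlib.Algebra.BigOperators.Finprod
import Mathlib.GroupTheory.GroupAction.ConjAct

/-!
# Class sums, sums over invariant sets and the Brauer map on class sums
-/

namespace Cfsg.Agent.Lib.BrauerMap.ClassSum

open MonoidAlgebra Cfsg.Agent.Lib.BrauerMap.Basic

variable {G : Type*} [Group G] [Finite G] {k : Type*} [CommRing k]

open scoped Classical in
/-- The sum of the conjugates of g. -/
noncomputable def classSum (k : Type*) [CommRing k] (g : G) : MonoidAlgebra k G :=
  ofCoeff (Finsupp.equivFunOnFinite.symm fun h => if IsConj g h then 1 else 0)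

open scoped Classical in
theorem coeff_classSum (g h : G) :
    (classSum k g).coeff h = if IsConj g h then 1 else 0 := rfl

theorem classSum_mem_center (g : G) :
    classSum k g ∈ Subalgebra.center k (MonoidAlgebra k G) := by
  classical
  rw [mem_center_iff_coeff]
  intro u h
  have hconj : IsConj h (u * h * u⁻¹) := isConj_iff.2 ⟨u, rfl⟩
  simp only [coeff_classSum]
  exact if_congr ⟨fun e => e.trans hconj.symm, fun e => e.trans hconj⟩ rfl rfl

/-- The class sum as a member of the centre. -/
noncomputable def classSumC (k : Type*) [CommRing k] (g : G) :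
    Subalgebra.center k (MonoidAlgebra k G) :=
  ⟨classSum k g, classSum_mem_center g⟩

theorem classSum_eq_of_isConj {g h : G} (e : IsConj g h) : classSum k g = classSum k h := by
  classical
  ext x
  simp only [coeff_classSum]
  exact if_congr ⟨fun a => e.symm.trans a, fun a => e.trans a⟩ rfl rfl

/-- A central element is the combination of the class sums given by its coefficients. -/
theorem eq_sum_classSum [Fintype (ConjClasses G)] {x : MonoidAlgebra k G}
    (hx : x ∈ Subalgebra.center k (MonoidAlgebra k G)) :
    x = ∑ c : ConjClasses G, x.coeff c.out • classSum k c.out := by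
  classical
  ext g
  simp only [coeff_sum, coeff_smul, Finsupp.finsetSum_apply, Finsupp.smul_apply, coeff_classSum]
  rw [Finset.sum_eq_single (ConjClasses.mk g)]
  · have h1 : IsConj (ConjClasses.mk g).out g :=
      ConjClasses.mk_eq_mk_iff_isConj.1 (Quotient.out_eq _)
    rw [if_pos h1, smul_eq_mul, mul_one]
    obtain ⟨c, hc⟩ := isConj_iff.1 h1
    conv_lhs => rw [← hc]
    exact (mem_center_iff_coeff x).1 hx c _
  · intro c _ hc
    rw [if_neg fun h => hc ?_, smul_zero]
    exact (Quotient.out_eq c).symm.trans (ConjClasses.mk_eq_mk_iff_isConj.2 h)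
  · simp

theorem algHom_ext {A : Type*} [Semiring A] [Algebra k A]
    {f g : Subalgebra.center k (MonoidAlgebra k G) →ₐ[k] A}
    (h : ∀ a : G, f (classSumC k a) = g (classSumC k a)) : f = g := by
  classical
  haveI : Finite (ConjClasses G) := Quotient.finite _
  haveI := Fintype.ofFinite (ConjClasses G)
  refine AlgHom.ext fun x => ?_
  have hx : x = ∑ c : ConjClasses G, (x : MonoidAlgebra k G).coeff c.out • classSumC k c.out := by
    refine Subtype.ext ?_
    rw [AddSubmonoidClass.coe_finsetSum]
    exact eq_sum_classSum x.2
  rw [hx, map_sum, map_sum]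
  refine Finset.sum_congr rfl fun c _ => ?_
  rw [map_smul, map_smul, h]

/-- A sum over a conjugation invariant set, class by class. -/
theorem sum_invariant [Fintype G] [Fintype (ConjClasses G)] {R : Type*} [AddCommMonoid R]
    (S : Set G) (hS : ∀ a b : G, IsConj a b → a ∈ S → b ∈ S) [DecidablePred (· ∈ S)]
    (F : G → R) (hF : ∀ a b : G, IsConj a b → F a = F b) :
    ∑ a with a ∈ S, F a =
      ∑ c : ConjClasses G with c.out ∈ S, Nat.card {a : G // IsConj c.out a} • F c.out := by
  classical
  rw [Finset.sum_filter, ← Finset.sum_fiberwise Finset.univ ConjClasses.mk, Finset.sum_filter]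
  refine Finset.sum_congr rfl fun c _ => ?_
  have hc : ∀ a : G, ConjClasses.mk a = c ↔ IsConj c.out a := fun a => by
    constructor
    · intro e
      exact ConjClasses.mk_eq_mk_iff_isConj.1 ((Quotient.out_eq c).trans e.symm)
    · intro e
      exact (ConjClasses.mk_eq_mk_iff_isConj.2 e).symm.trans (Quotient.out_eq c)
  simp only [hc]
  split_ifs with h
  · rw [Finset.sum_congr rfl (g := fun _ => F c.out) (fun a ha => ?_), Finset.sum_const,
      Nat.card_eq_fintype_card, Fintype.card_subtype]
    have e := (Finset.mem_filter.1 ha).2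
    rw [if_pos (hS _ _ e h), hF _ _ e]
  · refine Finset.sum_eq_zero fun a ha => if_neg fun hm => h ?_
    exact hS _ _ (Finset.mem_filter.1 ha).2.symm hm

theorem card_isConj (g : G) :
    Nat.card {a : G // IsConj g a} = (Subgroup.centralizer ({g} : Set G)).index := by
  have h : (Subgroup.centralizer ({g} : Set G)).index =
      (MulAction.stabilizer (ConjAct G) g).index := by
    rw [Subgroup.centralizer_eq_comap_stabilizer]
    exact Subgroup.index_comap_of_surjective _ ConjAct.toConjAct.surjective
  rw [h, MulAction.index_stabilizer, ← Nat.card_coe_set_eq]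
  refine Nat.card_congr (Equiv.subtypeEquivRight fun a => ?_)
  rw [ConjAct.mem_orbit_conjAct]
  exact isConj_comm

open scoped Classical in
/-- The class sums of H inside a conjugation invariant subset, added up. -/
theorem brauerTo_classSum (P H : Subgroup G) (hN : H ≤ Subgroup.normalizer (P : Set G)) (g : G)
    [Fintype (ConjClasses H)] :
    brauerTo P H (classSum k g) =
      ∑ c : ConjClasses H with
        c.out ∈ {h : H | IsConj g (h : G) ∧ (h : G) ∈ Subgroup.centralizer (P : Set G)},
        classSum k c.out := by
  have hc := brauerTo_mem_center (P := P) hN (classSum_mem_center (k := k) g)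
  refine (eq_sum_classSum hc).trans ?_
  rw [Finset.sum_filter]
  refine Finset.sum_congr rfl fun c _ => ?_
  rw [coeff_brauerTo, coeff_classSum]
  simp only [Set.mem_setOf_eq]
  by_cases h1 : IsConj g (c.out : G) <;>
    by_cases h2 : (c.out : G) ∈ Subgroup.centralizer (P : Set G) <;> simp [h1, h2]

end Cfsg.Agent.Lib.BrauerMap.ClassSum
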