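import Cfsg.Agent.Lib.Blocks.Orthogonality
import Cfsg.Agent.Lib.BrauerPairs.Bridge

/-!
# The second main theorem

For a p-element `x`, a block `B` and an idempotent `f` of the group algebra over the local ring
that commutes with the centralizer of `x` and has value `1` at every pair of `B` at `x`, every
character of `B` takes the same value at `g` and at `g * f` whenever `x` is the p-part of `g`.
-/

set_option autoImplicit false
set_option linter.style.haveILetI false

namespace Cfsg.Agent.Lib.BrauerMap.SecondMain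

open MonoidAlgebra Cfsg.Agent.Lib.BrauerMap.Basic
open Cfsg.Agent.Lib.Blocks
open Cfsg.Agent.Lib.Characters.Basic
open Cfsg.Agent.Lib.BrauerPairs.Center (Blk ZAlg bidem bidem_mem bidem_isIdem idem_ext
  apply_zero_or_one)
open Cfsg.Agent.Lib.BrauerPairs.Trunc Cfsg.Agent.Lib.BrauerPairs.Pairs
open Cfsg.Agent.Lib.BrauerPairs.Maximal
open Cfsg.Agent.Lib.BrauerPairs.Bridge (Res charP_res blk coeff_bidem)

universe u

attribute [local instance] Ideal.Quotient.field

variable {G : Type u} [Group G] [Finite G] {p : ℕ} {M : Ideal Cfsg.AlgInt} [M.IsMaximal]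

local notation "𝓞" => localRing M

local notation "C[" P "]" => Subgroup.centralizer ((P : Subgroup G) : Set G)

omit [Finite G] in
theorem commute_twoSided_mulLeft_of_commute {R : Type*} [CommRing R] {z : MonoidAlgebra R G}
    {g : G} (hg : Commute (single g 1) z) (h : G) :
    Commute (twoSided R (g, h)) (LinearMap.mulLeft R z) := by
  refine LinearMap.ext fun v => ?_
  simp only [Module.End.mul_apply, LinearMap.mulLeft_apply, twoSided_apply]
  rw [← mul_assoc (single g 1), hg.eq]
  simp only [mul_assoc]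

/-- The trace of the twisted translation vanishes on an idempotent whose coefficients on the
centralizer of the p-part lie in the maximal ideal. -/
theorem trace_twoSided_mulLeft_eq_zero (hM : Cfsg.IsPModular p M) {x y x' y' : G}
    (hx : ∃ k : ℕ, orderOf x = p ^ k) (hy : ∃ k : ℕ, orderOf y = p ^ k)
    (hx' : ¬ p ∣ orderOf x') (hy' : ¬ p ∣ orderOf y') (hxx' : Commute x x')
    (hyy' : Commute y y') {z : MonoidAlgebra (localRing M) G} (hz : z * z = z)
    (hzx : Commute (single x 1) z) (hzx' : Commute (single x' 1) z)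
    (hres : ∀ d : G, Commute d x → residue M (z.coeff d) = 0) :
    LinearMap.trace (localRing M) (MonoidAlgebra (localRing M) G)
      (twoSided (localRing M) (x * x', y * y') * LinearMap.mulLeft (localRing M) z) = 0 := by
  classical
  haveI := Fintype.ofFinite G
  obtain ⟨i, hi⟩ := hx
  obtain ⟨j, hj⟩ := hy
  haveI : Module.Free 𝓞 (MonoidAlgebra 𝓞 G) :=
    Module.Free.of_equiv (MonoidAlgebra.coeffLinearEquiv 𝓞).symm
  haveI : Module.Finite 𝓞 (MonoidAlgebra 𝓞 G) :=
    Module.Finite.equiv (MonoidAlgebra.coeffLinearEquiv 𝓞).symm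
  -- the permutation of the group
  set π : Equiv.Perm G :=
    { toFun := fun v => x * v * y⁻¹
      invFun := fun v => x⁻¹ * v * y
      left_inv := fun v => by simp [mul_assoc]
      right_inv := fun v => by simp [mul_assoc] } with hπ
  have hπpow : ∀ (n : ℕ) (v : G), (π ^ n) v = x ^ n * v * (y ^ n)⁻¹ := by
    intro n
    induction n with
    | zero => simp
    | succ n ih =>
      intro v
      rw [pow_succ', Equiv.Perm.mul_apply, ih, pow_succ' x, pow_succ' y, mul_inv_rev]
      simp only [hπ, Equiv.coe_fn_mk, mul_assoc]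
  have hπk : π ^ p ^ (i + j) = 1 := by
    refine Equiv.ext fun v => ?_
    rw [hπpow, orderOf_dvd_iff_pow_eq_one.mp (hi ▸ pow_dvd_pow p (Nat.le_add_right i j)),
      orderOf_dvd_iff_pow_eq_one.mp (hj ▸ pow_dvd_pow p (Nat.le_add_left j i))]
    simp
  have hmov : ∀ v, π (π v) ≠ π v ↔ π v ≠ v := fun v => π.injective.ne_iff
  set π₀ : Equiv.Perm {v : G // π v ≠ v} := π.subtypePerm hmov with hπ₀
  have hπ₀k : π₀ ^ p ^ (i + j) = 1 := by
    refine Equiv.ext fun v => Subtype.ext ?_
    simp [hπ₀, Equiv.Perm.subtypePerm_pow, hπk]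
  obtain ⟨S₀, hS, hS'⟩ := exists_orbit_class hM.1 π₀ hπ₀k
    (fun v hv => v.2 (congrArg Subtype.val hv))
  set S : G → Prop := fun v => ∃ h : π v ≠ v, S₀ ⟨v, h⟩ with hSdef
  set Fx : G → Prop := fun v => π v = v with hFx
  have hpow0 : ∀ (n : ℕ) (v : G) (h : π v ≠ v), (((π₀ ^ n) ⟨v, h⟩ : {v : G // π v ≠ v}) : G) =
      (π ^ n) v := fun n v h => by
    simp [hπ₀, Equiv.Perm.subtypePerm_pow]
  have hpow1 : ∀ (n : ℕ) (v : G) (h : π v ≠ v), (((π₀⁻¹ ^ n) ⟨v, h⟩ : {v : G // π v ≠ v}) : G) =
      (π⁻¹ ^ n) v := fun n v h => by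
    simp [hπ₀, Equiv.Perm.inv_subtypePerm, Equiv.Perm.subtypePerm_pow]
  -- the operators
  set σ := twoSided 𝓞 (x, y) with hσdef
  set σ' := twoSided 𝓞 (x⁻¹, y⁻¹) with hσ'def
  set D := twoSided 𝓞 (x', y') with hDdef
  set E : Module.End 𝓞 (MonoidAlgebra 𝓞 G) := LinearMap.mulLeft 𝓞 z with hEdef
  set P : Module.End 𝓞 (MonoidAlgebra 𝓞 G) := setProj Fx with hPdef
  set s : Module.End 𝓞 (MonoidAlgebra 𝓞 G) := setProj S with hsdef
  have htp : ∀ (n : ℕ) (v : G) (r : 𝓞), (σ ^ n) (single v r) = single ((π ^ n) v) r :=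
    fun n v r => by
      rw [hσdef, ← map_pow, Prod.pow_mk, twoSided_single, hπpow]
  have hinvp : ∀ (n : ℕ) (v : G) (r : 𝓞), (σ' ^ n) (single v r) = single ((π⁻¹ ^ n) v) r := by
    have hinv : σ' = permEnd 𝓞 π⁻¹ := endExt 𝓞 fun v r => by
      rw [hσ'def, twoSided_single, permEnd_single, inv_inv]
      rfl
    intro n
    induction n with
    | zero => simp
    | succ n ih =>
      intro v r
      rw [pow_succ', Module.End.mul_apply, ih, hinv, permEnd_single, pow_succ' π⁻¹,
        Equiv.Perm.mul_apply]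
  have hright : σ * σ' = 1 := by
    rw [hσdef, hσ'def, ← map_mul, Prod.mk_mul_mk, mul_inv_cancel, mul_inv_cancel]; exact map_one _
  have hleft : σ' * σ = 1 := by
    rw [hσdef, hσ'def, ← map_mul, Prod.mk_mul_mk, inv_mul_cancel, inv_mul_cancel]; exact map_one _
  have hEE : E * E = E := by
    refine LinearMap.ext fun v => ?_
    simp only [hEdef, Module.End.mul_apply, LinearMap.mulLeft_apply, ← mul_assoc, hz]
  have cσE : Commute σ E := commute_twoSided_mulLeft_of_commute hzx y
  have cDE : Commute D E := commute_twoSided_mulLeft_of_commute hzx' y'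
  have cσ'E : Commute σ' E := by
    change σ' * E = E * σ'
    calc σ' * E = σ' * E * (σ * σ') := by rw [hright, mul_one]
      _ = σ' * (E * σ) * σ' := by simp only [mul_assoc]
      _ = σ' * (σ * E) * σ' := by rw [cσE.eq]
      _ = E * σ' := by rw [← mul_assoc σ', hleft, one_mul]
  have cσD : Commute σ D := (Prod.commute_iff.mpr ⟨hxx', hyy'⟩).map _
  have cσP : Commute σ P := by
    refine endExt 𝓞 fun v r => ?_
    have h1 : σ (single v r) = single (π v) r := by simpa using htp 1 v r
    rw [Module.End.mul_apply, Module.End.mul_apply, h1, hPdef, setProj_single, setProj_single]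
    by_cases hv : Fx v
    · rw [if_pos hv, if_pos (show Fx (π v) from congrArg π hv), h1]
    · rw [if_neg hv, if_neg (fun h => hv (π.injective h)), map_zero]
  have cσs : Commute (σ ^ p) s := by
    refine endExt 𝓞 fun v r => ?_
    have hiff : S ((π ^ p) v) ↔ S v := by
      simp only [hSdef]
      constructor
      · rintro ⟨h, h'⟩
        have h2 : π v ≠ v := fun e => h (by
          have e' : (π ^ p) v = v :=
            Function.IsFixedPt.perm_pow (show Function.IsFixedPt π v from e) p
          rw [e', e])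
        refine ⟨h2, (hS ⟨v, h2⟩).mp ?_⟩
        have e : (π₀ ^ p) ⟨v, h2⟩ = ⟨(π ^ p) v, h⟩ := Subtype.ext (hpow0 p v h2)
        rwa [e]
      · rintro ⟨h2, h'⟩
        have e := hpow0 p v h2
        refine ⟨by rw [← e]; exact ((π₀ ^ p) ⟨v, h2⟩).2, ?_⟩
        have e' := (hS ⟨v, h2⟩).mpr h'
        convert e' using 2
        exact e.symm
    rw [Module.End.mul_apply, Module.End.mul_apply, htp, hsdef, setProj_single, setProj_single]
    by_cases hv : S v
    · rw [if_pos hv, if_pos (hiff.mpr hv), htp]
    · rw [if_neg hv, if_neg (fun h => hv (hiff.mp h)), map_zero]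
  -- the relative trace of the projection
  have hsum : ∑ n ∈ Finset.range p, σ ^ n * s * σ' ^ n = 1 - P := by
    refine endExt 𝓞 fun v r => ?_
    rw [LinearMap.sum_apply, LinearMap.sub_apply, Module.End.one_apply, hPdef, setProj_single]
    by_cases hv : Fx v
    · rw [if_pos hv, sub_self]
      refine Finset.sum_eq_zero fun n _ => ?_
      have hfixinv : π⁻¹ v = v := by rw [Equiv.Perm.inv_eq_iff_eq]; exact hv.symm
      have hn : (π⁻¹ ^ n) v = v :=
        Function.IsFixedPt.perm_pow (show Function.IsFixedPt (π⁻¹ : Equiv.Perm G) v from hfixinv) n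
      rw [Module.End.mul_apply, Module.End.mul_apply, hinvp, hsdef, setProj_single, hn,
        if_neg (fun ⟨h, _⟩ => h hv), map_zero]
    · rw [if_neg hv, sub_zero]
      obtain ⟨n₀, ⟨hn₀, hSn₀⟩, huniq⟩ := hS' ⟨v, hv⟩
      have hiff : ∀ n, S ((π⁻¹ ^ n) v) ↔ S₀ ((π₀⁻¹ ^ n) ⟨v, hv⟩) := fun n => by
        have e := hpow1 n v hv
        simp only [hSdef]
        constructor
        · rintro ⟨h, h'⟩
          rwa [show ((π₀⁻¹ ^ n) ⟨v, hv⟩ : {v : G // π v ≠ v}) = ⟨(π⁻¹ ^ n) v, h⟩ from
            Subtype.ext e]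
        · intro h'
          refine ⟨by rw [← e]; exact ((π₀⁻¹ ^ n) ⟨v, hv⟩).2, ?_⟩
          convert h' using 2
          exact e.symm
      rw [Finset.sum_eq_single n₀]
      · rw [Module.End.mul_apply, Module.End.mul_apply, hinvp, hsdef, setProj_single,
          if_pos ((hiff n₀).mpr hSn₀), htp, ← Equiv.Perm.mul_apply, inv_pow, mul_inv_cancel,
          Equiv.Perm.one_apply]
      · intro n hn hne
        rw [Module.End.mul_apply, Module.End.mul_apply, hinvp, hsdef, setProj_single,
          if_neg fun h => hne (huniq n ⟨Finset.mem_range.mp hn, (hiff n).mp h⟩), map_zero]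
      · exact fun h => absurd (Finset.mem_range.mpr hn₀) h
  -- reduction modulo the ideal
  set bb : Module.Basis G 𝓞 (MonoidAlgebra 𝓞 G) :=
    Module.Basis.ofRepr (MonoidAlgebra.coeffLinearEquiv 𝓞) with hbb
  have hbv : ∀ v, bb v = single v 1 := fun v => by
    apply MonoidAlgebra.coeff_injective
    simp [hbb]
  set Φ : Module.End 𝓞 (MonoidAlgebra 𝓞 G) →+* Matrix G G (Res M) :=
    (residue M).mapMatrix.comp (LinearMap.toMatrixAlgEquiv bb).toRingEquiv.toRingHom with hΦ
  have hΦapply : ∀ T v w, Φ T w v = residue M ((T (single v 1)).coeff w) := fun T v w => by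
    show residue M (LinearMap.toMatrixAlgEquiv bb T w v) = _
    rw [LinearMap.toMatrixAlgEquiv_apply, hbv]
    rfl
  have hPEP : Φ (P * E * P) = 0 := by
    ext w v
    rw [hΦapply, Module.End.mul_apply, Module.End.mul_apply, hPdef, setProj_single]
    by_cases hv : Fx v
    · rw [if_pos hv, hEdef, LinearMap.mulLeft_apply]
      have hco : ∀ a : MonoidAlgebra 𝓞 G, (setProj Fx a).coeff w =
          if Fx w then a.coeff w else 0 := by
        intro a
        induction a using MonoidAlgebra.induction_linear with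
        | zero => simp
        | add a b ha hb => rw [map_add, coeff_add, Finsupp.add_apply, ha, hb]; split_ifs <;> simp
        | single u r =>
          rw [setProj_single]
          by_cases hu : u = w
          · subst hu; split_ifs <;> simp
          · split_ifs <;> simp [Finsupp.single_apply, hu]
      rw [hco]
      split_ifs with hw
      · rw [coeff_mul_single_apply, mul_one]
        refine hres _ ?_
        have e1 : y = v⁻¹ * x * v := by
          have : x * v * y⁻¹ = v := hv
          rw [mul_inv_eq_iff_eq_mul] at this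
          rw [mul_assoc, this, inv_mul_cancel_left]
        have e2 : x * w = w * y := by
          have : x * w * y⁻¹ = w := hw
          rwa [mul_inv_eq_iff_eq_mul] at this
        show w * v⁻¹ * x = x * (w * v⁻¹)
        rw [← mul_assoc x, e2, e1]
        simp [mul_assoc]
      · simp
    · rw [if_neg hv]
      simp
  set N := E * P * E with hN
  have cσN : Commute σ N := (cσE.mul_right cσP).mul_right cσE
  have cEN : Commute E N := by
    show E * (E * P * E) = E * P * E * E
    rw [← mul_assoc, ← mul_assoc, hEE, mul_assoc (E * P) E E, hEE]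
  have hΦN : Φ N * Φ N = 0 := by
    rw [← map_mul, show N * N = E * (P * E * P) * E by
      simp only [hN, mul_assoc]; rw [← mul_assoc E E, hEE], map_mul, map_mul, hPEP, mul_zero,
      zero_mul]
  have hunit : IsUnit (1 - N) := by
    have h1 : IsUnit (Φ (1 - N)) := by
      rw [show Φ (1 - N) = Φ 1 - Φ N from Φ.map_sub 1 N, map_one]
      exact IsNilpotent.isUnit_one_sub ⟨2, by rw [pow_two, hΦN]⟩
    have h2 : IsUnit (LinearMap.toMatrixAlgEquiv bb (1 - N)) := by
      rw [Matrix.isUnit_iff_isUnit_det, isUnit_localRing_iff, RingHom.map_det]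
      exact ((Matrix.isUnit_iff_isUnit_det _).mp h1).ne_zero
    simpa using h2.map (LinearMap.toMatrixAlgEquiv bb).symm
  obtain ⟨u, hu⟩ := hunit
  set w : Module.End 𝓞 (MonoidAlgebra 𝓞 G) := (↑u⁻¹ : Module.End 𝓞 (MonoidAlgebra 𝓞 G)) with hw
  have hwl : w * (1 - N) = 1 := by rw [hw, ← hu, Units.inv_mul]
  have hwc : ∀ T : Module.End 𝓞 (MonoidAlgebra 𝓞 G), Commute T N → Commute T w := fun T hT => by
    have h1 : Commute T (u : Module.End 𝓞 (MonoidAlgebra 𝓞 G)) := by
      rw [hu]
      refine LinearMap.ext fun v => ?_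
      have := LinearMap.congr_fun hT.eq v
      simp only [Module.End.mul_apply] at this
      simp only [Module.End.mul_apply, LinearMap.sub_apply, Module.End.one_apply, map_sub, this]
    exact Commute.units_inv_right h1
  set a := w * (E * s * E) with ha
  have caσ : Commute a (σ ^ p) :=
    (((hwc σ cσN).symm.pow_right p)).mul_left
      ((((cσE.pow_left p).symm).mul_left cσs.symm).mul_left ((cσE.pow_left p).symm))
  have caE : Commute a E := by
    refine ((hwc E cEN).symm).mul_left ?_
    show E * s * E * E = E * (E * s * E)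
    rw [mul_assoc (E * s) E E, hEE, ← mul_assoc E (E * s), ← mul_assoc E E, hEE]
  have cpow : ∀ n, Commute (σ ^ n) w := fun n => (hwc σ cσN).pow_left n
  have hsum' : ∑ n ∈ Finset.range p, σ ^ n * a * σ' ^ n = w * (E - N) := by
    have h1 : ∀ n, σ ^ n * a * σ' ^ n = w * (E * (σ ^ n * s * σ' ^ n) * E) := fun n => by
      rw [ha, ← mul_assoc (σ ^ n) w, (cpow n).eq, mul_assoc w, mul_assoc w]
      congr 1
      rw [← mul_assoc (σ ^ n) (E * s), ← mul_assoc (σ ^ n) E, (cσE.pow_left n).eq]
      simp only [mul_assoc]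
      rw [← (cσ'E.pow_left n).eq]
    rw [Finset.sum_congr rfl (fun n _ => h1 n), ← Finset.mul_sum, ← Finset.sum_mul,
      ← Finset.mul_sum, hsum, mul_sub, mul_one, sub_mul, hEE, ← hN]
  -- split along the range of the idempotent
  set f := σ * D * E with hf
  have hgoal : twoSided 𝓞 (x * x', y * y') = σ * D := by
    rw [hσdef, hDdef, ← map_mul, Prod.mk_mul_mk]
  rw [hgoal, ← hf]
  have cfE : Commute f E := (cσE.mul_left cDE).mul_left (Commute.refl E)
  haveI := free_of_isTorsionFree hM (LinearMap.range E)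
  haveI := finite_ker_of_free hM E
  haveI := free_of_isTorsionFree hM (LinearMap.ker E)
  rw [trace_eq_trace_ker_add_trace_range f E cfE (mapsTo_ker_of_commute cfE)
    (mapsTo_range_of_commute cfE)]
  have hker : f.restrict (mapsTo_ker_of_commute cfE) = 0 := by
    refine LinearMap.ext fun v => Subtype.ext ?_
    have hv : E (v : MonoidAlgebra 𝓞 G) = 0 := v.2
    simp [hf, LinearMap.coe_restrict_apply, hv]
  rw [hker, map_zero, zero_add]
  have hid : ∀ v : LinearMap.range E, E (v : MonoidAlgebra 𝓞 G) = v := fun v => by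
    obtain ⟨t, ht⟩ := v.2
    rw [← ht]
    exact LinearMap.congr_fun hEE t
  have hH : IsHigman p (σ.restrict (mapsTo_range_of_commute cσE))
      (σ'.restrict (mapsTo_range_of_commute cσ'E)) (a.restrict (mapsTo_range_of_commute caE)) :=
    { right_inv := LinearMap.ext fun v => Subtype.ext (by simpa using LinearMap.congr_fun hright (v : MonoidAlgebra 𝓞 G))
      left_inv := LinearMap.ext fun v => Subtype.ext (by simpa using LinearMap.congr_fun hleft (v : MonoidAlgebra 𝓞 G))
      comm := by
        rw [Module.End.pow_restrict p (mapsTo_range_of_commute cσE)]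
        exact commute_restrict caσ _ _
      sum_eq := by
        refine LinearMap.ext fun v => Subtype.ext ?_
        have h1 := LinearMap.congr_fun hsum' (v : MonoidAlgebra 𝓞 G)
        rw [Module.End.mul_apply, LinearMap.sub_apply, hid] at h1
        have h2 := LinearMap.congr_fun hwl (v : MonoidAlgebra 𝓞 G)
        rw [Module.End.mul_apply, LinearMap.sub_apply, Module.End.one_apply] at h2
        rw [h2, LinearMap.sum_apply] at h1
        rw [LinearMap.sum_apply, Submodule.coe_sum, Module.End.one_apply]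
        refine Eq.trans (Finset.sum_congr rfl fun n _ => ?_) h1
        simp only [Module.End.mul_apply,
          Module.End.pow_restrict n (mapsTo_range_of_commute cσE),
          Module.End.pow_restrict n (mapsTo_range_of_commute cσ'E)]
        rfl }
  have hσk : σ ^ p ^ (i + j) = 1 := by
    rw [hσdef, ← map_pow, Prod.pow_mk,
      orderOf_dvd_iff_pow_eq_one.mp (hi ▸ pow_dvd_pow p (Nat.le_add_right i j)),
      orderOf_dvd_iff_pow_eq_one.mp (hj ▸ pow_dvd_pow p (Nat.le_add_left j i))]
    exact map_one _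
  have hDm : D ^ (orderOf x' * orderOf y') = 1 := by
    rw [hDdef, ← map_pow, Prod.pow_mk, orderOf_dvd_iff_pow_eq_one.mp (dvd_mul_right _ _),
      orderOf_dvd_iff_pow_eq_one.mp (dvd_mul_left _ _)]
    exact map_one _
  have key := trace_eq_zero_of_isHigman_twist hM (E := 1)
    (D := D.restrict (mapsTo_range_of_commute cDE)) (k := i + j)
    (m := orderOf x' * orderOf y') ?_ hH (one_mul 1) (Commute.one_right _) ?_ ?_
    (commute_restrict cσD _ _) (Commute.one_right _)
  · rw [mul_one] at key
    rw [← key]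
    congr 1
    refine LinearMap.ext fun v => Subtype.ext ?_
    simp [hf, LinearMap.coe_restrict_apply, hid]
  · rw [Module.End.pow_restrict _ (mapsTo_range_of_commute cσE)]
    refine LinearMap.ext fun v => Subtype.ext ?_
    simp [LinearMap.coe_restrict_apply, hσk]
  · exact fun hd => (hM.1.dvd_mul.mp hd).elim hx' hy'
  · rw [Module.End.pow_restrict _ (mapsTo_range_of_commute cDE)]
    refine LinearMap.ext fun v => Subtype.ext ?_
    simp [LinearMap.coe_restrict_apply, hDm]

/-- Multiplication by a central element times `f`, as a combination of translations. -/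
theorem twoSided_mulLeft_mul [Fintype G] {R : Type*} [CommRing R] {e : MonoidAlgebra R G}
    (he : e ∈ Subalgebra.center R (MonoidAlgebra R G)) (f : MonoidAlgebra R G) (g h : G) :
    twoSided R (g, h) * LinearMap.mulLeft R (e * f) =
      ∑ k : G, f.coeff k • (twoSided R (g * k, h) * LinearMap.mulLeft R e) := by
  refine LinearMap.ext fun v => ?_
  rw [LinearMap.sum_apply]
  simp only [LinearMap.smul_apply, Module.End.mul_apply, LinearMap.mulLeft_apply, twoSided_apply]
  have hf : f = ∑ k : G, f.coeff k • single k (1 : R) := by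
    classical
    ext a
    simp [MonoidAlgebra.coeff_sum, Finsupp.single_apply]
  conv_lhs => rw [← Subalgebra.mem_center_iff.mp he f, hf]
  simp only [Finset.sum_mul, Finset.mul_sum, smul_mul_assoc, mul_smul_comm]
  refine Finset.sum_congr rfl fun k _ => ?_
  rw [show single (g * k) (1 : R) = single g 1 * single k 1 by rw [single_mul_single, one_mul]]
  simp only [mul_assoc]

/-- **The second main theorem**, in idempotent form. -/
theorem apply_eq_sum_of_residue_eq_zero [Fintype G] (hM : Cfsg.IsPModular p M)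
    {B : Set (Cfsg.IrrCharacter G)} (hB : Cfsg.IsPBlock M B) {g x : G}
    (hx : Cfsg.IsPPart p g x) (f : MonoidAlgebra (localRing M) G) (hf : f * f = f)
    (hfC : ∀ u, Commute u x → Commute (single u 1) f)
    (hres : ∀ d : G, Commute d x →
      residue M (((blockIdemR hB).1 * (1 - f)).coeff d) = 0)
    {χ : Cfsg.IrrCharacter G} (hχ : χ ∈ B) :
    (χ : G → ℂ) g = ∑ k : G, (f.coeff k : ℂ) * (χ : G → ℂ) (g * k) := by
  classical
  haveI := Fintype.ofFinite (Cfsg.IrrCharacter G)
  obtain ⟨x', hg, hcx, hxp, hx'⟩ := hx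
  set e : MonoidAlgebra 𝓞 G := (blockIdemR hB).1 with he
  have hec : e ∈ Subalgebra.center 𝓞 (MonoidAlgebra 𝓞 G) := (blockIdemR hB).2
  have hee : e * e = e := by
    rw [he, ← Subalgebra.coe_mul, blockIdemR_mul_self]
  have hcen : ∀ a, Commute a e := fun a => Subalgebra.mem_center_iff.mp hec a
  have hz : e * (1 - f) * (e * (1 - f)) = e * (1 - f) := by
    calc e * (1 - f) * (e * (1 - f)) = e * ((1 - f) * e) * (1 - f) := by simp only [mul_assoc]
      _ = e * (e * (1 - f)) * (1 - f) := by rw [(hcen (1 - f)).eq]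
      _ = e * e * ((1 - f) * (1 - f)) := by simp only [mul_assoc]
      _ = e * (1 - f) := by rw [hee, (IsIdempotentElem.one_sub hf).eq]
  have hcz : ∀ u, Commute u x → Commute (single u (1 : 𝓞)) (e * (1 - f)) := fun u hu =>
    (hcen _).mul_right ((Commute.one_right _).sub_right (hfC u hu))
  have key : ∀ h : G, ∑ᶠ θ ∈ B, ((θ : G → ℂ) g -
      ∑ k : G, (f.coeff k : ℂ) * (θ : G → ℂ) (g * k)) * (θ : G → ℂ) h⁻¹ = 0 := by
    intro h
    obtain ⟨y, hy⟩ := exists_isPPart hM.1 h
    obtain ⟨y', hh, hcy, hyp, hy'⟩ := hy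
    have h0 := trace_twoSided_mulLeft_eq_zero hM hxp hyp hx' hy' hcx hcy hz
      (hcz x (Commute.refl x)) (hcz x' hcx.symm) hres
    rw [hg, hh, twoSided_mulLeft_mul hec] at h0
    have hdec : ∀ k : G, (1 - f).coeff k = (if k = 1 then (1 : 𝓞) else 0) - f.coeff k := by
      intro k
      rw [coeff_sub, Finsupp.sub_apply, one_def, coeff_single, Finsupp.single_apply]
      simp only [eq_comm]
    simp only [map_sum, map_smul, smul_eq_mul, hdec, sub_mul, Finset.sum_sub_distrib, ite_mul,
      one_mul, zero_mul, Finset.sum_ite_eq', Finset.mem_univ, if_true, mul_one] at h0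
    have h1 := congrArg (Subtype.val) h0
    push_cast at h1
    simp only [he, trace_twoSided_blockIdemR hB] at h1
    rw [finsum_mem_eq_finite_toFinset_sum _ (Set.toFinite B)] at h1 ⊢
    simp only [finsum_mem_eq_finite_toFinset_sum _ (Set.toFinite B)] at h1
    rw [← h1]
    simp only [sub_mul, Finset.sum_mul, Finset.sum_sub_distrib, Finset.mul_sum]
    rw [Finset.sum_comm]
    simp only [mul_assoc]
  set c : Cfsg.IrrCharacter G → ℂ := fun θ =>
    if θ ∈ B then (θ : G → ℂ) g - ∑ k : G, (f.coeff k : ℂ) * (θ : G → ℂ) (g * k) else 0 with hc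
  have h0 : ∑ θ, c θ • (θ : G → ℂ) = 0 := by
    funext h
    have := key h⁻¹
    rw [inv_inv, finsum_mem_eq_finite_toFinset_sum _ (Set.toFinite B)] at this
    rw [Finset.sum_apply, Pi.zero_apply, ← this]
    simp only [Pi.smul_apply, smul_eq_mul, hc, ite_mul, zero_mul]
    rw [← Finset.sum_filter]
    exact Finset.sum_congr (by ext θ; simp) fun _ _ => rfl
  have h1 := Fintype.linearIndependent_iff.mp linearIndependent_irr c h0 χ
  rw [hc] at h1
  simp only [if_pos hχ] at h1
  exact sub_eq_zero.mp h1

/-! ### The hypothesis from Brauer pairs -/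

section Pairs

variable {k : Type} [Field k] [IsAlgClosed k] [CharP k p] [Fact p.Prime]

/-- If every pair of `ψ` at `Q` has value one at the idempotent `a`, the truncation of the block
idempotent of `ψ` kills `1 - a`. -/
theorem br_bidem_mul_one_sub {Q : Subgroup G} (hQ : IsPGroup p Q) (ψ : Blk k G)
    {a : MonoidAlgebra k G} (ha : IsIdempotentElem a) (haQ : IsFixedBy Q a)
    (haC : IsFixedBy C[Q] a)
    (h : ∀ ω : Blk k C[Q], PairOf p ψ (⟨Q, ω⟩ : Idx k G) → val Q ω a = 1) :
    br Q (bidem ψ * (1 - a)) = 0 := by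
  have he := isFixedBy_of_mem_center Q (bidem_mem ψ)
  have heC := isFixedBy_of_mem_center C[Q] (bidem_mem ψ)
  have h1Q : IsFixedBy Q (1 - a) := fun u hu g => by
    rw [coeff_sub, Finsupp.sub_apply, Finsupp.sub_apply, haQ u hu g,
      isFixedBy_one Q u hu g]
  have h1C : IsFixedBy C[Q] (1 - a) := fun u hu g => by
    rw [coeff_sub, Finsupp.sub_apply, Finsupp.sub_apply, haC u hu g,
      isFixedBy_one C[Q] u hu g]
  have hfixQ := isFixedBy_mul he h1Q
  have hfixC := isFixedBy_mul heC h1C
  have hidem : IsIdempotentElem (bidem ψ * (1 - a)) :=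
    IsIdempotentElem.mul_of_commute
      (Subalgebra.mem_center_iff.mp (bidem_mem ψ) _).symm (bidem_isIdem ψ) ha.one_sub
  have key : (⟨br Q (bidem ψ * (1 - a)), br_mem_center hfixC⟩ : ZAlg k C[Q]) = 0 := by
    refine idem_ext (k := k) (Subtype.ext (br_isIdem hQ hidem hfixQ)) .zero fun ω => ?_
    rw [map_zero, ← val_eq ω hfixC, val_mul hQ ω he h1Q heC h1C]
    rcases val_zero_or_one hQ ω (bidem_isIdem ψ) he heC with h0 | h1
    · rw [h0, zero_mul]
    · have hva := h ω ⟨hQ, h1⟩
      have hsum : val Q ω (1 - a) + val Q ω a = 1 := by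
        rw [val_eq ω h1C, val_eq ω haC, ← map_add]
        refine Eq.trans (congrArg ω (Subtype.ext ?_)) (map_one ω)
        show br Q (1 - a) + br Q a = 1
        rw [← br_add, sub_add_cancel, br_one]
      rw [hva, add_eq_right] at hsum
      rw [hsum, mul_zero]
  exact congrArg Subtype.val key

end Pairs

variable (M) in
/-- Reduction of a group algebra element modulo the maximal ideal. -/
noncomputable def red (f : MonoidAlgebra (localRing M) G) : MonoidAlgebra (Res M) G :=
  MonoidAlgebra.mapRingHom G (residue M) f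

omit [Finite G] in
theorem coeff_red (f : MonoidAlgebra (localRing M) G) (g : G) :
    (red M f).coeff g = residue M (f.coeff g) :=
  coeff_mapRingHom (residue M) f g

theorem coeff_conj_of_commute {R : Type*} [CommRing R] {f : MonoidAlgebra R G} {u : G}
    (h : Commute (single u 1) f) (g : G) : f.coeff (u * g * u⁻¹) = f.coeff g := by
  have := congrArg (fun z : MonoidAlgebra R G => z.coeff (u * g)) h.eq
  simp only [coeff_single_mul_apply, coeff_mul_single_apply, one_mul, mul_one,
    inv_mul_cancel_left] at this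
  exact this.symm

theorem mem_centralizer_zpowers_iff {x d : G} :
    d ∈ C[Subgroup.zpowers x] ↔ Commute d x := by
  rw [Subgroup.mem_centralizer_iff]
  constructor
  · exact fun h => (h x (Subgroup.mem_zpowers x)).symm
  · rintro h y ⟨n, rfl⟩
    exact (h.zpow_right n).eq.symm

/-- **The second main theorem**, with the hypothesis on Brauer pairs. -/
theorem apply_eq_sum_of_val_eq_one [Fintype G] [Fact p.Prime] (hM : Cfsg.IsPModular p M)
    {B : Set (Cfsg.IrrCharacter G)} (hB : Cfsg.IsPBlock M B) {g x : G}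
    (hx : Cfsg.IsPPart p g x) (f : MonoidAlgebra (localRing M) G) (hf : f * f = f)
    (hfC : ∀ u, Commute u x → Commute (single u 1) f)
    (hval : ∀ ω : Blk (Res M) C[Subgroup.zpowers x],
      PairOf p (blk hB) (⟨Subgroup.zpowers x, ω⟩ : Idx (Res M) G) →
        val (Subgroup.zpowers x) ω (red M f) = 1)
    {χ : Cfsg.IrrCharacter G} (hχ : χ ∈ B) :
    (χ : G → ℂ) g = ∑ k : G, (f.coeff k : ℂ) * (χ : G → ℂ) (g * k) := by
  haveI := charP_res hM
  refine apply_eq_sum_of_residue_eq_zero hM hB hx f hf hfC (fun d hd => ?_) hχ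
  obtain ⟨x', -, -, ⟨n, hn⟩, -⟩ := hx
  have hQ : IsPGroup p (Subgroup.zpowers x) :=
    IsPGroup.of_card (n := n) (by rw [Nat.card_zpowers, hn])
  have hfix : ∀ u, Commute u x → ∀ h, (red M f).coeff (u * h * u⁻¹) = (red M f).coeff h :=
    fun u hu h => by rw [coeff_red, coeff_red, coeff_conj_of_commute (hfC u hu)]
  have h0 := br_bidem_mul_one_sub hQ (blk hB)
    (show IsIdempotentElem (red M f) from (by rw [red, IsIdempotentElem, ← map_mul, hf]))
    (fun u hu => hfix u (by
      obtain ⟨m, rfl⟩ := hu
      exact (Commute.refl x).zpow_left m))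
    (fun u hu => hfix u (mem_centralizer_zpowers_iff.mp hu)) hval
  have hd' : d ∈ C[Subgroup.zpowers x] := mem_centralizer_zpowers_iff.mpr hd
  have h1 := congrArg (fun z => MonoidAlgebra.coeff z ⟨d, hd'⟩) h0
  simp only [coeff_br, coeff_zero, Finsupp.coe_zero, Pi.zero_apply] at h1
  rw [← coeff_red, red, map_mul, map_sub, map_one, ← h1]
  refine congrArg (fun e => (e * _ : MonoidAlgebra (Res M) G).coeff d) ?_
  ext v
  rw [coeff_mapRingHom, coeff_bidem hB]
  exact congrArg (residue M) (Subtype.ext (coe_coeff_blockIdemR hB v))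

end Cfsg.Agent.Lib.BrauerMap.SecondMain
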