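import Mathlib.Algebra.MonoidAlgebra.Basic
import Mathlib.Algebra.Algebra.Subalgebra.Basic
import Mathlib.Algebra.CharP.Defs
import Mathlib.GroupTheory.PGroup
import Mathlib.GroupTheory.Subgroup.Centralizer
import Mathlib.Algebra.Group.Conj

/-!
# The Brauer homomorphism on centres of group algebras

For a p-subgroup P of a finite group G, a commutative ring k of characteristic p and a
subgroup H with C(P) ≤ H, the map keeping the coefficients at elements of C(P) is
multiplicative on the P-fixed elements of k[G]; for H ≤ N(P) it restricts to an algebra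
homomorphism from the centre of k[G] to the centre of k[H].
-/

namespace Cfsg.Agent.Lib.BrauerMap.Basic

open MonoidAlgebra

/-- In characteristic p, a sum of a function invariant under a p-group equals the sum over
the fixed points. -/
theorem sum_eq_sum_fixed {p : ℕ} [Fact p.Prime] {P : Type*} [Group P] (hP : IsPGroup p P)
    {X : Type*} [Fintype X] [MulAction P X] {k : Type*} [CommRing k] [CharP k p]
    (f : X → k) (hf : ∀ (u : P) (x : X), f (u • x) = f x)
    [DecidablePred (fun x : X => x ∈ MulAction.fixedPoints P X)] :
    ∑ x, f x = ∑ x with x ∈ MulAction.fixedPoints P X, f x := by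
  classical
  rw [Finset.sum_filter]
  have key : ∀ v : k, ((Finset.univ.filter fun x => f x = v).card : k) =
      ((Finset.univ.filter fun x => f x = v ∧ x ∈ MulAction.fixedPoints P X).card : k) := by
    intro v
    let Y : SubMulAction P X :=
      { carrier := {x | f x = v}
        smul_mem' := fun u x hx => by
          change f (u • x) = v
          rw [hf u x]; exact hx }
    have h := hP.card_modEq_card_fixedPoints Y
    have h1 : Nat.card Y = (Finset.univ.filter fun x => f x = v).card := by
      rw [Nat.card_eq_fintype_card, ← Fintype.card_subtype]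
      exact Fintype.card_congr (Equiv.refl _)
    have h2 : Nat.card (MulAction.fixedPoints P Y) =
        (Finset.univ.filter fun x => f x = v ∧ x ∈ MulAction.fixedPoints P X).card := by
      rw [← Fintype.card_subtype, ← Nat.card_eq_fintype_card]
      refine Nat.card_congr
        { toFun := fun y => ⟨y.1.1, y.1.2, fun u => congrArg Subtype.val (y.2 u)⟩
          invFun := fun y => ⟨⟨y.1, y.2.1⟩, fun u => Subtype.ext (y.2.2 u)⟩
          left_inv := fun y => rfl
          right_inv := fun y => rfl }
    rw [h1, h2] at h
    exact (CharP.natCast_eq_natCast k p).2 h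
  rw [← Finset.sum_fiberwise_of_maps_to (g := f) (t := Finset.univ.image f)
    (fun x _ => Finset.mem_image_of_mem f (Finset.mem_univ x))]
  conv_rhs => rw [← Finset.sum_fiberwise_of_maps_to (g := f) (t := Finset.univ.image f)
    (fun x _ => Finset.mem_image_of_mem f (Finset.mem_univ x))]
  refine Finset.sum_congr rfl fun v _ => ?_
  rw [Finset.sum_congr rfl (g := fun _ => v) (fun x hx => (Finset.mem_filter.1 hx).2),
    Finset.sum_ite, Finset.sum_const_zero, add_zero, Finset.filter_filter]
  have hr : ∑ x ∈ Finset.univ.filter (fun x => f x = v ∧ x ∈ MulAction.fixedPoints P X), f x =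
      ∑ x ∈ Finset.univ.filter (fun x => f x = v ∧ x ∈ MulAction.fixedPoints P X), v :=
    Finset.sum_congr rfl fun x hx => (Finset.mem_filter.1 hx).2.1
  rw [hr]
  simp only [Finset.sum_const, nsmul_eq_mul]
  exact congrArg (· * v) (key v)

section Group

variable {G : Type*} [Group G] [Finite G] {k : Type*} [CommRing k]

/-- The coefficients are invariant under conjugation by the members of P. -/
def IsFixedBy (P : Subgroup G) (x : MonoidAlgebra k G) : Prop :=
  ∀ u ∈ P, ∀ g : G, x.coeff (u * g * u⁻¹) = x.coeff g

/-- Coefficients of a product, as a sum over the group. -/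
theorem coeff_mul_sum [Fintype G] (x y : MonoidAlgebra k G) (g : G) :
    (x * y).coeff g = ∑ a : G, x.coeff a * y.coeff (a⁻¹ * g) := by
  rw [coeff_mul_apply_left]
  exact Finsupp.sum_fintype _ _ (fun a => by simp)

/-- An element is central exactly when its coefficients form a class function. -/
theorem mem_center_iff_coeff (x : MonoidAlgebra k G) :
    x ∈ Subalgebra.center k (MonoidAlgebra k G) ↔
      ∀ u g : G, x.coeff (u * g * u⁻¹) = x.coeff g := by
  rw [Subalgebra.mem_center_iff]
  constructor
  · intro h u g
    have := congrArg (fun z : MonoidAlgebra k G => z.coeff (u * g)) (h (single u 1))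
    simp only [coeff_single_mul_apply, coeff_mul_single_apply, one_mul, mul_one,
      inv_mul_cancel_left] at this
    exact this.symm
  · intro h y
    haveI := Fintype.ofFinite G
    ext g
    rw [coeff_mul_sum, coeff_mul_sum]
    refine Fintype.sum_equiv ((Equiv.inv G).trans (Equiv.mulLeft g))
      (fun a => y.coeff a * x.coeff (a⁻¹ * g)) (fun a => x.coeff a * y.coeff (a⁻¹ * g))
      fun a => ?_
    simp only [Equiv.trans_apply, Equiv.inv_apply, Equiv.coe_mulLeft, mul_inv_rev, inv_inv,
      mul_assoc, inv_mul_cancel, mul_one]
    rw [← h g (a⁻¹ * g), mul_comm]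
    simp [mul_assoc]

/-- The truncation of an element of k[G] to the elements of H centralising P. -/
noncomputable def brauerTo (P H : Subgroup G) (x : MonoidAlgebra k G) : MonoidAlgebra k H := by
  classical
  exact ofCoeff (Finsupp.equivFunOnFinite.symm fun h =>
    if (h : G) ∈ Subgroup.centralizer (P : Set G) then x.coeff h else 0)

open scoped Classical in
theorem coeff_brauerTo (P H : Subgroup G) (x : MonoidAlgebra k G) (h : H) :
    (brauerTo P H x).coeff h =
      if (h : G) ∈ Subgroup.centralizer (P : Set G) then x.coeff h else 0 := rfl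

theorem brauerTo_add (P H : Subgroup G) (x y : MonoidAlgebra k G) :
    brauerTo P H (x + y) = brauerTo P H x + brauerTo P H y := by
  classical
  ext h; simp only [coeff_brauerTo, coeff_add, Finsupp.add_apply]; split <;> simp

theorem brauerTo_smul (P H : Subgroup G) (r : k) (x : MonoidAlgebra k G) :
    brauerTo P H (r • x) = r • brauerTo P H x := by
  classical
  ext h; simp only [coeff_brauerTo, coeff_smul, Finsupp.smul_apply]; split <;> simp

theorem brauerTo_one (P H : Subgroup G) : brauerTo P H (1 : MonoidAlgebra k G) = 1 := by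
  classical
  ext h
  simp only [coeff_brauerTo, one_def, coeff_single, Finsupp.single_apply]
  by_cases hh : h = 1
  · subst hh; simp [Subgroup.one_mem]
  · have : (1 : G) ≠ (h : G) := fun e => hh (Subtype.ext e.symm)
    simp [Ne.symm hh, this]

/-- Multiplicativity of the Brauer map on P-fixed elements. -/
theorem brauerTo_mul {p : ℕ} [Fact p.Prime] [CharP k p] {P H : Subgroup G} (hP : IsPGroup p P)
    (hC : Subgroup.centralizer (P : Set G) ≤ H) {x y : MonoidAlgebra k G}
    (hx : IsFixedBy P x) (hy : IsFixedBy P y) :
    brauerTo P H (x * y) = brauerTo P H x * brauerTo P H y := by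
  classical
  haveI := Fintype.ofFinite G
  ext h
  rw [coeff_brauerTo, coeff_mul_sum (G := H)]
  simp only [coeff_brauerTo, Subgroup.coe_mul, Subgroup.coe_inv]
  set C := Subgroup.centralizer (P : Set G)
  split_ifs with hg
  · rw [coeff_mul_sum]
    letI : MulAction P G := MulAction.compHom G (MulAut.conj.comp P.subtype)
    have hsm : ∀ (u : P) (a : G), u • a = u * a * (u : G)⁻¹ := fun u a => rfl
    rw [sum_eq_sum_fixed hP]
    · have hfix : ∀ a : G, a ∈ MulAction.fixedPoints P G ↔ a ∈ C := by
        intro a
        rw [Subgroup.mem_centralizer_iff]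
        constructor
        · intro ha u hu
          have := ha ⟨u, hu⟩
          rw [hsm, mul_inv_eq_iff_eq_mul] at this
          exact this
        · intro ha u
          rw [hsm, ha u u.2, mul_inv_cancel_right]
      rw [Finset.sum_filter, ← Finset.sum_filter_add_sum_filter_not Finset.univ (· ∈ H)]
      have h0 : ∑ a ∈ Finset.univ.filter (fun a : G => a ∉ H),
          (if a ∈ MulAction.fixedPoints P G then x.coeff a * y.coeff (a⁻¹ * h) else 0) = 0 :=
        Finset.sum_eq_zero fun a ha =>
          if_neg fun hf => (Finset.mem_filter.1 ha).2 (hC ((hfix a).1 hf))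
      rw [h0, add_zero, Finset.sum_subtype (p := fun a => a ∈ H) _ (fun a => by simp)]
      refine Finset.sum_congr rfl fun a _ => ?_
      simp only [hfix]
      by_cases ha : (a : G) ∈ C
      · rw [if_pos ha, if_pos ha, if_pos (C.mul_mem (C.inv_mem ha) hg)]
      · rw [if_neg ha, if_neg ha, zero_mul]
    · intro u a
      have hu : (u : G) * h = h * u := (Subgroup.mem_centralizer_iff.1 hg) u u.2
      rw [hsm, hx u u.2]
      congr 1
      calc y.coeff (((u : G) * a * (u : G)⁻¹)⁻¹ * h)
          = y.coeff ((u : G) * (a⁻¹ * h) * (u : G)⁻¹) := by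
            congr 1
            rw [mul_inv_rev, mul_inv_rev, inv_inv, mul_assoc (u : G) (a⁻¹ * h), mul_assoc,
              mul_assoc]
            congr 1
            rw [mul_assoc]
            congr 1
            rw [eq_mul_inv_iff_mul_eq, mul_assoc, ← hu, inv_mul_cancel_left]
        _ = y.coeff (a⁻¹ * h) := hy u u.2 _
  · refine (Finset.sum_eq_zero fun a _ => ?_).symm
    by_cases ha : (a : G) ∈ C
    · rw [if_pos ha, if_neg (fun hb => hg ?_), mul_zero]
      have := C.mul_mem ha hb
      rwa [mul_inv_cancel_left] at this
    · rw [if_neg ha, zero_mul]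

theorem isFixedBy_of_mem_center (P : Subgroup G) {x : MonoidAlgebra k G}
    (hx : x ∈ Subalgebra.center k (MonoidAlgebra k G)) : IsFixedBy P x :=
  fun u _ g => (mem_center_iff_coeff x).1 hx u g

theorem brauerTo_mem_center {P H : Subgroup G} (hN : H ≤ Subgroup.normalizer (P : Set G))
    {x : MonoidAlgebra k G} (hx : x ∈ Subalgebra.center k (MonoidAlgebra k G)) :
    brauerTo P H x ∈ Subalgebra.center k (MonoidAlgebra k H) := by
  classical
  rw [mem_center_iff_coeff]
  intro u g
  simp only [coeff_brauerTo, Subgroup.coe_mul, Subgroup.coe_inv]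
  have key : ((u : G) * g * (u : G)⁻¹ ∈ Subgroup.centralizer (P : Set G)) ↔
      (g : G) ∈ Subgroup.centralizer (P : Set G) := by
    have hu := hN u.2
    simp only [Subgroup.mem_centralizer_iff]
    constructor
    · intro hh q hq
      have h1 := hh _ ((Subgroup.mem_normalizer_iff.1 hu q).1 hq)
      have h2 := congrArg (fun t => (u : G)⁻¹ * t * (u : G)) h1
      simpa [mul_assoc] using h2
    · intro hh q hq
      have h1 := hh _ ((Subgroup.mem_normalizer_iff''.1 hu q).1 hq)
      simp only [mul_assoc] at h1
      have h2 := congrArg (fun t => (u : G) * t * (u : G)⁻¹) h1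
      simpa [mul_assoc] using h2
  simp only [key, (mem_center_iff_coeff x).1 hx]

/-- The Brauer homomorphism from the centre of k[G] to the centre of k[H]. -/
noncomputable def brauerHom {p : ℕ} [Fact p.Prime] [CharP k p] {P H : Subgroup G}
    (hP : IsPGroup p P) (hC : Subgroup.centralizer (P : Set G) ≤ H)
    (hN : H ≤ Subgroup.normalizer (P : Set G)) :
    Subalgebra.center k (MonoidAlgebra k G) →ₐ[k] Subalgebra.center k (MonoidAlgebra k H) :=
  AlgHom.ofLinearMap
    { toFun := fun x => ⟨brauerTo P H x.1, brauerTo_mem_center hN x.2⟩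
      map_add' := fun x y => Subtype.ext (brauerTo_add P H x.1 y.1)
      map_smul' := fun r x => Subtype.ext (brauerTo_smul P H r x.1) }
    (Subtype.ext (brauerTo_one P H))
    (fun x y => Subtype.ext
      (brauerTo_mul hP hC (isFixedBy_of_mem_center P x.2) (isFixedBy_of_mem_center P y.2)))

theorem brauerHom_apply {p : ℕ} [Fact p.Prime] [CharP k p] {P H : Subgroup G}
    (hP : IsPGroup p P) (hC : Subgroup.centralizer (P : Set G) ≤ H)
    (hN : H ≤ Subgroup.normalizer (P : Set G))
    (x : Subalgebra.center k (MonoidAlgebra k G)) :
    (brauerHom hP hC hN x : MonoidAlgebra k H) = brauerTo P H x.1 := rfl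

end Group

end Cfsg.Agent.Lib.BrauerMap.Basic
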