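import Cfsg.Agent.Lib.BrauerMap.Inflation
import Cfsg.Agent.Lib.Blocks.Orthogonality

/-!
# Homomorphisms of the centre and surjections with p-group kernel
-/

namespace Cfsg.Agent.Lib.BrauerMap.PKernel

open MonoidAlgebra Cfsg.Agent.Lib.BrauerMap.Basic Cfsg.Agent.Lib.BrauerMap.ClassSum
  Cfsg.Agent.Lib.BrauerMap.Inflation Cfsg.Agent.Lib.Blocks

universe u

/-- A homomorphism of the centre only depends on the image under a surjection with p-group
kernel. -/
theorem algHom_eq_of_pushC_eq {G : Type u} [Group G] [Finite G] {H : Type u} [Group H] [Finite H]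
    {k : Type*} [Field k] {p : ℕ} [Fact p.Prime] [CharP k p] (f : G →* H)
    (hf : Function.Surjective f) (hker : IsPGroup p f.ker)
    (φ : Subalgebra.center k (MonoidAlgebra k G) →ₐ[k] k)
    {a b : Subalgebra.center k (MonoidAlgebra k G)} (h : pushC k f hf a = pushC k f hf b) :
    φ a = φ b := by
  obtain ⟨n, hn⟩ := isNilpotent_of_pushC_eq_zero f hf hker (z := a - b)
    (by rw [map_sub, sub_eq_zero, h])
  have h0 : φ (a - b) ^ n = 0 := by rw [← map_pow, hn, map_zero]
  exact sub_eq_zero.1 ((map_sub φ a b).symm.trans (eq_zero_of_pow_eq_zero h0))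

variable {G : Type u} [Group G] [Finite G] {M : Ideal Cfsg.AlgInt} [M.IsMaximal]

/-- A p-group has a single block. -/
theorem sameBlock_of_isPGroup {p : ℕ} [Fact p.Prime] (hM : Cfsg.IsPModular p M)
    (hG : IsPGroup p G) (χ ψ : Cfsg.IrrCharacter G) :
    Cfsg.SameBlock M (χ : G → ℂ) (ψ : G → ℂ) := by
  classical
  letI := Ideal.Quotient.field M
  haveI := charP_residue hM
  let f : G →* (PUnit.{u+1}) := 1
  have hf : Function.Surjective f := fun x => ⟨1, Subsingleton.elim _ _⟩
  have hker : IsPGroup p f.ker := hG.to_subgroup _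
  rw [sameBlock_iff_omegaBar]
  refine AlgHom.ext fun z => ?_
  set c := (pushC (Cfsg.AlgInt ⧸ M) f hf z).1.coeff 1 with hc
  have h : pushC (Cfsg.AlgInt ⧸ M) f hf z =
      pushC (Cfsg.AlgInt ⧸ M) f hf (algebraMap _ _ c) := by
    rw [AlgHom.commutes]
    refine Subtype.ext (MonoidAlgebra.ext (Finsupp.ext fun x => ?_))
    rw [Subsingleton.elim x 1, ← hc]
    simp
  rw [algHom_eq_of_pushC_eq f hf hker (omegaBar M χ) h,
    algHom_eq_of_pushC_eq f hf hker (omegaBar M ψ) h, AlgHom.commutes, AlgHom.commutes]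

/-- Every block contains a character inflated along a surjection with p-group kernel. -/
theorem exists_infl_mem {H : Type u} [Group H] [Finite H] {p : ℕ} [Fact p.Prime]
    (hM : Cfsg.IsPModular p M) (f : G →* H) (hf : Function.Surjective f)
    (hker : IsPGroup p f.ker) {B : Set (Cfsg.IrrCharacter G)} (hB : Cfsg.IsPBlock M B) :
    ∃ χ : Cfsg.IrrCharacter H, infl f hf χ ∈ B := by
  classical
  letI := Ideal.Quotient.field M
  haveI := charP_residue hM
  by_contra hcon
  push Not at hcon
  have h0 : pushC (localRing M) f hf (blockIdemR hB) = 0 := by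
    refine eq_of_omegaR_eq fun χ => ?_
    rw [map_zero, ← omegaR_infl, omegaR_blockIdemR, if_neg (hcon χ)]
  obtain ⟨χ, hχ⟩ := isPBlock_nonempty hB
  have h1 : pushC (Cfsg.AlgInt ⧸ M) f hf (blockIdemBar hB) =
      pushC (Cfsg.AlgInt ⧸ M) f hf 0 := by
    rw [blockIdemBar, ← mapCenter_pushC, h0, map_zero, map_zero]
  have h2 := algHom_eq_of_pushC_eq f hf hker (omegaBar M χ) h1
  rw [omegaBar_blockIdemBar, if_pos hχ, map_zero] at h2
  exact one_ne_zero h2

end Cfsg.Agent.Lib.BrauerMap.PKernel
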