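import Cfsg.Agent.Lib.BrauerMap.SecondMain
import Cfsg.Agent.Lib.BrauerMap.PKernel

/-!
# The principal block on a p-section

For a p-element `z` with centralizer `H`, the principal block of `G` on the section of `z` is
governed by the principal block of `H`: the bilinear sums `∑ χ g * χ h⁻¹` agree.
-/

set_option autoImplicit false
set_option linter.style.haveILetI false

namespace Cfsg.Agent.Lib.BrauerMap.PrincipalSection

open MonoidAlgebra Cfsg.Agent.Lib.BrauerMap.Basic Cfsg.Agent.Lib.BrauerMap.SecondMain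
open Cfsg.Agent.Lib.Blocks
open Cfsg.Agent.Lib.Characters.Basic
open Cfsg.Agent.Lib.BrauerPairs
open Cfsg.Agent.Lib.BrauerPairs.Bridge (Res charP_res)

universe u

attribute [local instance] Ideal.Quotient.field

/-! ## p-parts -/

section PPart

variable {G : Type u} [Group G] {p : ℕ}

theorem isPPart_mem_zpowers (hp : p.Prime) {g x : G} (h : Cfsg.IsPPart p g x) :
    x ∈ Subgroup.zpowers g := by
  obtain ⟨x', hg, hc, ⟨a, ha⟩, hx'⟩ := h
  have hcop : Nat.Coprime (orderOf x') (orderOf x) := by
    rw [ha]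
    exact ((Nat.Prime.coprime_iff_not_dvd hp).mpr hx').symm.pow_right a
  obtain ⟨m, hm⟩ := exists_pow_eq_self_of_coprime hcop
  refine ⟨(orderOf x' * m : ℕ), ?_⟩
  show g ^ ((orderOf x' * m : ℕ) : ℤ) = x
  rw [zpow_natCast, pow_mul, ← hg, hc.mul_pow, pow_orderOf_eq_one, mul_one, hm]

theorem isPPart_unique (hp : p.Prime) {g x y : G} (hx : Cfsg.IsPPart p g x)
    (hy : Cfsg.IsPPart p g y) : x = y := by
  have hxg := isPPart_mem_zpowers hp hx
  have hyg := isPPart_mem_zpowers hp hy
  obtain ⟨x', hgx, -, ⟨a, ha⟩, hx'⟩ := hx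
  obtain ⟨y', hgy, -, ⟨b, hb⟩, hy'⟩ := hy
  obtain ⟨i, hi⟩ := hxg
  obtain ⟨j, hj⟩ := hyg
  have cxy : Commute x⁻¹ y := by rw [← hi, ← hj]; exact (Commute.zpow_zpow_self g i j).inv_left
  have hx'g : x' = x⁻¹ * g := by rw [← hgx, inv_mul_cancel_left]
  have hy'g : y' = y⁻¹ * g := by rw [← hgy, inv_mul_cancel_left]
  have cx'g : Commute x' g := by
    rw [hx'g, ← hi]; exact ((Commute.zpow_self g i).inv_left).mul_left (Commute.refl g)
  have cy'g : Commute y' g := by
    rw [hy'g, ← hj]; exact ((Commute.zpow_self g j).inv_left).mul_left (Commute.refl g)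
  have e : x⁻¹ * y = x' * y'⁻¹ := by
    rw [hx'g, hy'g, mul_inv_rev, inv_inv, mul_assoc, mul_inv_cancel_left]
  have cx'y' : Commute x' y'⁻¹ := by
    rw [hy'g, mul_inv_rev, inv_inv]
    refine cx'g.inv_right.mul_right ?_
    rw [← hj]; exact cx'g.zpow_right j
  have h1 : orderOf (x⁻¹ * y) ∣ p ^ (a + b) :=
    orderOf_dvd_of_pow_eq_one (by
      rw [cxy.mul_pow, inv_pow,
        orderOf_dvd_iff_pow_eq_one.mp (ha ▸ pow_dvd_pow p (Nat.le_add_right a b)),
        orderOf_dvd_iff_pow_eq_one.mp (hb ▸ pow_dvd_pow p (Nat.le_add_left b a))]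
      simp)
  have h2 : orderOf (x⁻¹ * y) ∣ orderOf x' * orderOf y' :=
    orderOf_dvd_of_pow_eq_one (by
      rw [e, cx'y'.mul_pow, inv_pow, orderOf_dvd_iff_pow_eq_one.mp (dvd_mul_right _ _),
        orderOf_dvd_iff_pow_eq_one.mp (dvd_mul_left _ _)]
      simp)
  have hcop : Nat.Coprime (p ^ (a + b)) (orderOf x' * orderOf y') :=
    (((Nat.Prime.coprime_iff_not_dvd hp).mpr hx').mul_right
      ((Nat.Prime.coprime_iff_not_dvd hp).mpr hy')).pow_left _
  have h3 := Nat.eq_one_of_dvd_coprimes hcop h1 h2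
  rw [orderOf_eq_one_iff, inv_mul_eq_one] at h3
  exact h3

theorem isPPart_map {K : Type u} [Group K] (φ : K →* G) (hφ : Function.Injective φ) {g x : K}
    (h : Cfsg.IsPPart p g x) : Cfsg.IsPPart p (φ g) (φ x) := by
  obtain ⟨x', hg, hc, ⟨a, ha⟩, hx'⟩ := h
  exact ⟨φ x', by rw [← map_mul, hg], hc.map φ, ⟨a, by rw [orderOf_injective φ hφ, ha]⟩,
    by rwa [orderOf_injective φ hφ]⟩

theorem isPPart_conj {g x : G} (h : Cfsg.IsPPart p g x) (v : G) :
    Cfsg.IsPPart p (v * g * v⁻¹) (v * x * v⁻¹) :=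
  isPPart_map (MulAut.conj v).toMonoidHom (MulAut.conj v).injective h

end PPart

variable {G : Type u} [Group G] [Finite G] {p : ℕ} {M : Ideal Cfsg.AlgInt} [M.IsMaximal]

local notation "𝓞" => localRing M
local notation "C[" P "]" => Subgroup.centralizer ((P : Subgroup G) : Set G)

/-! ## The extended idempotent -/

section Ext

variable (M)

/-- The principal block idempotent of a subgroup, in the group algebra of the whole group. -/
noncomputable def extPrinc (H : Subgroup G) : MonoidAlgebra 𝓞 G :=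
  MonoidAlgebra.mapDomainAlgHom 𝓞 𝓞 H.subtype
    (blockIdemR (isPBlock_principalBlock (M := M) (G := H))).1

variable {M}

omit [Finite G] [M.IsMaximal] in
theorem coeff_mapDomain_subtype {R : Type*} [CommRing R] (H : Subgroup G)
    (a : MonoidAlgebra R H) (g : G) [Decidable (g ∈ H)] :
    (MonoidAlgebra.mapDomainAlgHom R R H.subtype a).coeff g =
      if hg : g ∈ H then a.coeff ⟨g, hg⟩ else 0 := by
  classical
  induction a using MonoidAlgebra.induction_linear with
  | zero => simp
  | add f h hf hh => rw [map_add, coeff_add, Finsupp.add_apply, hf, hh]; split_ifs <;> simp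
  | single a r =>
    simp only [MonoidAlgebra.mapDomainAlgHom_apply, MonoidAlgebra.mapDomain_single, coeff_single,
      Finsupp.single_apply, Subgroup.coe_subtype]
    split_ifs with h1 h2 h2 <;> simp_all [Subtype.ext_iff, eq_comm]

open scoped Classical in
theorem coe_coeff_extPrinc (H : Subgroup G) (g : G) :
    ((extPrinc M H).coeff g : ℂ) =
      if hg : g ∈ H then Cfsg.blockCoeff (Cfsg.principalBlock M H) (⟨g, hg⟩ : H) else 0 := by
  rw [extPrinc, coeff_mapDomain_subtype]
  split_ifs
  · exact coe_coeff_blockIdemR _ _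
  · rfl

theorem extPrinc_mul_self (H : Subgroup G) : extPrinc M H * extPrinc M H = extPrinc M H := by
  rw [extPrinc, ← map_mul, ← Subalgebra.coe_mul, blockIdemR_mul_self]

theorem commute_extPrinc (H : Subgroup G) {u : G} (hu : u ∈ H) :
    Commute (single u (1 : 𝓞)) (extPrinc M H) := by
  have e : single u (1 : 𝓞) = MonoidAlgebra.mapDomainAlgHom 𝓞 𝓞 H.subtype
      (single (⟨u, hu⟩ : H) 1) := by simp
  rw [e, extPrinc]
  exact Commute.map
    (Subalgebra.mem_center_iff.mp (blockIdemR (isPBlock_principalBlock (M := M) (G := H))).2 _)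
    (MonoidAlgebra.mapDomainAlgHom 𝓞 𝓞 H.subtype)

variable [Fact p.Prime]

theorem val_extPrinc [CharP (Res M) p] {z : G}
    (ω : Center.Blk (Res M) C[Subgroup.zpowers z]) :
    Trunc.val (Subgroup.zpowers z) ω (red M (extPrinc M C[Subgroup.zpowers z])) =
      ω (Center.idem (Principal.princ (Res M) C[Subgroup.zpowers z])) := by
  classical
  have hfix : IsFixedBy C[Subgroup.zpowers z] (red M (extPrinc M C[Subgroup.zpowers z])) :=
    fun w hw h => by rw [coeff_red, coeff_red, coeff_conj_of_commute (commute_extPrinc _ hw)]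
  rw [Trunc.val_eq ω hfix]
  refine congrArg ω (Subtype.ext ?_)
  ext h
  have := Bridge.coeff_bidem (isPBlock_principalBlock (M := M) (G := C[Subgroup.zpowers z])) h
  rw [Bridge.blk_principalBlock] at this
  rw [Trunc.coeff_br, coeff_red]
  refine Eq.trans ?_ this.symm
  refine congrArg (residue M) (Subtype.ext ?_)
  rw [coe_coeff_extPrinc, dif_pos h.2]

end Ext

/-! ## Values on the section -/

variable [Fact p.Prime]

/-- On the section of `z`, right multiplication by the principal idempotent of `C z` keeps the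
characters of the principal block and kills the others. -/
theorem sum_extPrinc_apply [Fintype G] (hM : Cfsg.IsPModular p M) {g z : G}
    (hz : Cfsg.IsPPart p g z) (χ : Cfsg.IrrCharacter G)
    [Decidable (χ ∈ Cfsg.principalBlock M G)] :
    ∑ k : G, ((extPrinc M C[Subgroup.zpowers z]).coeff k : ℂ) * (χ : G → ℂ) (g * k) =
      if χ ∈ Cfsg.principalBlock M G then (χ : G → ℂ) g else 0 := by
  classical
  haveI := charP_res hM
  have hQ : IsPGroup p (Subgroup.zpowers z) := by
    obtain ⟨-, -, -, ⟨n, hn⟩, -⟩ := hz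
    exact IsPGroup.of_card (n := n) (by rw [Nat.card_zpowers, hn])
  set f := extPrinc M C[Subgroup.zpowers z] with hf
  have hfC : ∀ u, Commute u z → Commute (single u 1) f := fun u hu =>
    commute_extPrinc _ (mem_centralizer_zpowers_iff.mpr hu)
  split_ifs with hχ
  · refine (apply_eq_sum_of_val_eq_one hM isPBlock_principalBlock hz f (extPrinc_mul_self _) hfC
      (fun ω hω => ?_) hχ).symm
    rw [Bridge.blk_principalBlock, Principal.pairOf_princ_iff hQ] at hω
    rw [val_extPrinc, hω, Center.apply_idem_self]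
  · set B := Cfsg.blockOf M (χ : G → ℂ) with hBdef
    have hB : Cfsg.IsPBlock M B := ⟨χ, rfl⟩
    have hne : Bridge.blk hB ≠ Principal.princ (Res M) G := by
      intro e
      refine hχ ?_
      rw [← Bridge.toSet_blk (isPBlock_principalBlock (M := M) (G := G)),
        Bridge.blk_principalBlock, ← e, Bridge.toSet_blk]
      exact mem_blockOf_self χ
    have h1 := apply_eq_sum_of_val_eq_one hM hB hz (1 - f)
      (IsIdempotentElem.one_sub (extPrinc_mul_self _))
      (fun u hu => (Commute.one_right _).sub_right (hfC u hu)) (fun ω hω => ?_)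
      (mem_blockOf_self χ)
    · have hdec : ∀ k : G, (((1 - f).coeff k : 𝓞) : ℂ) =
          (if k = 1 then (1 : ℂ) else 0) - (f.coeff k : ℂ) := by
        intro k
        rw [coeff_sub, Finsupp.sub_apply, one_def, coeff_single, Finsupp.single_apply]
        simp only [eq_comm]
        split_ifs <;> simp
      simp only [hdec, sub_mul, Finset.sum_sub_distrib, ite_mul, one_mul, zero_mul,
        Finset.sum_ite_eq', Finset.mem_univ, if_true, mul_one] at h1
      exact sub_eq_self.mp h1.symm
    · have hω' : ω ≠ Principal.princ (Res M) C[Subgroup.zpowers z] := by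
        rintro rfl
        exact hne ((Maximal.existsUnique_pairOf _ hQ).unique hω (Principal.pairOf_princ hQ))
      have hfix : IsFixedBy C[Subgroup.zpowers z] (red M f) := fun w hw h => by
        rw [coeff_red, coeff_red, coeff_conj_of_commute (commute_extPrinc _ hw)]
      have hfix1 : IsFixedBy C[Subgroup.zpowers z] (1 - red M f) := fun w hw h => by
        rw [coeff_sub, Finsupp.sub_apply, Finsupp.sub_apply, hfix w hw h,
          Trunc.isFixedBy_one C[Subgroup.zpowers z] w hw h]
      rw [red, map_sub, map_one, ← red]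
      have hsum : Trunc.val _ ω (1 - red M f) + Trunc.val _ ω (red M f) = 1 := by
        rw [Trunc.val_eq ω hfix1, Trunc.val_eq ω hfix, ← map_add]
        refine Eq.trans (congrArg ω (Subtype.ext ?_)) (map_one ω)
        show Trunc.br _ (1 - red M f) + Trunc.br _ (red M f) = 1
        rw [← Trunc.br_add, sub_add_cancel, Trunc.br_one]
      rwa [hf, val_extPrinc, Center.apply_idem_ne hω', add_zero] at hsum

theorem sum_irr_mul_inv [Fintype G] [DecidableEq G] [Fintype (Cfsg.IrrCharacter G)] (g h : G) :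
    ∑ χ : Cfsg.IrrCharacter G, (χ : G → ℂ) g * (χ : G → ℂ) h⁻¹ =
      ∑ v : G, if g = v * h * v⁻¹ then (1 : ℂ) else 0 := by
  have h0 := sum_blockCoeff_conj (Set.univ : Set (Cfsg.IrrCharacter G)) g h
  rw [finsum_mem_univ, finsum_eq_sum_of_fintype] at h0
  rw [← h0]
  refine Finset.sum_congr rfl fun v _ => ?_
  have e := coeff_idem (Set.univ : Set (Cfsg.IrrCharacter G)) (g⁻¹ * (v * h * v⁻¹))
  rw [idem_univ, Subalgebra.coe_one, one_def, coeff_single, Finsupp.single_apply] at e
  rw [← e]
  refine if_congr ?_ rfl rfl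
  rw [eq_comm (a := (1 : G)), inv_mul_eq_one]

theorem centralizer_zpowers_eq (z : G) :
    C[Subgroup.zpowers z] = Subgroup.centralizer ({z} : Set G) := by
  ext d
  rw [mem_centralizer_zpowers_iff, Subgroup.mem_centralizer_singleton_iff]
  rfl

/-- The bilinear sums of the principal block of `G` on the section of `z` are those of the
centralizer. -/
theorem sum_principal_section_aux (hM : Cfsg.IsPModular p M) {z : G} {H : Subgroup G}
    (hH : H = C[Subgroup.zpowers z]) (g h : H)
    (hg : Cfsg.IsPPart p (g : G) z) (hh : Cfsg.IsPPart p (h : G) z) :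
    ∑ᶠ χ ∈ Cfsg.principalBlock M G, (χ : G → ℂ) g * (χ : G → ℂ) (h : G)⁻¹ =
      ∑ᶠ θ ∈ Cfsg.principalBlock M H, (θ : H → ℂ) g * (θ : H → ℂ) h⁻¹ := by
  classical
  haveI := Fintype.ofFinite G
  haveI := Fintype.ofFinite (Cfsg.IrrCharacter G)
  haveI := Fintype.ofFinite H
  have hmemH : ∀ d, d ∈ H ↔ Commute d z := fun d => by rw [hH, mem_centralizer_zpowers_iff]
  have hextr : ∀ (χ : Cfsg.IrrCharacter G) {x : G}, Cfsg.IsPPart p x z →
      ∑ k : G, ((extPrinc M H).coeff k : ℂ) * (χ : G → ℂ) (x * k) =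
        if χ ∈ Cfsg.principalBlock M G then (χ : G → ℂ) x else 0 := fun χ {x} hx => by
    rw [hH]; exact sum_extPrinc_apply hM hx χ
  set b := Cfsg.principalBlock M H with hb
  set e : G → ℂ := fun x => ((extPrinc M H).coeff x : ℂ) with he
  set T := ∑ᶠ θ ∈ b, (θ : H → ℂ) g * (θ : H → ℂ) h⁻¹ with hT
  have hexp : ∑ᶠ χ ∈ Cfsg.principalBlock M G, (χ : G → ℂ) g * (χ : G → ℂ) (h : G)⁻¹ =
      ∑ v : G, e ((g : G)⁻¹ * (v * (h : G) * v⁻¹)) := by
    rw [finsum_mem_eq_finite_toFinset_sum _ (Set.toFinite _)]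
    calc ∑ χ ∈ (Set.toFinite (Cfsg.principalBlock M G)).toFinset,
          (χ : G → ℂ) g * (χ : G → ℂ) (h : G)⁻¹
        = ∑ χ : Cfsg.IrrCharacter G,
            (if χ ∈ Cfsg.principalBlock M G then (χ : G → ℂ) g else 0) *
              (χ : G → ℂ) (h : G)⁻¹ := by
          simp only [ite_mul, zero_mul]
          rw [← Finset.sum_filter]
          exact Finset.sum_congr (by ext θ; simp) fun _ _ => rfl
      _ = ∑ χ : Cfsg.IrrCharacter G, ∑ k : G,
            e k * ((χ : G → ℂ) ((g : G) * k) * (χ : G → ℂ) (h : G)⁻¹) := by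
          refine Finset.sum_congr rfl fun χ _ => ?_
          rw [← hextr χ hg, Finset.sum_mul]
          simp only [he, mul_assoc]
      _ = ∑ k : G, e k * ∑ v : G, if (g : G) * k = v * (h : G) * v⁻¹ then (1 : ℂ) else 0 := by
          rw [Finset.sum_comm]
          simp only [← Finset.mul_sum, sum_irr_mul_inv]
      _ = _ := by
          simp only [Finset.mul_sum, mul_ite, mul_one, mul_zero]
          rw [Finset.sum_comm]
          refine Finset.sum_congr rfl fun v _ => ?_
          simp only [← eq_inv_mul_iff_mul_eq, Finset.sum_ite_eq', Finset.mem_univ, if_true]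
  have key : ∀ v : G, ∑ w : H, e ((g : G)⁻¹ * ((w * v) * (h : G) * (w * v : G)⁻¹)) =
      if v ∈ H then T else 0 := by
    intro v
    by_cases hx : v * (h : G) * v⁻¹ ∈ H
    · set x : H := ⟨v * (h : G) * v⁻¹, hx⟩ with hxdef
      have hterm : ∀ w : H, e ((g : G)⁻¹ * ((w * v) * (h : G) * (w * v : G)⁻¹)) =
          Cfsg.blockCoeff b (g⁻¹ * (w * x * w⁻¹)) := by
        intro w
        have e1 : (g : G)⁻¹ * ((w * v) * (h : G) * (w * v : G)⁻¹) =
            ((g⁻¹ * (w * x * w⁻¹) : H) : G) := by
          simp [hxdef, mul_assoc]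
        simp only [he, coe_coeff_extPrinc]
        rw [e1, dif_pos (g⁻¹ * (w * x * w⁻¹) : H).2]
      rw [Finset.sum_congr rfl fun w _ => hterm w, sum_blockCoeff_conj]
      split_ifs with hv
      · refine finsum_congr fun θ => finsum_congr fun _ => ?_
        have hx' : x = ⟨v, hv⟩ * h * (⟨v, hv⟩ : H)⁻¹ := Subtype.ext rfl
        rw [hx', mul_inv_rev, mul_inv_rev, inv_inv, ← mul_assoc, char_conj_apply]
      · obtain ⟨u, hu⟩ := exists_isPPart hM.1 x
        have hp := hM.1
        have hu' : (u : G) = v * z * v⁻¹ :=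
          isPPart_unique hp (isPPart_map H.subtype Subtype.val_injective hu) (isPPart_conj hh v)
        have hzH : z ∈ H := (hmemH z).mpr (Commute.refl z)
        have hgz : Cfsg.IsPPart p g (⟨z, hzH⟩ : H) := by
          obtain ⟨y, hy⟩ := exists_isPPart hp g
          have : (y : G) = z :=
            isPPart_unique hp (isPPart_map H.subtype Subtype.val_injective hy) hg
          rwa [show (⟨z, hzH⟩ : H) = y from Subtype.ext this.symm]
        refine sum_block_eq_zero hM hgz hu (fun hconj => hv ?_) isPBlock_principalBlock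
        obtain ⟨c, hc⟩ := isConj_iff.mp hconj
        have hc' : (c : G) * z * (c : G)⁻¹ = (u : G) := congrArg Subtype.val hc
        rw [((hmemH c).mp c.2).eq, mul_inv_cancel_right, hu',
          eq_mul_inv_iff_mul_eq] at hc'
        exact (hmemH v).mpr hc'.symm
    · have hv : v ∉ H := fun hv => hx (H.mul_mem (H.mul_mem hv h.2) (H.inv_mem hv))
      rw [if_neg hv]
      refine Finset.sum_eq_zero fun w _ => ?_
      simp only [he, coe_coeff_extPrinc]
      rw [dif_neg]
      intro hmem
      apply hx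
      have h1 := H.mul_mem g.2 hmem
      rw [mul_inv_cancel_left] at h1
      have h2 := H.mul_mem (H.mul_mem (H.inv_mem w.2) h1) w.2
      have e2 : (w : G)⁻¹ * ((w * v) * (h : G) * (w * v : G)⁻¹) * w = v * (h : G) * v⁻¹ := by
        simp [mul_assoc]
      rwa [e2] at h2
  rw [hexp]
  have havg : (Fintype.card H : ℂ) * ∑ v : G, e ((g : G)⁻¹ * (v * (h : G) * v⁻¹)) =
      (Fintype.card H : ℂ) * T := by
    calc _ = ∑ w : H, ∑ v : G, e ((g : G)⁻¹ * ((w * v) * (h : G) * (w * v : G)⁻¹)) := by
          rw [← nsmul_eq_mul, ← Finset.card_univ, ← Finset.sum_const]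
          refine Finset.sum_congr rfl fun w _ => ?_
          exact (Fintype.sum_equiv (Equiv.mulLeft (w : G)) _ _ fun v => rfl).symm
      _ = ∑ v : G, if v ∈ H then T else 0 := by
          rw [Finset.sum_comm]
          exact Finset.sum_congr rfl fun v _ => key v
      _ = _ := by
          rw [← Finset.sum_filter, Finset.sum_const, nsmul_eq_mul, ← Fintype.card_subtype]
  exact mul_left_cancel₀ (Nat.cast_ne_zero.mpr Fintype.card_ne_zero) havg

/-- The principal block of `G` on the section of `z` against that of `C(z)`. -/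
theorem sum_principal_section (hM : Cfsg.IsPModular p M) {z : G}
    (g h : Subgroup.centralizer ({z} : Set G))
    (hg : Cfsg.IsPPart p (g : G) z) (hh : Cfsg.IsPPart p (h : G) z) :
    ∑ᶠ χ ∈ Cfsg.principalBlock M G, (χ : G → ℂ) g * (χ : G → ℂ) (h : G)⁻¹ =
      ∑ᶠ θ ∈ Cfsg.principalBlock M (Subgroup.centralizer ({z} : Set G)),
        (θ : Subgroup.centralizer ({z} : Set G) → ℂ) g *
          (θ : Subgroup.centralizer ({z} : Set G) → ℂ) h⁻¹ := by
  exact sum_principal_section_aux hM (centralizer_zpowers_eq z).symm g h hg hh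

/-- A central element acts by a scalar of modulus one. -/
theorem char_central_mul_mul_inv {c : G} (hc : ∀ g, Commute c g) (θ : Cfsg.IrrCharacter G)
    (y : G) : (θ : G → ℂ) (c * y) * (θ : G → ℂ) (c * y)⁻¹ = (θ : G → ℂ) y * (θ : G → ℂ) y⁻¹ := by
  have hone := char_one_ne_zero θ
  have hcen : ∀ d : G, (∀ g, Commute d g) →
      (single d (1 : ℂ)) ∈ Subalgebra.center ℂ (MonoidAlgebra ℂ G) := fun d hd => by
    rw [mem_center_iff_coeff]
    intro u x
    classical
    simp only [coeff_single, Finsupp.single_apply]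
    refine if_congr ?_ rfl rfl
    constructor
    · rintro rfl
      have h := (hd u).eq
      rw [inv_mul_cancel_right] at h
      exact mul_left_cancel h.symm
    · rintro rfl
      rw [← (hd u).eq, mul_inv_cancel_right]
  have hmul : ∀ d : G, (∀ g, Commute d g) → ∀ w, (θ : G → ℂ) (d * w) =
      (θ : G → ℂ) d / (θ : G → ℂ) 1 * (θ : G → ℂ) w := fun d hd w => by
    have h := lin_center_mul θ (hcen d hd) (single w 1)
    rwa [single_mul_single, one_mul, lin_single, lin_single, lin_single, one_mul, one_mul,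
      one_mul] at h
  have hc' : ∀ g, Commute c⁻¹ g := fun g => (hc g).inv_left
  rw [mul_inv_rev, ← (hc' y⁻¹).eq, hmul c hc, hmul c⁻¹ hc']
  have h1 := hmul c hc c⁻¹
  rw [mul_inv_cancel] at h1
  field_simp
  field_simp at h1
  linear_combination (-(θ : G → ℂ) y * (θ : G → ℂ) y⁻¹) * h1

/-- With a normal p-complement `K`, the principal block consists of the characters trivial on
`K`. -/
theorem principalBlock_eq_trivialOn (hM : Cfsg.IsPModular p M) (K : Subgroup G) [K.Normal]
    (hK : ¬ p ∣ Nat.card K) (hidx : ∃ k : ℕ, K.index = p ^ k) :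
    Cfsg.principalBlock M G =
      {θ : Cfsg.IrrCharacter G | ∀ n ∈ K, (θ : G → ℂ) n = (θ : G → ℂ) 1} := by
  have h1 : ∀ n ∈ K, (oneChar G : G → ℂ) n = (oneChar G : G → ℂ) 1 := fun _ _ => rfl
  refine Set.eq_of_subset_of_subset
    (fun θ hθ => Inflation.blockOf_subset_trivialOn hM K hK h1 hθ) fun θ hθ => ?_
  obtain ⟨k, hk⟩ := hidx
  have hP : IsPGroup p (G ⧸ K) := IsPGroup.of_card (n := k) (by rw [← Subgroup.index_eq_card, hk])
  have hf := QuotientGroup.mk'_surjective K
  obtain ⟨θ', rfl⟩ := Inflation.exists_infl (QuotientGroup.mk' K) hf θ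
    (fun g hg => hθ g ((QuotientGroup.eq_one_iff g).mp hg))
  have h2 : Inflation.infl (QuotientGroup.mk' K) hf (oneChar (G ⧸ K)) = oneChar G :=
    Subtype.ext rfl
  have h3 := Inflation.sameBlock_infl (QuotientGroup.mk' K) hf
    (PKernel.sameBlock_of_isPGroup hM hP (oneChar (G ⧸ K)) θ')
  rwa [h2] at h3

/-- The sum of the squares of the degrees of the characters trivial on `K`. -/
theorem sum_sq_trivialOn (K : Subgroup G) [K.Normal] :
    ∑ᶠ θ ∈ {θ : Cfsg.IrrCharacter G | ∀ n ∈ K, (θ : G → ℂ) n = (θ : G → ℂ) 1},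
      (θ : G → ℂ) 1 * (θ : G → ℂ) 1 = (K.index : ℂ) := by
  have h := Inflation.blockCoeff_trivialOn K (1 : G)
  rw [Cfsg.blockCoeff, if_pos (one_mem K), inv_mul_eq_iff_eq_mul₀
    (Nat.cast_ne_zero.mpr Nat.card_pos.ne'), ← K.card_mul_index, Nat.cast_mul, mul_comm (Nat.card K : ℂ),
    mul_assoc, mul_inv_cancel₀ (Nat.cast_ne_zero.mpr Nat.card_pos.ne'), mul_one] at h
  rw [← h]
  refine finsum_congr fun θ => finsum_congr fun _ => ?_
  rw [conj_apply_one (isCharacter_irr θ)]

end Cfsg.Agent.Lib.BrauerMap.PrincipalSection
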