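import Cfsg.Agent.Lib.BrauerMap.ClassSum
import Mathlib.Algebra.CharP.Lemmas
import Mathlib.Algebra.MonoidAlgebra.MapDomain
import Mathlib.Data.ZMod.Basic
import Mathlib.GroupTheory.QuotientGroup.Basic
import Mathlib.Algebra.Field.ZMod

/-!
# Class sums outside the centraliser of a normal p-subgroup are nilpotent
-/

namespace Cfsg.Agent.Lib.BrauerMap.Nilpotent

open MonoidAlgebra Cfsg.Agent.Lib.BrauerMap.Basic Cfsg.Agent.Lib.BrauerMap.ClassSum

/-- A sum of an invariant function on a set without fixed points vanishes when p kills the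
values. -/
theorem sum_eq_zero_of_no_fixed {p : ℕ} [Fact p.Prime] {P : Type*} [Group P] (hP : IsPGroup p P)
    {X : Type*} [Fintype X] [MulAction P X] {V : Type*} [AddCommMonoid V]
    (hV : ∀ v : V, p • v = 0) (f : X → V) (hf : ∀ (u : P) (x : X), f (u • x) = f x)
    (hnf : ∀ x : X, x ∉ MulAction.fixedPoints P X) :
    ∑ x, f x = 0 := by
  classical
  rw [← Finset.sum_fiberwise_of_maps_to (g := f) (t := Finset.univ.image f)
    (fun x _ => Finset.mem_image_of_mem f (Finset.mem_univ x))]
  refine Finset.sum_eq_zero fun v _ => ?_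
  rw [Finset.sum_congr rfl (g := fun _ => v) (fun x hx => (Finset.mem_filter.1 hx).2),
    Finset.sum_const]
  let Y : SubMulAction P X :=
    { carrier := {x | f x = v}
      smul_mem' := fun u x hx => by
        change f (u • x) = v
        rw [hf u x]; exact hx }
  have h := hP.card_modEq_card_fixedPoints Y
  have h0 : Nat.card (MulAction.fixedPoints P Y) = 0 := by
    haveI : IsEmpty (MulAction.fixedPoints P Y) :=
      ⟨fun y => hnf y.1.1 fun u => congrArg Subtype.val (y.2 u)⟩
    exact Nat.card_of_isEmpty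
  rw [h0, Nat.modEq_zero_iff_dvd] at h
  obtain ⟨c, hc⟩ := h
  have h1 : Nat.card Y = (Finset.univ.filter fun x => f x = v).card := by
    rw [Nat.card_eq_fintype_card, ← Fintype.card_subtype]
    exact Fintype.card_congr (Equiv.refl _)
  rw [← h1, hc, mul_nsmul, hV, nsmul_zero]

variable {H : Type*} [Group H] [Finite H]

theorem classSum_eq_sum {k : Type*} [CommRing k] [Fintype H] (h : H)
    [Fintype {a : H // IsConj h a}] :
    classSum k h = ∑ a : {a : H // IsConj h a}, single (a : H) 1 := by
  classical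
  ext g
  rw [coeff_classSum, coeff_sum, Finsupp.finsetSum_apply]
  simp only [coeff_single, Finsupp.single_apply]
  split_ifs with hg
  · rw [Finset.sum_eq_single ⟨g, hg⟩]
    · simp
    · intro b _ hb
      exact if_neg fun e => hb (Subtype.ext e)
    · simp
  · symm
    refine Finset.sum_eq_zero ?_
    intro b _
    rw [if_neg]
    intro e
    exact hg (e ▸ b.2)

variable (k : Type*) [CommRing k] {p : ℕ} [Fact p.Prime] [CharP k p]

theorem isNilpotent_classSum_zmod {P : Subgroup H} [hPn : P.Normal] (hP : IsPGroup p P) {h : H}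
    (hh : h ∉ Subgroup.centralizer (P : Set H)) :
    IsNilpotent (classSum (ZMod p) h) := by
  classical
  haveI := Fintype.ofFinite H
  haveI : NeZero p := ⟨(Fact.out : p.Prime).ne_zero⟩
  set R := MonoidAlgebra (ZMod p) H
  set c : R := classSum (ZMod p) h with hc
  have hcomm : ∀ x : R, x * c = c * x := fun x =>
    Subalgebra.mem_center_iff.1 (classSum_mem_center h) x
  let W : AddSubgroup R :=
    { carrier := {x | ∃ n : ℕ, c ^ n * x = 0}
      zero_mem' := ⟨0, by simp⟩
      add_mem' := by
        rintro x y ⟨n, hn⟩ ⟨m, hm⟩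
        refine ⟨n + m, ?_⟩
        rw [mul_add]
        nth_rw 1 [add_comm n m]
        rw [pow_add, pow_add, mul_assoc, mul_assoc, hn, hm, mul_zero, mul_zero, add_zero]
      neg_mem' := by
        rintro x ⟨n, hn⟩
        exact ⟨n, by rw [mul_neg, hn, neg_zero]⟩ }
  have hW : ∀ (y x : R), x ∈ W → y * x ∈ W := by
    rintro y x ⟨n, hn⟩
    refine ⟨n, ?_⟩
    have hc' : Commute y c := hcomm y
    rw [← mul_assoc, ← (hc'.pow_right n).eq, mul_assoc, hn, mul_zero]
  suffices h1 : (1 : R) ∈ W by
    obtain ⟨n, hn⟩ := h1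
    exact ⟨n, by rwa [mul_one] at hn⟩
  by_contra hone
  let V := R ⧸ W
  have hpV : ∀ v : V, p • v = 0 := by
    intro v
    obtain ⟨x, rfl⟩ := QuotientAddGroup.mk'_surjective W v
    have hx : p • x = 0 := by
      ext g
      rw [coeff_smul, Finsupp.smul_apply, nsmul_eq_mul, CharP.cast_eq_zero, zero_mul]; rfl
    rw [← map_nsmul, hx, map_zero]
  let L : H → V →+ V := fun u => QuotientAddGroup.map W W (AddMonoidHom.mulLeft (single u 1))
    (fun x hx => hW _ x hx)
  have hL : ∀ (u : H) (x : R), L u (QuotientAddGroup.mk' W x) =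
      QuotientAddGroup.mk' W (single u 1 * x) := fun u x => rfl
  have hL1 : ∀ v, L 1 v = v := fun v => by
    obtain ⟨x, rfl⟩ := QuotientAddGroup.mk'_surjective W v
    rw [hL, ← one_def, one_mul]
  have hLm : ∀ u u' v, L (u * u') v = L u (L u' v) := fun u u' v => by
    obtain ⟨x, rfl⟩ := QuotientAddGroup.mk'_surjective W v
    rw [hL, hL, hL, ← mul_assoc, single_mul_single, one_mul]
  let act : MulAction P V :=
    { smul := fun u v => L (u : H) v
      mul_smul := fun u u' v => hLm u u' v
      one_smul := fun v => hL1 v }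
  haveI : Finite R := Finite.of_injective (fun x : R => (x.coeff : H → ZMod p))
    fun x y e => coeff_injective (Finsupp.ext (congrFun e))
  haveI : Finite V := Quotient.finite _
  have hne : (QuotientAddGroup.mk' W (1 : R)) ≠ 0 := fun e =>
    hone ((QuotientAddGroup.eq_zero_iff (1 : R)).1 e)
  have hdvd : p ∣ Nat.card V := by
    have := addOrderOf_eq_prime (hpV _) hne
    rw [← this]
    exact addOrderOf_dvd_natCard _
  have h0 : (0 : V) ∈ MulAction.fixedPoints P V := fun u => map_zero (L (u : H))
  obtain ⟨v, hv, hv0⟩ := hP.exists_fixed_point_of_prime_dvd_card_of_fixed_point V hdvd h0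
  obtain ⟨x, rfl⟩ := QuotientAddGroup.mk'_surjective W v
  apply hv0
  refine ((QuotientAddGroup.eq_zero_iff x).2 ?_).symm
  suffices hcx : c * x ∈ W by
    obtain ⟨n, hn⟩ := hcx
    exact ⟨n + 1, by rw [pow_succ, mul_assoc]; exact hn⟩
  rw [← QuotientAddGroup.eq_zero_iff]
  change QuotientAddGroup.mk' W (c * x) = 0
  have hfin : Finite {a : H // IsConj h a} := Subtype.finite
  haveI := Fintype.ofFinite {a : H // IsConj h a}
  rw [hc, classSum_eq_sum, Finset.sum_mul, map_sum]
  letI actX : MulAction P {a : H // IsConj h a} :=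
    { smul := fun u a => ⟨(u : H) * a.1 * (u : H)⁻¹, a.2.trans (isConj_iff.2 ⟨u, rfl⟩)⟩
      mul_smul := fun u u' a => Subtype.ext (by
        change ((u : H) * u') * a.1 * ((u : H) * u')⁻¹ = _
        simp [HSMul.hSMul, mul_assoc])
      one_smul := fun a => Subtype.ext (by
        change (1 : H) * a.1 * (1 : H)⁻¹ = _
        simp) }
  refine sum_eq_zero_of_no_fixed hP hpV _ ?_ ?_
  · intro u a
    rw [← hL, ← hL]
    change L ((u : H) * (a : H) * (u : H)⁻¹) _ = _
    rw [mul_assoc (u : H), hLm, hLm]
    have hu : L ((u : H)⁻¹) (QuotientAddGroup.mk' W x) = QuotientAddGroup.mk' W x := by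
      have := hv u⁻¹
      exact this
    rw [hu]
    have hmem : (a : H)⁻¹ * (u : H) * (a : H) ∈ P := by
      have := hPn.conj_mem (u : H) u.2 (a : H)⁻¹
      simpa using this
    have hfix : L ((a : H)⁻¹ * (u : H) * (a : H)) (QuotientAddGroup.mk' W x) =
        QuotientAddGroup.mk' W x := hv ⟨_, hmem⟩
    conv_rhs => rw [← hfix]
    rw [← hLm, ← hLm]
    congr 1
    simp [mul_assoc]
  · intro a hfix
    apply hh
    obtain ⟨d, hd⟩ := isConj_iff.1 a.2
    rw [Subgroup.mem_centralizer_iff]
    intro q hq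
    have hq' : d * q * d⁻¹ ∈ P := hPn.conj_mem q hq d
    have h1 : d * q * d⁻¹ * (a : H) * (d * q * d⁻¹)⁻¹ = (a : H) :=
      congrArg Subtype.val (hfix ⟨_, hq'⟩)
    rw [← hd] at h1
    have h2 : d * (q * h * q⁻¹) * d⁻¹ = d * h * d⁻¹ := by rw [← h1]; group
    have h3 : q * h * q⁻¹ = h := by simpa using h2
    rwa [mul_inv_eq_iff_eq_mul] at h3

/-- Over a commutative ring of characteristic p the class sum of an element not centralising a
normal p-subgroup is nilpotent. -/
theorem isNilpotent_classSum {P : Subgroup H} [P.Normal] (hP : IsPGroup p P) {h : H}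
    (hh : h ∉ Subgroup.centralizer (P : Set H)) :
    IsNilpotent (classSumC k h) := by
  obtain ⟨n, hn⟩ := isNilpotent_classSum_zmod hP hh
  refine ⟨n, Subtype.ext ?_⟩
  have hmap : MonoidAlgebra.mapRingHom H (ZMod.castHom dvd_rfl k) (classSum (ZMod p) h) =
      classSum k h := by
    ext g
    rw [coeff_mapRingHom, coeff_classSum, coeff_classSum]
    split_ifs <;> simp
  rw [SubmonoidClass.coe_pow, ZeroMemClass.coe_zero]
  change classSum k h ^ n = 0
  rw [← hmap, ← map_pow, hn, map_zero]

/-- An algebra homomorphism of the centre to a field kills these class sums. -/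
theorem algHom_classSum_eq_zero {K : Type*} [Field K] [CharP K p] {P : Subgroup H} [P.Normal]
    (hP : IsPGroup p P) {h : H} (hh : h ∉ Subgroup.centralizer (P : Set H))
    (lam : Subalgebra.center K (MonoidAlgebra K H) →ₐ[K] K) :
    lam (classSumC K h) = 0 :=
  by
  obtain ⟨n, hn⟩ := isNilpotent_classSum K hP hh
  refine IsNilpotent.eq_zero ⟨n, ?_⟩
  rw [← map_pow, hn, map_zero]

end Cfsg.Agent.Lib.BrauerMap.Nilpotent
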