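import Cfsg.Agent.Lib.Blocks.Central
import Cfsg.Agent.Lib.BrauerMap.Nilpotent

/-!
# Induced central characters modulo M and the Brauer homomorphism
-/

namespace Cfsg.Agent.Lib.BrauerMap.Induced

open MonoidAlgebra Cfsg.Agent.Lib.BrauerMap.Basic Cfsg.Agent.Lib.BrauerMap.ClassSum
  Cfsg.Agent.Lib.BrauerMap.Nilpotent Cfsg.Agent.Lib.Blocks

universe u

variable {G : Type u} [Group G] [Finite G]

open scoped Classical in
/-- The value of an irreducible character over a conjugation invariant set, class by class. -/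
theorem finsum_eq_sum_centralChar {H : Type u} [Group H] [Finite H] [Fintype (ConjClasses H)]
    (S : Set H) (hS : ∀ a b : H, IsConj a b → a ∈ S → b ∈ S) (ξ : Cfsg.IrrCharacter H) :
    ∑ᶠ h ∈ S, (ξ : H → ℂ) h / (ξ : H → ℂ) 1 =
      ∑ c : ConjClasses H with c.out ∈ S, Cfsg.centralChar (ξ : H → ℂ) c.out := by
  haveI := Fintype.ofFinite H
  rw [finsum_mem_eq_sum_of_subset (s := S) (t := Finset.univ.filter fun a => a ∈ S)
    (f := fun h => (ξ : H → ℂ) h / (ξ : H → ℂ) 1)
    (fun a ha => Finset.mem_coe.2 (Finset.mem_filter.2 ⟨Finset.mem_univ _, ha.1⟩))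
    (fun a ha => (Finset.mem_filter.1 (Finset.mem_coe.1 ha)).2),
    sum_invariant S hS _ (fun a b e => by rw [char_eq_of_isConj ξ e])]
  refine Finset.sum_congr rfl fun c _ => ?_
  rw [Cfsg.centralChar, card_isConj, nsmul_eq_mul, mul_div_assoc]

theorem mem_centralizer_conj {P H : Subgroup G} (hN : H ≤ Subgroup.normalizer (P : Set G))
    {a b : H} (e : IsConj a b) (ha : (a : G) ∈ Subgroup.centralizer (P : Set G)) :
    (b : G) ∈ Subgroup.centralizer (P : Set G) := by
  obtain ⟨c, rfl⟩ := isConj_iff.1 e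
  have hc := hN c.2
  rw [Subgroup.mem_centralizer_iff] at ha ⊢
  intro q hq
  have h1 := ha _ ((Subgroup.mem_normalizer_iff''.1 hc q).1 hq)
  have h2 := congrArg (fun t => (c : G) * t * (c : G)⁻¹) h1
  simpa [mul_assoc] using h2

theorem isConj_coe {H : Subgroup G} {a b : H} (e : IsConj a b) : IsConj (a : G) (b : G) := by
  obtain ⟨c, rfl⟩ := isConj_iff.1 e
  exact isConj_iff.2 ⟨c, by simp⟩

open scoped Classical in
theorem brauerCentralChar_eq_sum {P H : Subgroup G} [Fintype (ConjClasses H)]
    (hN : H ≤ Subgroup.normalizer (P : Set G)) (ξ : Cfsg.IrrCharacter H) (g : G) :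
    Cfsg.brauerCentralChar P H (ξ : H → ℂ) g =
      ∑ c : ConjClasses H with
        c.out ∈ {h : H | IsConj g (h : G) ∧ (h : G) ∈ Subgroup.centralizer (P : Set G)},
        Cfsg.centralChar (ξ : H → ℂ) c.out := by
  unfold Cfsg.brauerCentralChar
  convert finsum_eq_sum_centralChar
    {h : H | IsConj g (h : G) ∧ (h : G) ∈ Subgroup.centralizer (P : Set G)}
    (fun _ _ e h => ⟨h.1.trans (isConj_coe e), mem_centralizer_conj hN e h.2⟩) ξ using 2
  ext c; simp

theorem centralizer_bot : Subgroup.centralizer ((⊥ : Subgroup G) : Set G) = ⊤ := by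
  refine eq_top_iff.2 fun x _ => Subgroup.mem_centralizer_iff.2 fun q hq => ?_
  rw [Subgroup.mem_bot.1 hq, one_mul, mul_one]

theorem le_normalizer_bot (H : Subgroup G) :
    H ≤ Subgroup.normalizer (((⊥ : Subgroup G) : Set G)) := fun x _ => by
  refine Subgroup.mem_normalizer_iff.2 fun q => ?_
  simp [conj_eq_one_iff]

theorem inducedCentralChar_eq_brauer (H : Subgroup G) (ξ : H → ℂ) (g : G) :
    Cfsg.inducedCentralChar H ξ g = Cfsg.brauerCentralChar ⊥ H ξ g := by
  have hs : {h : H | IsConj g (h : G)} =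
      {h : H | IsConj g (h : G) ∧ (h : G) ∈ Subgroup.centralizer ((⊥ : Subgroup G) : Set G)} := by
    ext h
    exact ⟨fun hh => ⟨hh, by rw [centralizer_bot]; exact Subgroup.mem_top _⟩, fun hh => hh.1⟩
  rw [Cfsg.inducedCentralChar, Cfsg.brauerCentralChar, hs]

open scoped Classical in
theorem inducedCentralChar_eq_sum {H : Subgroup G} [Fintype (ConjClasses H)]
    (ξ : Cfsg.IrrCharacter H) (g : G) :
    Cfsg.inducedCentralChar H (ξ : H → ℂ) g =
      ∑ c : ConjClasses H with IsConj g (c.out : G), Cfsg.centralChar (ξ : H → ℂ) c.out := by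
  unfold Cfsg.inducedCentralChar
  convert finsum_eq_sum_centralChar {h : H | IsConj g (h : G)}
    (fun _ _ e h => h.trans (isConj_coe e)) ξ using 2
  ext c; simp

variable {M : Ideal Cfsg.AlgInt} [M.IsMaximal]

theorem brauerCentralChar_mem_localRing {P H : Subgroup G}
    (hN : H ≤ Subgroup.normalizer (P : Set G)) (ξ : Cfsg.IrrCharacter H) (g : G) :
    Cfsg.brauerCentralChar P H (ξ : H → ℂ) g ∈ localRing M := by
  classical
  haveI : Finite (ConjClasses H) := Quotient.finite _
  haveI := Fintype.ofFinite (ConjClasses H)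
  rw [brauerCentralChar_eq_sum hN]
  exact sum_mem fun c _ => centralChar_mem_localRing ξ _

theorem inducedCentralChar_mem_localRing {H : Subgroup G} (ξ : Cfsg.IrrCharacter H) (g : G) :
    Cfsg.inducedCentralChar H (ξ : H → ℂ) g ∈ localRing M := by
  rw [inducedCentralChar_eq_brauer]
  exact brauerCentralChar_mem_localRing (le_normalizer_bot H) ξ g

variable (M) in
/-- The Brauer central character, in the local ring. -/
noncomputable def bcR (P H : Subgroup G) (hN : H ≤ Subgroup.normalizer (P : Set G))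
    (ξ : Cfsg.IrrCharacter H) (g : G) : localRing M :=
  ⟨_, brauerCentralChar_mem_localRing hN ξ g⟩

variable (M) in
/-- The induced central character, in the local ring. -/
noncomputable def icR (H : Subgroup G) (ξ : Cfsg.IrrCharacter H) (g : G) : localRing M :=
  ⟨_, inducedCentralChar_mem_localRing ξ g⟩

open scoped Classical in
theorem bcR_eq_sum {P H : Subgroup G} [Fintype (ConjClasses H)]
    (hN : H ≤ Subgroup.normalizer (P : Set G)) (ξ : Cfsg.IrrCharacter H) (g : G) :
    bcR M P H hN ξ g = ∑ c : ConjClasses H with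
        c.out ∈ {h : H | IsConj g (h : G) ∧ (h : G) ∈ Subgroup.centralizer (P : Set G)},
        ccR M ξ c.out := by
  apply Subtype.ext
  rw [AddSubmonoidClass.coe_finsetSum]
  exact brauerCentralChar_eq_sum hN ξ g

/-- The reduced Brauer central character is the reduced central character after the Brauer
map. -/
theorem omegaBar_brauerTo {P H : Subgroup G} (hN : H ≤ Subgroup.normalizer (P : Set G))
    (ξ : Cfsg.IrrCharacter H) (g : G) :
    omegaBar M ξ ⟨brauerTo P H (classSum (Cfsg.AlgInt ⧸ M) g),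
        brauerTo_mem_center hN (classSum_mem_center g)⟩ =
      residue M (bcR M P H hN ξ g) := by
  classical
  haveI : Finite (ConjClasses H) := Quotient.finite _
  haveI := Fintype.ofFinite (ConjClasses H)
  rw [bcR_eq_sum hN, map_sum]
  have e : (⟨brauerTo P H (classSum (Cfsg.AlgInt ⧸ M) g),
      brauerTo_mem_center hN (classSum_mem_center g)⟩ :
        Subalgebra.center (Cfsg.AlgInt ⧸ M) (MonoidAlgebra (Cfsg.AlgInt ⧸ M) H)) =
      ∑ c : ConjClasses H with
        c.out ∈ {h : H | IsConj g (h : G) ∧ (h : G) ∈ Subgroup.centralizer (P : Set G)},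
        classSumC (Cfsg.AlgInt ⧸ M) c.out := by
    apply Subtype.ext
    rw [AddSubmonoidClass.coe_finsetSum]
    exact brauerTo_classSum P H hN g
  rw [e, map_sum]
  exact Finset.sum_congr rfl fun c _ => omegaBar_classSumC ξ _

variable (M) in
/-- The reduced induced central character, linear on the centre of k[G]. -/
noncomputable def inducedBar (H : Subgroup G) (ξ : Cfsg.IrrCharacter H) :
    Subalgebra.center (Cfsg.AlgInt ⧸ M) (MonoidAlgebra (Cfsg.AlgInt ⧸ M) G)
      →ₗ[Cfsg.AlgInt ⧸ M] Cfsg.AlgInt ⧸ M where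
  toFun x := omegaBar M ξ ⟨brauerTo ⊥ H x.1, brauerTo_mem_center (le_normalizer_bot H) x.2⟩
  map_add' x y := by
    rw [← map_add]
    exact congrArg _ (Subtype.ext (brauerTo_add ⊥ H x.1 y.1))
  map_smul' r x := by
    rw [RingHom.id_apply, ← map_smul]
    exact congrArg _ (Subtype.ext (brauerTo_smul ⊥ H r x.1))

theorem inducedBar_classSumC (H : Subgroup G) (ξ : Cfsg.IrrCharacter H) (g : G) :
    inducedBar M H ξ (classSumC (Cfsg.AlgInt ⧸ M) g) = residue M (icR M H ξ g) := by
  refine (omegaBar_brauerTo (le_normalizer_bot H) ξ g).trans (congrArg _ (Subtype.ext ?_))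
  exact (inducedCentralChar_eq_brauer H _ g).symm

/-- The congruence defining induced blocks, for one pair of characters. -/
theorem induced_congr_iff {H : Subgroup G} (ξ : Cfsg.IrrCharacter H) (χ : Cfsg.IrrCharacter G) :
    (∀ g : G, Cfsg.MemLocalIdeal M
      (Cfsg.inducedCentralChar H (ξ : H → ℂ) g - Cfsg.centralChar (χ : G → ℂ) g)) ↔
      ∀ g : G, residue M (icR M H ξ g) = residue M (ccR M χ g) := by
  refine forall_congr' fun g => ?_
  rw [← memLocalIdeal_sub_iff]
  rfl

theorem inducedCentralChar_congr {H : Subgroup G} {ξ ξ' : Cfsg.IrrCharacter H}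
    (h : Cfsg.SameBlock M (ξ : H → ℂ) (ξ' : H → ℂ)) (g : G) :
    residue M (icR M H ξ g) = residue M (icR M H ξ' g) := by
  rw [← inducedBar_classSumC, ← inducedBar_classSumC]
  change omegaBar M ξ _ = omegaBar M ξ' _
  rw [sameBlock_iff_omegaBar.1 h]

variable {p : ℕ} [Fact p.Prime]

/-- For C(P) ≤ H ≤ N(P) and P a p-subgroup of H the reduced induced central character equals
the reduced Brauer central character. -/
theorem inducedBar_eq_brauer [CharP (Cfsg.AlgInt ⧸ M) p] {P H : Subgroup G} (hP : IsPGroup p P)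
    (hPH : P ≤ H) (hC : Subgroup.centralizer (P : Set G) ≤ H)
    (hN : H ≤ Subgroup.normalizer (P : Set G)) (ξ : Cfsg.IrrCharacter H) :
    inducedBar M H ξ = ((omegaBar M ξ).comp (brauerHom hP hC hN)).toLinearMap := by
  classical
  letI := Ideal.Quotient.field M
  haveI : Finite (ConjClasses H) := Quotient.finite _
  haveI := Fintype.ofFinite (ConjClasses H)
  haveI : Finite (ConjClasses G) := Quotient.finite _
  haveI := Fintype.ofFinite (ConjClasses G)
  haveI hPn : (P.subgroupOf H).Normal := Subgroup.normal_subgroupOf_of_le_normalizer hN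
  have hPp : IsPGroup p (P.subgroupOf H) := hP.of_equiv (Subgroup.subgroupOfEquivOfLe hPH).symm
  have key : ∀ g : G, inducedBar M H ξ (classSumC (Cfsg.AlgInt ⧸ M) g) =
      omegaBar M ξ (brauerHom hP hC hN (classSumC (Cfsg.AlgInt ⧸ M) g)) := by
    intro g
    have hr := omegaBar_brauerTo (M := M) hN ξ g
    have hl := omegaBar_brauerTo (M := M) (le_normalizer_bot H) ξ g
    refine hl.trans (Eq.trans ?_ hr.symm)
    rw [bcR_eq_sum, bcR_eq_sum, map_sum, map_sum, Finset.sum_filter, Finset.sum_filter]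
    refine Finset.sum_congr rfl fun c _ => ?_
    simp only [Set.mem_ofPred_eq, centralizer_bot, Subgroup.mem_top, and_true]
    by_cases h1 : IsConj g (c.out : G)
    · by_cases h2 : (c.out : G) ∈ Subgroup.centralizer (P : Set G)
      · rw [if_pos h1, if_pos ⟨h1, h2⟩]
      · rw [if_pos h1, if_neg (fun h => h2 h.2), ← omegaBar_classSumC]
        refine algHom_classSum_eq_zero hPp (fun hh => h2 ?_) _
        rw [Subgroup.mem_centralizer_iff] at hh ⊢
        intro q hq
        exact congrArg Subtype.val (hh ⟨q, hPH hq⟩ hq)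
    · rw [if_neg h1, if_neg (fun h => h1 h.1)]
  refine LinearMap.ext fun x => ?_
  have hx : x = ∑ c : ConjClasses G,
      (x : MonoidAlgebra (Cfsg.AlgInt ⧸ M) G).coeff c.out • classSumC (Cfsg.AlgInt ⧸ M) c.out := by
    refine Subtype.ext ?_
    rw [AddSubmonoidClass.coe_finsetSum]
    exact eq_sum_classSum x.2
  rw [hx, map_sum, map_sum]
  refine Finset.sum_congr rfl fun c _ => ?_
  rw [map_smul, map_smul, key]
  rfl

/-- For P ≤ H, C(P) ≤ H ≤ N(P) and P a p-group, the induced central character agrees modulo M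
with the Brauer central character. -/
theorem memLocalIdeal_induced_sub_brauer (hM : Cfsg.IsPModular p M) {P H : Subgroup G}
    (hP : IsPGroup p P) (hPH : P ≤ H) (hC : Subgroup.centralizer (P : Set G) ≤ H)
    (hN : H ≤ Subgroup.normalizer (P : Set G)) (ξ : Cfsg.IrrCharacter H) (g : G) :
    Cfsg.MemLocalIdeal M (Cfsg.inducedCentralChar H (ξ : H → ℂ) g -
      Cfsg.brauerCentralChar P H (ξ : H → ℂ) g) := by
  haveI := charP_residue hM
  refine (memLocalIdeal_sub_iff (x := icR M H ξ g) (y := bcR M P H hN ξ g)).2 ?_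
  rw [← inducedBar_classSumC, ← omegaBar_brauerTo, inducedBar_eq_brauer hP hPH hC hN]
  rfl

end Cfsg.Agent.Lib.BrauerMap.Induced
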