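import Cfsg.Agent.Lib.Blocks.Basic
import Mathlib.Algebra.Module.ZMod
import Mathlib.RingTheory.Finiteness.Cardinality

/-!
# The map induced on centres of group algebras by a surjective homomorphism

For `f : G →* H` surjective: `pushC k f : Z(k[G]) →ₐ Z(k[H])`, central characters of inflated
characters, surjectivity when the kernel has order prime to p, nilpotency of the kernel when
`f.ker` is a p-group, and the idempotent of the characters trivial on a normal subgroup.
-/

namespace Cfsg.Agent.Lib.BrauerMap.Inflation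

open MonoidAlgebra Cfsg.Agent.Lib.BrauerMap.Basic Cfsg.Agent.Lib.BrauerMap.ClassSum
  Cfsg.Agent.Lib.Blocks
open scoped ComplexConjugate

universe u

variable {G : Type u} [Group G] [Finite G] {H : Type u} [Group H] [Finite H]

section Map

variable (k : Type*) [CommRing k] (f : G →* H)

/-- The algebra map k[G] → k[H] induced by f. -/
noncomputable def push : MonoidAlgebra k G →ₐ[k] MonoidAlgebra k H :=
  MonoidAlgebra.mapDomainAlgHom k k f

variable {k}

theorem push_single (g : G) (r : k) : push k f (single g r) = single (f g) r := by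
  change MonoidAlgebra.mapDomain f (single g r) = _
  ext a
  simp [MonoidAlgebra.mapDomain, Finsupp.mapDomain_single]

open scoped Classical in
theorem coeff_push [Fintype G] (z : MonoidAlgebra k G) (h : H) :
    (push k f z).coeff h = ∑ g : G, if f g = h then z.coeff g else 0 := by
  induction z using MonoidAlgebra.induction_linear with
  | zero => simp
  | add x y hx hy =>
    rw [map_add, coeff_add, Finsupp.add_apply, hx, hy, ← Finset.sum_add_distrib]
    refine Finset.sum_congr rfl fun g _ => ?_
    rw [coeff_add, Finsupp.add_apply]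
    split_ifs <;> simp
  | single a r =>
    rw [push_single, Finset.sum_eq_single a]
    · simp [Finsupp.single_apply]
    · intro b _ hb
      simp [Ne.symm hb]
    · simp

theorem push_mem_center (hf : Function.Surjective f) {z : MonoidAlgebra k G}
    (hz : z ∈ Subalgebra.center k (MonoidAlgebra k G)) :
    push k f z ∈ Subalgebra.center k (MonoidAlgebra k H) := by
  rw [Subalgebra.mem_center_iff] at hz ⊢
  intro b
  obtain ⟨a, rfl⟩ : ∃ a, push k f a = b := by
    induction b using MonoidAlgebra.induction_linear with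
    | zero => exact ⟨0, map_zero _⟩
    | add x y hx hy =>
      obtain ⟨a, rfl⟩ := hx
      obtain ⟨a', rfl⟩ := hy
      exact ⟨a + a', map_add _ _ _⟩
    | single c r =>
      obtain ⟨g, rfl⟩ := hf c
      exact ⟨single g r, push_single f g r⟩
  rw [← map_mul, ← map_mul, hz a]

variable (k)

/-- The induced map on centres. -/
noncomputable def pushC (hf : Function.Surjective f) :
    Subalgebra.center k (MonoidAlgebra k G) →ₐ[k] Subalgebra.center k (MonoidAlgebra k H) :=
  ((push k f).comp (Subalgebra.val _)).codRestrict _ fun z => push_mem_center f hf z.2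

variable {k}

theorem coe_pushC (hf : Function.Surjective f) (z : Subalgebra.center k (MonoidAlgebra k G)) :
    (pushC k f hf z : MonoidAlgebra k H) = push k f z.1 := rfl

theorem mapRingHom_push {k' : Type*} [CommRing k'] (φ : k →+* k') (z : MonoidAlgebra k G) :
    MonoidAlgebra.mapRingHom H φ (push k f z) = push k' f (MonoidAlgebra.mapRingHom G φ z) := by
  classical
  haveI := Fintype.ofFinite G
  ext h
  rw [coeff_mapRingHom, coeff_push, coeff_push, map_sum]
  refine Finset.sum_congr rfl fun g _ => ?_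
  rw [coeff_mapRingHom, apply_ite φ, map_zero]

theorem mapCenter_pushC (hf : Function.Surjective f) {k' : Type*} [CommRing k'] (φ : k →+* k')
    (z : Subalgebra.center k (MonoidAlgebra k G)) :
    mapCenter φ (pushC k f hf z) = pushC k' f hf (mapCenter φ z) := by
  refine Subtype.ext ?_
  rw [coe_mapCenter, coe_pushC, mapRingHom_push]
  rfl

/-- If the order of the kernel is invertible in k, the map on centres is surjective. -/
theorem pushC_surjective (hf : Function.Surjective f)
    (hk : IsUnit ((Nat.card f.ker : ℕ) : k)) : Function.Surjective (pushC k f hf) := by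
  classical
  haveI := Fintype.ofFinite G
  intro z
  obtain ⟨w, hw⟩ := hk.exists_left_inv
  refine ⟨ofClassFun (fun g => w * z.1.coeff (f g)) (fun u g => by
    simp only [map_mul, map_inv, (mem_center_iff_coeff _).1 z.2 (f u) (f g)]), ?_⟩
  refine Subtype.ext (MonoidAlgebra.ext (Finsupp.ext fun h => ?_))
  obtain ⟨a, rfl⟩ := hf h
  rw [coe_pushC, coeff_push]
  simp only [coeff_ofClassFun]
  have hcard : (Finset.univ.filter fun g : G => f g = f a).card = Nat.card f.ker := by
    rw [← Fintype.card_subtype, ← Nat.card_eq_fintype_card]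
    refine Nat.card_congr
      { toFun := fun g => ⟨a⁻¹ * g.1, by simp [MonoidHom.mem_ker, g.2]⟩
        invFun := fun n => ⟨a * n.1, by simp [MonoidHom.mem_ker.1 n.2]⟩
        left_inv := fun g => by simp
        right_inv := fun n => by simp }
  rw [← Finset.sum_filter, Finset.sum_congr rfl (g := fun _ => w * z.1.coeff (f a))
    (fun g hg => by rw [(Finset.mem_filter.1 hg).2]), Finset.sum_const, hcard, nsmul_eq_mul,
    ← mul_assoc, mul_comm ((Nat.card f.ker : ℕ) : k), hw, one_mul]

end Map

/-! ## Nilpotent kernel -/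

theorem exists_ne_zero_fixed {p : ℕ} [Fact p.Prime] {P : Type*} [Group P] [Finite P]
    (hP : IsPGroup p P) {V : Type*} [AddCommGroup V] [DistribMulAction P V]
    (hV : ∀ v : V, p • v = 0) {v : V} (hv : v ≠ 0) :
    ∃ w : V, w ≠ 0 ∧ ∀ u : P, u • w = w := by
  classical
  haveI := Fintype.ofFinite P
  let φ : (P → ℕ) →+ V :=
    { toFun := fun n => ∑ u : P, n u • (u • v)
      map_zero' := by simp
      map_add' := fun a b => by simp [add_nsmul, Finset.sum_add_distrib] }
  let U : AddSubgroup V :=
    { carrier := Set.range φ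
      zero_mem' := ⟨0, map_zero φ⟩
      add_mem' := by
        rintro _ _ ⟨a, rfl⟩ ⟨b, rfl⟩
        exact ⟨a + b, map_add φ a b⟩
      neg_mem' := by
        rintro _ ⟨a, rfl⟩
        refine ⟨(p - 1) • a, eq_neg_of_add_eq_zero_left ?_⟩
        rw [map_nsmul, ← succ_nsmul, Nat.sub_add_cancel (Fact.out : p.Prime).one_le, hV] }
  haveI : Finite U := by
    refine Finite.of_surjective (fun c : P → Fin p =>
      (⟨φ fun u => (c u : ℕ), _, rfl⟩ : U)) ?_
    rintro ⟨_, a, rfl⟩
    refine ⟨fun u => ⟨a u % p, Nat.mod_lt _ (Fact.out : p.Prime).pos⟩, Subtype.ext ?_⟩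
    change ∑ u : P, (a u % p) • (u • v) = ∑ u : P, a u • (u • v)
    refine Finset.sum_congr rfl fun u _ => ?_
    conv_rhs => rw [← Nat.mod_add_div (a u) p, add_nsmul, mul_comm, mul_nsmul', hV,
      nsmul_zero, add_zero]
  have hU : ∀ (u : P), ∀ x ∈ U, u • x ∈ U := by
    rintro u x ⟨a, rfl⟩
    refine ⟨fun w => a (u⁻¹ * w), ?_⟩
    change ∑ w : P, a (u⁻¹ * w) • (w • v) = u • ∑ w : P, a w • (w • v)
    rw [Finset.smul_sum]
    refine (Fintype.sum_equiv (Equiv.mulLeft u) _ _ fun w => ?_).symm
    rw [Equiv.coe_mulLeft, inv_mul_cancel_left, smul_comm u (a w) (w • v), mul_smul]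
  let act : MulAction P U :=
    { smul := fun u x => ⟨u • (x : V), hU u x x.2⟩
      mul_smul := fun u w x => Subtype.ext (mul_smul u w (x : V))
      one_smul := fun x => Subtype.ext (one_smul P (x : V)) }
  have hvU : v ∈ U := by
    refine ⟨Pi.single 1 1, ?_⟩
    change ∑ u : P, (Pi.single 1 1 : P → ℕ) u • (u • v) = v
    rw [Finset.sum_eq_single 1]
    · simp
    · intro b _ hb; simp [hb]
    · simp
  have hne : (⟨v, hvU⟩ : U) ≠ 0 := fun e => hv (congrArg Subtype.val e)
  have hdvd : p ∣ Nat.card U := by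
    rw [← addOrderOf_eq_prime (Subtype.ext (hV v) : p • (⟨v, hvU⟩ : U) = 0) hne]
    exact addOrderOf_dvd_natCard _
  have h0 : (0 : U) ∈ MulAction.fixedPoints P U := fun u => Subtype.ext (smul_zero u)
  obtain ⟨w, hw, hw0⟩ := hP.exists_fixed_point_of_prime_dvd_card_of_fixed_point U hdvd h0
  exact ⟨(w : V), fun e => hw0 (Subtype.ext e.symm), fun u => congrArg Subtype.val (hw u)⟩

/-- A central element killed by a map with p-group kernel is nilpotent in characteristic p. -/
theorem isNilpotent_of_pushC_eq_zero {k : Type*} [CommRing k] {p : ℕ} [Fact p.Prime] [CharP k p]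
    (f : G →* H) (hf : Function.Surjective f) (hker : IsPGroup p f.ker)
    {z : Subalgebra.center k (MonoidAlgebra k G)} (hz : pushC k f hf z = 0) : IsNilpotent z := by
  classical
  haveI := Fintype.ofFinite G
  haveI := Fintype.ofFinite H
  set R := MonoidAlgebra k G
  set c : R := z.1 with hc
  have hcomm : ∀ x : R, x * c = c * x := fun x => Subalgebra.mem_center_iff.1 z.2 x
  let W : AddSubgroup R :=
    { carrier := {x | ∃ n : ℕ, c ^ n * x = 0}
      zero_mem' := ⟨0, by simp⟩
      add_mem' := by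
        rintro x y ⟨n, hn⟩ ⟨m, hm⟩
        refine ⟨n + m, ?_⟩
        rw [mul_add]
        nth_rw 1 [add_comm n m]
        rw [pow_add, pow_add, mul_assoc, mul_assoc, hn, hm, mul_zero, mul_zero, add_zero]
      neg_mem' := by
        rintro x ⟨n, hn⟩
        exact ⟨n, by rw [mul_neg, hn, neg_zero]⟩ }
  have hW : ∀ (y x : R), x ∈ W → y * x ∈ W := by
    rintro y x ⟨n, hn⟩
    refine ⟨n, ?_⟩
    have hc' : Commute y c := hcomm y
    rw [← mul_assoc, ← (hc'.pow_right n).eq, mul_assoc, hn, mul_zero]
  suffices h1 : (1 : R) ∈ W by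
    obtain ⟨n, hn⟩ := h1
    exact ⟨n, Subtype.ext (by rw [SubmonoidClass.coe_pow, ← hc]; rwa [mul_one] at hn)⟩
  by_contra hone
  let V := R ⧸ W
  have hpV : ∀ v : V, p • v = 0 := by
    intro v
    obtain ⟨x, rfl⟩ := QuotientAddGroup.mk'_surjective W v
    have hx : p • x = 0 := by
      ext g
      rw [coeff_smul, Finsupp.smul_apply, nsmul_eq_mul, CharP.cast_eq_zero, zero_mul]; rfl
    rw [← map_nsmul, hx, map_zero]
  let L : G → V →+ V := fun u => QuotientAddGroup.map W W (AddMonoidHom.mulLeft (single u 1))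
    (fun x hx => hW _ x hx)
  have hL : ∀ (u : G) (x : R), L u (QuotientAddGroup.mk' W x) =
      QuotientAddGroup.mk' W (single u 1 * x) := fun u x => rfl
  let act : DistribMulAction f.ker V :=
    { smul := fun u v => L (u : G) v
      mul_smul := fun u u' v => by
        obtain ⟨x, rfl⟩ := QuotientAddGroup.mk'_surjective W v
        change L _ _ = L _ (L _ _)
        rw [hL, hL, hL, ← mul_assoc, single_mul_single, one_mul]
        rfl
      one_smul := fun v => by
        obtain ⟨x, rfl⟩ := QuotientAddGroup.mk'_surjective W v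
        change L _ _ = _
        rw [hL, OneMemClass.coe_one, ← one_def, one_mul]
      smul_zero := fun u => map_zero (L (u : G))
      smul_add := fun u a b => map_add (L (u : G)) a b }
  have hne : (QuotientAddGroup.mk' W (1 : R)) ≠ 0 := fun e =>
    hone ((QuotientAddGroup.eq_zero_iff (1 : R)).1 e)
  obtain ⟨v, hv0, hv⟩ := exists_ne_zero_fixed hker hpV hne
  obtain ⟨x, rfl⟩ := QuotientAddGroup.mk'_surjective W v
  apply hv0
  refine (QuotientAddGroup.eq_zero_iff x).2 ?_
  suffices hcx : c * x ∈ W by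
    obtain ⟨n, hn⟩ := hcx
    exact ⟨n + 1, by rw [pow_succ, mul_assoc]; exact hn⟩
  rw [← QuotientAddGroup.eq_zero_iff]
  change QuotientAddGroup.mk' W (c * x) = 0
  -- one representative for each fibre
  let s : H → G := Function.surjInv hf
  have hs : ∀ h, f (s h) = h := Function.surjInv_eq hf
  have hval : ∀ (g : G) (r : k), QuotientAddGroup.mk' W (single g r * x) =
      QuotientAddGroup.mk' W (single (s (f g)) r * x) := by
    intro g r
    have hmem : (s (f g))⁻¹ * g ∈ f.ker := by simp [MonoidHom.mem_ker, hs]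
    have h1 : QuotientAddGroup.mk' W (single ((s (f g))⁻¹ * g) (1 : k) * x) =
        QuotientAddGroup.mk' W x := hv ⟨_, hmem⟩
    have e : single g r = single (s (f g)) r * single ((s (f g))⁻¹ * g) (1 : k) := by
      rw [single_mul_single, mul_one, mul_inv_cancel_left]
    rw [e, mul_assoc]
    have h2 : single ((s (f g))⁻¹ * g) (1 : k) * x - x ∈ W :=
      (QuotientAddGroup.eq_iff_sub_mem).1 h1
    refine (QuotientAddGroup.eq_iff_sub_mem).2 ?_
    rw [← mul_sub]
    exact hW _ _ h2
  have hcs : c = ∑ g : G, single g (c.coeff g) := by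
    ext a
    rw [coeff_sum, Finsupp.finsetSum_apply]
    simp [Finsupp.single_apply]
  rw [hcs, Finset.sum_mul, map_sum, ← Finset.sum_fiberwise Finset.univ (fun g => f g)]
  refine Finset.sum_eq_zero fun h _ => ?_
  have h0 := congrArg (fun w : Subalgebra.center k (MonoidAlgebra k H) => w.1.coeff h) hz
  simp only [coe_pushC, coeff_push, ZeroMemClass.coe_zero, coeff_zero, Finsupp.coe_zero,
    Pi.zero_apply] at h0
  rw [← Finset.sum_filter] at h0
  rw [Finset.sum_congr rfl (g := fun g => QuotientAddGroup.mk' W (single (s h) (c.coeff g) * x))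
    (fun g hg => by rw [hval g, (Finset.mem_filter.1 hg).2]), ← map_sum, ← Finset.sum_mul]
  have e : ∑ g ∈ Finset.univ.filter (fun g => f g = h), single (s h) (c.coeff g) =
      (single (s h) (∑ g ∈ Finset.univ.filter (fun g => f g = h), c.coeff g) : R) := by
    ext a
    rw [coeff_sum, Finsupp.finsetSum_apply]
    simp only [coeff_single, Finsupp.single_apply]
    split_ifs <;> simp
  rw [e, h0]
  simp

/-! ## Inflated characters -/

/-- The inflation of an irreducible character along a surjection. -/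
def infl (f : G →* H) (hf : Function.Surjective f) (χ : Cfsg.IrrCharacter H) :
    Cfsg.IrrCharacter G :=
  ⟨(χ : H → ℂ) ∘ f, Cfsg.Agent.Lib.Characters.Basic.isIrrCharacter_comp f hf χ.2⟩

theorem infl_apply (f : G →* H) (hf : Function.Surjective f) (χ : Cfsg.IrrCharacter H) (g : G) :
    (infl f hf χ : G → ℂ) g = (χ : H → ℂ) (f g) := rfl

theorem lin_push (f : G →* H) (φ : H → ℂ) (z : MonoidAlgebra ℂ G) :
    lin φ (push ℂ f z) = lin (φ ∘ f) z := by
  induction z using MonoidAlgebra.induction_linear with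
  | zero => simp
  | add x y hx hy => rw [map_add, map_add, map_add, hx, hy]
  | single a r => rw [push_single, lin_single, lin_single]; rfl

theorem omega_infl (f : G →* H) (hf : Function.Surjective f) (χ : Cfsg.IrrCharacter H)
    (z : Subalgebra.center ℂ (MonoidAlgebra ℂ G)) :
    omega (infl f hf χ) z = omega χ (pushC ℂ f hf z) := by
  rw [omega_apply, omega_apply, coe_pushC, lin_push, infl_apply, map_one]
  rfl

variable {M : Ideal Cfsg.AlgInt} [M.IsMaximal]

theorem omegaR_infl (f : G →* H) (hf : Function.Surjective f) (χ : Cfsg.IrrCharacter H)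
    (z : Subalgebra.center (localRing M) (MonoidAlgebra (localRing M) G)) :
    omegaR M (infl f hf χ) z = omegaR M χ (pushC (localRing M) f hf z) := by
  apply Subtype.ext
  rw [coe_omegaR, coe_omegaR, omega_infl, mapCenter_pushC]

theorem omegaBar_infl (f : G →* H) (hf : Function.Surjective f) (χ : Cfsg.IrrCharacter H) :
    omegaBar M (infl f hf χ) = (omegaBar M χ).comp (pushC (Cfsg.AlgInt ⧸ M) f hf) := by
  refine AlgHom.ext fun z => ?_
  obtain ⟨w, rfl⟩ := mapCenter_surjective residue_surjective z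
  rw [AlgHom.comp_apply, ← mapCenter_pushC, omegaBar_mapCenter, omegaBar_mapCenter, omegaR_infl]

theorem sameBlock_infl (f : G →* H) (hf : Function.Surjective f) {χ ψ : Cfsg.IrrCharacter H}
    (h : Cfsg.SameBlock M (χ : H → ℂ) (ψ : H → ℂ)) :
    Cfsg.SameBlock M (infl f hf χ : G → ℂ) (infl f hf ψ : G → ℂ) := by
  rw [sameBlock_iff_omegaBar] at h ⊢
  rw [omegaBar_infl, omegaBar_infl, h]

theorem sameBlock_of_infl {p : ℕ} [Fact p.Prime] (hM : Cfsg.IsPModular p M) (f : G →* H)
    (hf : Function.Surjective f) (hker : ¬ p ∣ Nat.card f.ker) {χ ψ : Cfsg.IrrCharacter H}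
    (h : Cfsg.SameBlock M (infl f hf χ : G → ℂ) (infl f hf ψ : G → ℂ)) :
    Cfsg.SameBlock M (χ : H → ℂ) (ψ : H → ℂ) := by
  letI := Ideal.Quotient.field M
  haveI := charP_residue hM
  have hu : IsUnit ((Nat.card f.ker : ℕ) : Cfsg.AlgInt ⧸ M) :=
    (Ne.isUnit fun e => hker ((CharP.cast_eq_zero_iff (Cfsg.AlgInt ⧸ M) p _).1 e))
  rw [sameBlock_iff_omegaBar] at h ⊢
  rw [omegaBar_infl, omegaBar_infl] at h
  refine AlgHom.ext fun z => ?_
  obtain ⟨w, rfl⟩ := pushC_surjective f hf hu z
  exact DFunLike.congr_fun h w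

/-- Every irreducible character trivial on the kernel is an inflation. -/
theorem exists_infl (f : G →* H) (hf : Function.Surjective f) (ψ : Cfsg.IrrCharacter G)
    (hψ : ∀ g : G, f g = 1 → (ψ : G → ℂ) g = (ψ : G → ℂ) 1) :
    ∃ χ : Cfsg.IrrCharacter H, infl f hf χ = ψ := by
  obtain ⟨n, ρ, hirr, hρ⟩ := ψ.2
  have hker : f.ker ≤ ρ.ker := by
    intro g hg
    rw [MonoidHom.mem_ker] at hg ⊢
    have h := hψ g hg
    rw [← hρ, Representation.char_one] at h
    exact (Cfsg.Agent.Lib.Characters.Diag.char_eq_finrank_iff ρ g).1 h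
  have heq : ∀ g g' : G, f g = f g' → ρ g = ρ g' := fun g g' e => by
    have h1 : ρ (g'⁻¹ * g) = 1 := MonoidHom.mem_ker.1 (hker (by simp [MonoidHom.mem_ker, e]))
    calc ρ g = ρ (g' * (g'⁻¹ * g)) := by rw [mul_inv_cancel_left]
      _ = ρ g' := by rw [map_mul, h1, mul_one]
  let s : H → G := Function.surjInv hf
  have hs : ∀ a, f (s a) = a := Function.surjInv_eq hf
  let σ : Representation ℂ H (Fin n → ℂ) :=
    { toFun := fun a => ρ (s a)
      map_one' := (heq _ 1 (by rw [hs, map_one])).trans (map_one ρ)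
      map_mul' := fun a b => (heq _ (s a * s b) (by rw [hs, map_mul, hs, hs])).trans (map_mul ρ _ _) }
  have hσ : ∀ g, σ (f g) = ρ g := fun g => heq _ g (hs (f g))
  refine ⟨⟨σ.character, n, σ, ?_, rfl⟩, Subtype.ext (funext fun g => ?_)⟩
  · let F : Subrepresentation σ ≃o Subrepresentation ρ :=
      { toFun := fun q => ⟨q.toSubmodule, fun g v hv => by
          rw [← hσ]; exact q.apply_mem_toSubmodule (f g) hv⟩
        invFun := fun q => ⟨q.toSubmodule, fun a v hv => by
          obtain ⟨g, rfl⟩ := hf a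
          rw [hσ]; exact q.apply_mem_toSubmodule g hv⟩
        left_inv := fun _ => rfl
        right_inv := fun _ => rfl
        map_rel_iff' := Iff.rfl }
    exact F.isSimpleOrder_iff.mpr hirr
  · rw [infl_apply, ← hρ]
    change LinearMap.trace ℂ _ (σ (f g)) = _
    rw [hσ]
    rfl

/-! ## Characters trivial on a normal subgroup -/

open scoped Classical in
/-- The idempotent of the characters trivial on N is the averaged sum over N. -/
theorem blockCoeff_trivialOn (N : Subgroup G) [hN : N.Normal] (g : G) :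
    Cfsg.blockCoeff {ψ : Cfsg.IrrCharacter G | ∀ n ∈ N, (ψ : G → ℂ) n = (ψ : G → ℂ) 1} g =
      if g ∈ N then (Nat.card N : ℂ)⁻¹ else 0 := by
  haveI := Fintype.ofFinite G
  set A := {ψ : Cfsg.IrrCharacter G | ∀ n ∈ N, (ψ : G → ℂ) n = (ψ : G → ℂ) 1} with hA
  let e : Subalgebra.center ℂ (MonoidAlgebra ℂ G) :=
    ofClassFun (fun g => if g ∈ N then (Nat.card N : ℂ)⁻¹ else 0) (fun u g => by
      refine if_congr ⟨fun h => ?_, fun h => hN.conj_mem g h u⟩ rfl rfl
      simpa [mul_assoc] using hN.conj_mem _ h u⁻¹)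
  suffices h : idem A = e by
    have := congrArg (fun w : Subalgebra.center ℂ (MonoidAlgebra ℂ G) => w.1.coeff g) h
    exact this
  have hcard : (Nat.card N : ℂ) ≠ 0 := Nat.cast_ne_zero.2 Nat.card_pos.ne'
  have hNf : (Finset.univ.filter fun g : G => g ∈ N).card = Nat.card N := by
    rw [← Fintype.card_subtype, ← Nat.card_eq_fintype_card]
  have he : e * e = e := by
    refine Subtype.ext (MonoidAlgebra.ext (Finsupp.ext fun a => ?_))
    rw [Subalgebra.coe_mul, coeff_mul_sum]
    simp only [e, coeff_ofClassFun]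
    have hterm : ∀ x : G, ((if x ∈ N then (Nat.card N : ℂ)⁻¹ else 0) *
        if x⁻¹ * a ∈ N then (Nat.card N : ℂ)⁻¹ else 0) =
        if x ∈ N then (if a ∈ N then (Nat.card N : ℂ)⁻¹ * (Nat.card N : ℂ)⁻¹ else 0) else 0 := by
      intro x
      by_cases hx : x ∈ N
      · simp only [if_pos hx, N.mul_mem_cancel_left (N.inv_mem hx)]
        split_ifs <;> simp
      · simp [if_neg hx]
    rw [Finset.sum_congr rfl fun x _ => hterm x, ← Finset.sum_filter, Finset.sum_const, hNf,
      nsmul_eq_mul]
    split_ifs <;> simp [hcard]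
  refine eq_of_omega_eq fun χ => ?_
  have h01 : omega χ e = 0 ∨ omega χ e = 1 := by
    have h := congrArg (omega χ) he
    rw [map_mul] at h
    rcases eq_or_ne (omega χ e) 0 with h0 | h0
    · exact Or.inl h0
    · exact Or.inr (mul_left_cancel₀ h0 (h.trans (mul_one _).symm))
  have hval : omega χ e =
      (∑ n ∈ Finset.univ.filter (fun g : G => g ∈ N), (χ : G → ℂ) n) /
        ((Nat.card N : ℂ) * (χ : G → ℂ) 1) := by
    rw [omega_apply, lin_apply, Finset.sum_filter, Finset.sum_div, Finset.sum_div]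
    refine Finset.sum_congr rfl fun x _ => ?_
    simp only [e, coeff_ofClassFun]
    split_ifs
    · rw [div_mul_eq_div_div, div_eq_mul_inv, div_eq_mul_inv, div_eq_mul_inv]; ring
    · simp
  rw [omega_idem]
  have hone := char_one_ne_zero χ
  by_cases hχ : χ ∈ A
  · rw [if_pos hχ, hval, Finset.sum_congr rfl (g := fun _ => (χ : G → ℂ) 1)
      (fun x hx => hχ x (Finset.mem_filter.1 hx).2), Finset.sum_const, hNf, nsmul_eq_mul,
      div_self (mul_ne_zero hcard hone)]
  · rw [if_neg hχ]
    refine (h01.resolve_right fun h1 => hχ fun n hn => ?_).symm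
    rw [hval, div_eq_one_iff_eq (mul_ne_zero hcard hone)] at h1
    obtain ⟨d, hd⟩ : ∃ d : ℕ, (χ : G → ℂ) 1 = d :=
      ⟨_, char_one_eq_degree χ⟩
    have hle : ∀ x : G, ‖(χ : G → ℂ) x‖ ≤ d := fun x => by
      have := Cfsg.Agent.Lib.Characters.Basic.norm_apply_le
        (Cfsg.Agent.Lib.Characters.Basic.isCharacter_irr χ) x
      rwa [hd, Complex.norm_natCast] at this
    have hre : ∑ x ∈ Finset.univ.filter (fun g : G => g ∈ N), (((χ : G → ℂ) x).re - (d : ℝ)) = 0 := by
      rw [Finset.sum_sub_distrib, Finset.sum_const, hNf, ← Complex.re_sum, h1, hd]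
      simp
    have hnre : ((χ : G → ℂ) n).re - (d : ℝ) = 0 := by
      refine (Finset.sum_eq_zero_iff_of_nonpos fun x _ => ?_).1 hre n
        (Finset.mem_filter.2 ⟨Finset.mem_univ _, hn⟩)
      exact sub_nonpos.2 ((Complex.re_le_norm _).trans (hle x))
    have hnorm := hle n
    rw [hd]
    apply Complex.ext
    · rw [Complex.natCast_re]; linarith
    · rw [Complex.natCast_im]
      have h2 : ((χ : G → ℂ) n).re * ((χ : G → ℂ) n).re +
          ((χ : G → ℂ) n).im * ((χ : G → ℂ) n).im ≤ (d : ℝ) * d := by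
        rw [← Complex.normSq_apply, Complex.normSq_eq_norm_sq, sq]
        exact mul_le_mul hnorm hnorm (norm_nonneg _) (Nat.cast_nonneg d)
      have h3 : ((χ : G → ℂ) n).re = (d : ℝ) := by linarith
      rw [h3] at h2
      exact mul_self_eq_zero.1 (le_antisymm (by linarith) (mul_self_nonneg _))

/-- The characters trivial on a normal subgroup of order prime to p form a union of blocks. -/
theorem blockOf_subset_trivialOn {p : ℕ} [Fact p.Prime] (hM : Cfsg.IsPModular p M)
    (N : Subgroup G) [N.Normal] (hN : ¬ p ∣ Nat.card N) {χ : Cfsg.IrrCharacter G}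
    (hχ : ∀ n ∈ N, (χ : G → ℂ) n = (χ : G → ℂ) 1) {ψ : Cfsg.IrrCharacter G}
    (hψ : ψ ∈ Cfsg.blockOf M (χ : G → ℂ)) : ∀ n ∈ N, (ψ : G → ℂ) n = (ψ : G → ℂ) 1 := by
  classical
  have hA : ∀ g : G, Cfsg.MemLocalRing M (Cfsg.blockCoeff
      {θ : Cfsg.IrrCharacter G | ∀ n ∈ N, (θ : G → ℂ) n = (θ : G → ℂ) 1} g) := fun g => by
    rw [blockCoeff_trivialOn]
    split_ifs
    · exact natCast_inv_mem_localRing hM hN
    · exact mem_localRing_iff.1 (zero_mem _)
  exact blockOf_subset_of_memLocalRing hA hχ hψ

end Cfsg.Agent.Lib.BrauerMap.Inflation
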