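import Cfsg.Agent.Lib.BrauerPairs.Bridge
import Cfsg.Agent.Lib.BrauerMap.Induced
import Cfsg.Agent.Lib.BrauerMap.Inflation
import Cfsg.Agent.Lib.Blocks.Orthogonality

/-!
# Facts on defect groups: supports, normalisers, intersections of Sylow subgroups
-/

set_option autoImplicit false
set_option linter.style.haveILetI false

namespace Cfsg.Agent.Lib.BrauerMap.DefectFacts

open MonoidAlgebra Cfsg.Agent.Lib.BrauerMap.Basic Cfsg.Agent.Lib.BrauerMap.ClassSum
open Cfsg.Agent.Lib.BrauerPairs.Center Cfsg.Agent.Lib.BrauerPairs.Trunc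
open Cfsg.Agent.Lib.BrauerPairs.Conj Cfsg.Agent.Lib.BrauerPairs.Pairs
open Cfsg.Agent.Lib.BrauerPairs.Transport Cfsg.Agent.Lib.BrauerPairs.Maximal

universe u v

variable {G : Type u} [Group G] [Finite G] {k : Type v} [Field k] [IsAlgClosed k]
  {p : ℕ} [Fact p.Prime] [CharP k p]

local notation "C[" P "]" => Subgroup.centralizer ((P : Subgroup G) : Set G)

omit [Fact p.Prime] [CharP k p] in
theorem coeff_bidem_conj (ψ : Blk k G) (x g : G) :
    (bidem ψ).coeff (x * g * x⁻¹) = (bidem ψ).coeff g :=
  (mem_center_iff_coeff _).1 (bidem_mem ψ) x g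

/-- The supports of the idempotent reach `C(P)` exactly for the subgroups of the defect groups. -/
theorem exists_coeff_ne_zero_iff {ψ : Blk k G} {D : Subgroup G} (hD : IsDef p ψ D)
    {P : Subgroup G} (hP : IsPGroup p P) :
    (∃ c ∈ C[P], (bidem ψ).coeff c ≠ 0) ↔ ∃ x : G, P.map (MulAut.conj x).toMonoidHom ≤ D := by
  constructor
  · rintro ⟨c, hc, hne⟩
    obtain ⟨ω, hω⟩ := exists_pairOf hP hc hne
    exact exists_map_le_isDef hω hD
  · rintro ⟨x, hx⟩
    obtain ⟨g, hne, -, S, rfl⟩ := hD
    refine ⟨x⁻¹ * g * x, ?_, ?_⟩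
    · have h1 := mem_centralizer_of_le (hx.trans (Subgroup.map_subtype_le _))
      rw [mem_centralizer_map_iff x P]
      simpa [mul_assoc] using h1
    · have h := coeff_bidem_conj ψ x⁻¹ g
      rw [inv_inv] at h
      rwa [h]

/-- A p-subgroup centralizing an element of the support is not larger than a defect group. -/
theorem card_le_of_coeff_ne_zero {ψ : Blk k G} {D : Subgroup G} (hD : IsDef p ψ D) {w : G}
    (hw : (bidem ψ).coeff w ≠ 0) {R : Subgroup G} (hR : IsPGroup p R) (hwR : w ∈ C[R]) :
    Nat.card R ≤ Nat.card D := by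
  obtain ⟨x, hx⟩ := (exists_coeff_ne_zero_iff hD hR).mp ⟨w, hwR, hw⟩
  rw [← card_map_conj x R]
  exact Nat.le_of_dvd Nat.card_pos (Subgroup.card_dvd_of_le hx)

/-- A defect group is the largest normal p-subgroup of its normaliser. -/
theorem eq_of_normal_normalizer {ψ : Blk k G} {D R : Subgroup G} (hD : IsDef p ψ D)
    (hR : IsPGroup p R) (hDR : D ≤ R) (hRN : R ≤ Subgroup.normalizer (D : Set G))
    (hnorm : Subgroup.normalizer (D : Set G) ≤ Subgroup.normalizer (R : Set G)) : R = D := by
  classical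
  set N := Subgroup.normalizer (D : Set G)
  obtain ⟨ω, hω⟩ := exists_pairOf_isDef hD
  obtain ⟨g, hne, hψg, S, hS⟩ := hD
  have hDp : IsPGroup p D := hω.1
  have hC : C[D] ≤ N := Subgroup.centralizer_le_normalizer _
  set F := brauerHom (k := k) hDp hC le_rfl
  set e : ZAlg k N := F (idem ψ)
  have hidem : IsIdempotentElem e := (idem_isIdem ψ).map F
  have he : e ≠ 0 := by
    intro h0
    have hg : g ∈ C[D] := mem_centralizer_of_le (hS ▸ Subgroup.map_subtype_le _)
    have h1 := congrArg (fun z : ZAlg k N => (z : MonoidAlgebra k N).coeff ⟨g, hC hg⟩) h0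
    simp only [e, F, brauerHom_apply, coeff_brauerTo, hg, if_true] at h1
    exact hne h1
  obtain ⟨φ, hφ⟩ := exists_apply_eq_one (k := k) hidem he
  have hφψ : φ.comp F = ψ :=
    eq_of_apply_idem_ne_zero (by rw [AlgHom.comp_apply, hφ]; exact one_ne_zero)
  have hg0 : φ (F (classSumC k g)) ≠ 0 := by
    rw [← AlgHom.comp_apply, hφψ]; exact hψg
  haveI : Finite (ConjClasses N) := Quotient.finite _
  haveI := Fintype.ofFinite (ConjClasses N)
  obtain ⟨c, hc, hc0⟩ : ∃ c : ConjClasses N,
      IsConj g (c.out : G) ∧ φ (classSumC k c.out) ≠ 0 := by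
    by_contra hcon
    push Not at hcon
    apply hg0
    have e1 : F (classSumC k g) = ∑ c : ConjClasses N with
        IsConj g (c.out : G) ∧ (c.out : G) ∈ C[D], classSumC k c.out := by
      apply Subtype.ext
      rw [AddSubmonoidClass.coe_finsetSum]
      refine (brauerTo_classSum D N le_rfl g).trans (Finset.sum_congr ?_ fun c _ => rfl)
      ext c
      simp only [Finset.mem_filter]
      rfl
    rw [e1, map_sum]
    exact Finset.sum_eq_zero fun c hc => hcon c (Finset.mem_filter.1 hc).2.1
  haveI : (R.subgroupOf N).Normal := Subgroup.normal_subgroupOf_of_le_normalizer hnorm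
  have hRp : IsPGroup p (R.subgroupOf N) :=
    hR.of_equiv (Subgroup.subgroupOfEquivOfLe hRN).symm
  have hcR : (c.out : G) ∈ C[R] := by
    by_contra h
    apply hc0
    refine Nilpotent.algHom_classSum_eq_zero hRp (fun hh => h ?_) φ
    rw [Subgroup.mem_centralizer_iff] at hh ⊢
    intro q hq
    exact congrArg Subtype.val (hh ⟨q, hRN hq⟩ hq)
  obtain ⟨x, hx⟩ := isConj_iff.mp hc
  have hle : R.map (MulAut.conj x⁻¹).toMonoidHom ≤ Subgroup.centralizer ({g} : Set G) := by
    apply mem_centralizer_singleton_of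
    have h1 := (mem_centralizer_map_iff x⁻¹ R (c.out : G)).mp hcR
    rw [← hx] at h1
    simpa [mul_assoc] using h1
  obtain ⟨d, -, hd⟩ := exists_map_le_sylow (hR.map _) hle S
  rw [← hS, map_conj_map_conj] at hd
  refine (Subgroup.eq_of_le_of_card_ge hDR ?_).symm
  rw [← card_map_conj (d * x⁻¹) R]
  exact Nat.le_of_dvd Nat.card_pos (Subgroup.card_dvd_of_le hd)

/-- In a nonzero idempotent's left ideal a p-group acting by left translation fixes a nonzero
element, so the sum over the p-group does not annihilate the idempotent. -/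
theorem exists_coset_sum_ne_zero {Q : Subgroup G} (hQ : IsPGroup p Q) {f : MonoidAlgebra k G}
    (hf : f * f = f) (hf0 : f ≠ 0) (hcomm : ∀ u ∈ Q, Commute (single u (1 : k)) f)
    [Fintype Q] : ∃ y : G, ∑ q : Q, f.coeff (y * q) ≠ 0 := by
  classical
  haveI := Fintype.ofFinite G
  by_contra hcon
  push Not at hcon
  -- the translations on the left ideal of `f`
  let W : AddSubgroup (MonoidAlgebra k G) :=
    { carrier := {x | f * x = x}
      zero_mem' := mul_zero f
      add_mem' := fun {a b} (ha : f * a = a) (hb : f * b = b) => by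
        show f * (a + b) = a + b
        rw [mul_add, ha, hb]
      neg_mem' := fun {a} (ha : f * a = a) => by
        show f * -a = -a
        rw [mul_neg, ha] }
  have hW : ∀ (u : Q) (x : W), single (u : G) (1 : k) * (x : MonoidAlgebra k G) ∈ W := fun u x => by
    show f * (single (u : G) (1 : k) * (x : MonoidAlgebra k G)) =
      single (u : G) (1 : k) * (x : MonoidAlgebra k G)
    rw [← mul_assoc, ← (hcomm u u.2).eq, mul_assoc, (x.2 : f * (x : MonoidAlgebra k G) = x)]
  letI act : DistribMulAction Q W :=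
    { smul := fun u x => ⟨single (u : G) 1 * (x : MonoidAlgebra k G), hW u x⟩
      one_smul := fun x => Subtype.ext (by
        show single ((1 : Q) : G) (1 : k) * (x : MonoidAlgebra k G) = (x : MonoidAlgebra k G)
        rw [OneMemClass.coe_one, ← one_def, one_mul])
      mul_smul := fun u v x => Subtype.ext (by
        show single ((u * v : Q) : G) (1 : k) * (x : MonoidAlgebra k G) =
          single (u : G) (1 : k) * (single (v : G) (1 : k) * (x : MonoidAlgebra k G))
        rw [← mul_assoc, single_mul_single, one_mul, Subgroup.coe_mul])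
      smul_zero := fun u => Subtype.ext (mul_zero _)
      smul_add := fun u x y => Subtype.ext (mul_add _ _ _) }
  have hp0 : ∀ x : W, p • x = 0 := fun x => Subtype.ext (by
    show p • (x : MonoidAlgebra k G) = 0
    rw [← Nat.cast_smul_eq_nsmul k, CharP.cast_eq_zero, zero_smul])
  have hf' : (⟨f, hf⟩ : W) ≠ 0 := fun e => hf0 (congrArg Subtype.val e)
  obtain ⟨w, hw0, hwfix⟩ := Inflation.exists_ne_zero_fixed hQ hp0 hf'
  apply hw0
  apply Subtype.ext
  have hinv : ∀ (q : Q) (g : G), (w : MonoidAlgebra k G).coeff ((q : G) * g) =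
      (w : MonoidAlgebra k G).coeff g := fun q g => by
    have h1 : single (q : G) (1 : k) * (w : MonoidAlgebra k G) = w :=
      congrArg Subtype.val (hwfix q)
    have h2 := congrArg (fun z : MonoidAlgebra k G => z.coeff ((q : G) * g)) h1
    simp only [coeff_single_mul_apply, one_mul, inv_mul_cancel_left] at h2
    exact h2.symm
  -- split along right cosets
  show (w : MonoidAlgebra k G) = 0
  rw [← (w.2 : f * (w : MonoidAlgebra k G) = w)]
  ext g
  rw [coeff_mul_sum, coeff_zero, Finsupp.zero_apply]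
  let s : Setoid G := QuotientGroup.leftRel Q
  rw [← Finset.sum_fiberwise Finset.univ (fun a : G => (Quotient.mk s a))]
  refine Finset.sum_eq_zero fun c _ => ?_
  obtain ⟨y, rfl⟩ := Quotient.exists_rep c
  have himg : Finset.univ.filter (fun a : G => Quotient.mk s a = Quotient.mk s y) =
      Finset.univ.image (fun q : Q => y * (q : G)) := by
    ext a
    simp only [Finset.mem_filter, Finset.mem_univ, true_and, Finset.mem_image]
    rw [Quotient.eq]
    show QuotientGroup.leftRel Q a y ↔ _
    rw [QuotientGroup.leftRel_apply]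
    constructor
    · intro h
      exact ⟨⟨(a⁻¹ * y)⁻¹, inv_mem h⟩, by simp⟩
    · rintro ⟨q, rfl⟩
      simp [mul_assoc]
  rw [himg, Finset.sum_image (fun a _ b _ h => Subtype.ext (mul_left_cancel h)),
    Finset.sum_congr rfl (g := fun q : Q => f.coeff (y * q) * (w : MonoidAlgebra k G).coeff (y⁻¹ * g))
      fun q _ => by
        rw [mul_inv_rev, mul_assoc, ← hinv q⁻¹ (y⁻¹ * g), Subgroup.coe_inv],
    ← Finset.sum_mul, hcon y, zero_mul]

/-- Green's theorem: a defect group is an intersection of two Sylow subgroups. -/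
theorem exists_sylow_inf_eq {ψ : Blk k G} {D : Subgroup G} (hD : IsDef p ψ D)
    (P : Sylow p G) (hDP : D ≤ P) :
    ∃ x : G, (bidem ψ).coeff x ≠ 0 ∧
      (∃ S : Sylow p (Subgroup.centralizer ({x} : Set G)),
        (S : Subgroup (Subgroup.centralizer ({x} : Set G))).map
          (Subgroup.centralizer ({x} : Set G)).subtype = D) ∧
      (P : Subgroup G) ⊓ (P : Subgroup G).map (MulAut.conj x).toMonoidHom = D := by
  classical
  set Q : Subgroup G := (P : Subgroup G) ⊓ Subgroup.normalizer (D : Set G) with hQdef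
  haveI := Fintype.ofFinite Q
  have hQp : IsPGroup p Q := P.2.to_le inf_le_left
  have hDp : IsPGroup p D := hD.isPGroup
  have hDQ : D ≤ Q := le_inf hDP Subgroup.le_normalizer
  set f : MonoidAlgebra k G := ext C[D] (br D (bidem ψ)) with hfdef
  have hfcoeff : ∀ g, f.coeff g = if g ∈ C[D] then (bidem ψ).coeff g else 0 := by
    intro g
    split_ifs with hg
    · rw [hfdef]
      exact (coeff_ext _ _ ⟨g, hg⟩).trans (coeff_br _ _ _)
    · rw [hfdef, coeff_ext_of_notMem _ _ hg]
  have hconj : ∀ u ∈ Subgroup.normalizer (D : Set G), ∀ g,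
      f.coeff (u * g * u⁻¹) = f.coeff g := fun u hu g => by
    rw [hfcoeff, hfcoeff, coeff_bidem_conj]
    exact if_congr (mem_centralizer_conj_iff hu g).symm rfl rfl
  have hf2 : f * f = f := by
    rw [hfdef, ← map_mul,
      (br_isIdem hDp (bidem_isIdem ψ) (isFixedBy_of_mem_center _ (bidem_mem ψ))).eq]
  have hf0 : f ≠ 0 := by
    intro h
    obtain ⟨ω, hω⟩ := exists_pairOf_isDef hD
    have h0 : br D (bidem ψ) = 0 := ext_injective _ (by rw [← hfdef, h, map_zero])
    have h1 : val D ω (bidem ψ) = 1 := hω.2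
    rw [val_congr ω (h0.trans (br_zero D).symm), val_zero] at h1
    exact zero_ne_one h1
  have hcomm : ∀ u ∈ Q, Commute (single u (1 : k)) f := by
    intro u hu
    show _ = _
    ext g
    rw [coeff_single_mul_apply, coeff_mul_single_apply, one_mul, mul_one]
    have h := hconj u (inf_le_right (α := Subgroup G) hu) (u⁻¹ * g)
    rw [mul_inv_cancel_left] at h
    exact h.symm
  obtain ⟨y, hy⟩ := exists_coset_sum_ne_zero hQp hf2 hf0 hcomm
  -- the subgroup acting on the coset
  set T : Subgroup G := Q ⊓ Q.map (MulAut.conj y).toMonoidHom with hT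
  have hTp : IsPGroup p T := hQp.to_le inf_le_left
  obtain ⟨q₀, hq₀, hq₀T⟩ : ∃ q : Q, f.coeff (y * q) ≠ 0 ∧ y * (q : G) ∈ C[T] := by
    by_contra hcon
    push Not at hcon
    apply hy
    have hmem : ∀ (t : T), y⁻¹ * (t : G) * y ∈ Q := fun t => by
      have h1 := (mem_map_conj_iff y Q (t : G)).mp t.2.2
      exact h1
    letI : MulAction T Q :=
      { smul := fun t q => ⟨y⁻¹ * (t : G) * y * (q : G) * (t : G)⁻¹,
          Q.mul_mem (Q.mul_mem (hmem t) q.2) (Q.inv_mem t.2.1)⟩
        one_smul := fun q => Subtype.ext (by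
          show y⁻¹ * ((1 : T) : G) * y * (q : G) * ((1 : T) : G)⁻¹ = q
          simp)
        mul_smul := fun s t q => Subtype.ext (by
          show y⁻¹ * ((s * t : T) : G) * y * (q : G) * ((s * t : T) : G)⁻¹ =
            y⁻¹ * (s : G) * y * (y⁻¹ * (t : G) * y * (q : G) * (t : G)⁻¹) * (s : G)⁻¹
          simp [mul_assoc]) }
    have hsm : ∀ (t : T) (q : Q), y * ((t • q : Q) : G) = (t : G) * (y * (q : G)) * (t : G)⁻¹ :=
      fun t q => by
        show y * (y⁻¹ * (t : G) * y * (q : G) * (t : G)⁻¹) = _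
        simp [mul_assoc]
    rw [sum_eq_sum_fixed hTp (fun q : Q => f.coeff (y * q)) fun t q => by
      rw [hsm, hconj _ (inf_le_right (α := Subgroup G) t.2.1)]]
    refine Finset.sum_eq_zero fun q hq => ?_
    by_contra hne
    refine hcon q hne ?_
    have hfix := (Finset.mem_filter.1 hq).2
    rw [Subgroup.mem_centralizer_iff]
    intro t ht
    have h1 := congrArg (fun r : Q => y * (r : G)) (hfix ⟨t, ht⟩)
    simp only [hsm, mul_inv_eq_iff_eq_mul] at h1
    exact h1
  set x := y * (q₀ : G) with hx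
  have hne : (bidem ψ).coeff x ≠ 0 := fun h => hq₀ (by rw [hfcoeff, h, ite_self])
  have hxD : x ∈ C[D] := by
    by_contra h
    exact hq₀ (by rw [hfcoeff, if_neg h])
  have hxN : x ∈ Subgroup.normalizer (D : Set G) := Subgroup.centralizer_le_normalizer _ hxD
  have hDmap : D ≤ (P : Subgroup G).map (MulAut.conj x).toMonoidHom := by
    intro d hd
    rw [mem_map_conj_iff]
    have h := Subgroup.mem_centralizer_iff.1 hxD d hd
    rw [mul_assoc, h, inv_mul_cancel_left]
    exact hDP hd
  refine ⟨x, hne, ?_, ?_⟩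
  · -- the Sylow subgroup of the centralizer
    set C := Subgroup.centralizer ({x} : Set G)
    have hDC : D ≤ C := mem_centralizer_singleton_of hxD
    obtain ⟨R, hR⟩ := (hDp.comap_of_injective C.subtype C.subtype_injective :
      IsPGroup p (D.subgroupOf C)).exists_le_sylow
    refine ⟨R, (Subgroup.eq_of_le_of_card_ge ?_ ?_).symm⟩
    · rw [← Subgroup.map_subgroupOf_eq_of_le hDC]
      exact Subgroup.map_mono hR
    · exact card_le_of_coeff_ne_zero hD hne (R.2.map _)
        (mem_centralizer_of_le (Subgroup.map_subtype_le _))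
  · refine le_antisymm ?_ (le_inf hDP hDmap)
    set T' := (P : Subgroup G) ⊓ (P : Subgroup G).map (MulAut.conj x).toMonoidHom
    by_contra hcon
    have hlt : D < T' := lt_of_le_not_ge (le_inf hDP hDmap) hcon
    have hlt' := lt_normalizer_inf (P.2.to_le inf_le_left : IsPGroup p T') hlt
    have hsub : T' ⊓ Subgroup.normalizer (D : Set G) ≤ T := by
      rintro t ⟨⟨htP, htx⟩, htN⟩
      have h2 : x⁻¹ * t * x ∈ (P : Subgroup G) := (mem_map_conj_iff x _ t).mp htx
      have h3 : x⁻¹ * t * x ∈ Q :=
        ⟨h2, (Subgroup.normalizer (D : Set G)).mul_mem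
          ((Subgroup.normalizer (D : Set G)).mul_mem (inv_mem hxN) htN) hxN⟩
      refine ⟨⟨htP, htN⟩, (mem_map_conj_iff y Q t).mpr ?_⟩
      have h4 : y⁻¹ * t * y = (q₀ : G) * (x⁻¹ * t * x) * (q₀ : G)⁻¹ := by
        simp [hx, mul_assoc]
      show y⁻¹ * t * y ∈ Q
      rw [h4]
      exact Q.mul_mem (Q.mul_mem q₀.2 h3) (Q.inv_mem q₀.2)
    have hle : Nat.card T ≤ Nat.card D := card_le_of_coeff_ne_zero hD hne hTp hq₀T
    have h5 : Nat.card D < Nat.card (T' ⊓ Subgroup.normalizer (D : Set G) : Subgroup G) := by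
      by_contra h
      exact hlt'.ne (Subgroup.eq_of_le_of_card_ge hlt'.le (Nat.not_lt.mp h))
    have h6 := Nat.le_of_dvd Nat.card_pos (Subgroup.card_dvd_of_le hsub)
    omega

end Cfsg.Agent.Lib.BrauerMap.DefectFacts
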