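import Cfsg.Agent.Lib.BrauerMap.SecondMain
import Cfsg.Agent.Lib.BrauerMap.DefectFacts
import Cfsg.Agent.Lib.Blocks.DefectGroup

/-!
# Characters of full defect over a central p-subgroup
-/

set_option autoImplicit false
set_option linter.style.haveILetI false

namespace Cfsg.Agent.Lib.BrauerMap.CentralDefect

open MonoidAlgebra Cfsg.Agent.Lib.BrauerMap.Basic Cfsg.Agent.Lib.BrauerMap.ClassSum
open Cfsg.Agent.Lib.Blocks
open Cfsg.Agent.Lib.Characters.Basic
open Cfsg.Agent.Lib.BrauerPairs.Trunc Cfsg.Agent.Lib.BrauerPairs.Pairs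
open Cfsg.Agent.Lib.BrauerPairs.Maximal
open Cfsg.Agent.Lib.BrauerPairs.Bridge (Res blk blkOf blkOf_of_mem blkOf_classSumC isDefectGroup_iff)
open scoped ComplexConjugate

universe u

attribute [local instance] Ideal.Quotient.field

variable {G : Type u} [Group G] [Finite G] {p : ℕ} [Fact p.Prime] {M : Ideal Cfsg.AlgInt}
  [M.IsMaximal]

/-- A central element and its inverse cancel in a product of two values. -/
theorem mul_apply_central {d : G} (hd : ∀ g, Commute d g) (θ : Cfsg.IrrCharacter G) (a b : G) :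
    (θ : G → ℂ) (a * d) * (θ : G → ℂ) (d⁻¹ * b) = (θ : G → ℂ) a * (θ : G → ℂ) b := by
  have hone := char_one_ne_zero θ
  have hcen : ∀ c : G, (∀ g, Commute c g) →
      (single c (1 : ℂ)) ∈ Subalgebra.center ℂ (MonoidAlgebra ℂ G) := fun c hc => by
    rw [mem_center_iff_coeff]
    intro u x
    classical
    simp only [coeff_single, Finsupp.single_apply]
    refine if_congr ?_ rfl rfl
    constructor
    · rintro rfl
      have h := (hc u).eq
      rw [inv_mul_cancel_right] at h
      exact mul_left_cancel h.symm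
    · rintro rfl
      rw [← (hc u).eq, mul_inv_cancel_right]
  have hmul : ∀ c : G, (∀ g, Commute c g) → ∀ w, (θ : G → ℂ) (c * w) =
      (θ : G → ℂ) c / (θ : G → ℂ) 1 * (θ : G → ℂ) w := fun c hc w => by
    have h := lin_center_mul θ (hcen c hc) (single w 1)
    rwa [single_mul_single, one_mul, lin_single, lin_single, lin_single, one_mul, one_mul,
      one_mul] at h
  rw [← (hd a).eq, hmul d hd, hmul d⁻¹ fun g => (hd g).inv_left]
  have h1 := hmul d hd d⁻¹
  rw [mul_inv_cancel] at h1
  field_simp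
  field_simp at h1
  linear_combination (-(θ : G → ℂ) a * (θ : G → ℂ) b) * h1

/-- The degree over the p-part of the index lies in the local ring. -/
theorem degree_div_index_mem (hM : Cfsg.IsPModular p M) {D : Subgroup G}
    {χ : Cfsg.IrrCharacter G}
    (hdeg : (Cfsg.charDegree (χ : G → ℂ)).factorization p = D.index.factorization p) :
    (χ : G → ℂ) 1 / (D.index : ℂ) ∈ localRing M ∧
      (D.index : ℂ) / (χ : G → ℂ) 1 ∈ localRing M := by
  set n := Cfsg.charDegree (χ : G → ℂ) with hn
  set m := D.index with hm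
  have hn0 : n ≠ 0 := (charDegree_pos χ).ne'
  have hm0 : m ≠ 0 := Subgroup.index_ne_zero_of_finite
  have key : ∀ a b : ℕ, a ≠ 0 → b ≠ 0 → a.factorization p = b.factorization p →
      (a : ℂ) / (b : ℂ) ∈ localRing M := by
    intro a b ha hb hab
    have e : (a : ℂ) / (b : ℂ) =
        ((a / p ^ a.factorization p : ℕ) : ℂ) * ((b / p ^ b.factorization p : ℕ) : ℂ)⁻¹ := by
      have h1 : ((p ^ a.factorization p * (a / p ^ a.factorization p) : ℕ) : ℂ) = a :=
        congrArg _ (Nat.ordProj_mul_ordCompl_eq_self a p)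
      have h2 : ((p ^ b.factorization p * (b / p ^ b.factorization p) : ℕ) : ℂ) = b :=
        congrArg _ (Nat.ordProj_mul_ordCompl_eq_self b p)
      push_cast at h1 h2
      have hb' : ((b / p ^ b.factorization p : ℕ) : ℂ) ≠ 0 :=
        Nat.cast_ne_zero.mpr fun e => Nat.not_dvd_ordCompl hM.1 hb (e ▸ dvd_zero p)
      have hb0 : (b : ℂ) ≠ 0 := Nat.cast_ne_zero.mpr hb
      generalize ((a / p ^ a.factorization p : ℕ) : ℂ) = A at h1 ⊢
      generalize ((b / p ^ b.factorization p : ℕ) : ℂ) = B at h2 hb' ⊢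
      rw [hab] at h1
      field_simp
      linear_combination A * h2 - B * h1
    rw [e]
    exact mul_mem (natCast_mem _ _)
      (natCast_inv_mem_localRing hM (Nat.not_dvd_ordCompl hM.1 hb))
  rw [char_one_eq_degree χ]
  exact ⟨key n m hn0 hm0 hdeg, key m n hm0 hn0 hdeg.symm⟩

/-- A character of full defect over a central subgroup has a value off the ideal. -/
theorem exists_not_memLocalIdeal (hM : Cfsg.IsPModular p M) {D : Subgroup G}
    (hDZ : D ≤ Subgroup.center G) {χ : Cfsg.IrrCharacter G}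
    (hdeg : (Cfsg.charDegree (χ : G → ℂ)).factorization p = D.index.factorization p) :
    ∃ h : G, ¬ Cfsg.MemLocalIdeal M ((χ : G → ℂ) h) := by
  classical
  haveI := Fintype.ofFinite G
  haveI := Fintype.ofFinite (G ⧸ D)
  by_contra hcon
  push Not at hcon
  set A : Set (Cfsg.IrrCharacter G) := {χ} with hA
  set F : G → ℂ := fun g => (Nat.card D : ℂ) * Cfsg.blockCoeff A g with hF
  have hcard : (Nat.card G : ℂ) = (Nat.card D : ℂ) * (D.index : ℂ) := by
    exact_mod_cast D.card_mul_index.symm
  have hD0 : (Nat.card D : ℂ) ≠ 0 := Nat.cast_ne_zero.mpr Nat.card_pos.ne'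
  have hFval : ∀ g, F g = (χ : G → ℂ) 1 / (D.index : ℂ) * (χ : G → ℂ) g⁻¹ := by
    intro g
    simp only [hF, hA, Cfsg.blockCoeff, finsum_mem_singleton,
      ← apply_inv (isCharacter_irr χ), hcard]
    field_simp
  have hFR : ∀ g, F g ∈ localRing M := fun g => by
    rw [hFval]
    exact mul_mem (degree_div_index_mem hM hdeg).1 (char_mem_localRing χ _)
  have hinv : ∀ d ∈ D, ∀ a b : G, F (a * d) * F (d⁻¹ * b) = F a * F b := by
    intro d hd a b
    have hc : ∀ g, Commute d g := fun g => (Subgroup.mem_center_iff.mp (hDZ hd) g).symm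
    simp only [hFval, mul_inv_rev, inv_inv]
    have h1 := mul_apply_central hc χ b⁻¹ a⁻¹
    rw [((hc a⁻¹).inv_left).eq] at *
    rw [← (hc b⁻¹).eq] at h1 ⊢
    linear_combination ((χ : G → ℂ) 1 / (D.index : ℂ)) * ((χ : G → ℂ) 1 / (D.index : ℂ)) * h1
  -- the square of the idempotent
  have hsq : ∀ g, ∑ h : G, F h * F (h⁻¹ * g) = (Nat.card D : ℂ) * F g := by
    intro g
    have h := congrArg (fun z : Subalgebra.center ℂ (MonoidAlgebra ℂ G) => z.1.coeff g)
      (idem_mul_idem A A)
    simp only [Set.inter_self, Subalgebra.coe_mul, coeff_mul_sum, coeff_idem] at h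
    simp only [hF]
    rw [← h, Finset.mul_sum, Finset.mul_sum]
    exact Finset.sum_congr rfl fun x _ => by ring
  have htrans : ∀ g, ∑ c : G ⧸ D, F c.out * F (c.out⁻¹ * g) = F g := by
    intro g
    refine mul_left_cancel₀ hD0 ?_
    rw [← hsq g, ← Finset.sum_fiberwise Finset.univ (fun h : G => (h : G ⧸ D)), Finset.mul_sum]
    refine Finset.sum_congr rfl fun c _ => ?_
    rw [Finset.sum_congr rfl (g := fun _ => F c.out * F (c.out⁻¹ * g)) fun h hh => ?_,
      Finset.sum_const, nsmul_eq_mul]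
    · congr 1
      norm_cast
      rw [← Fintype.card_subtype, ← Nat.card_eq_fintype_card]
      refine Nat.card_congr
        { toFun := fun d => ⟨c.out * d, by
            rw [QuotientGroup.mk_mul_of_mem _ d.2]; exact Quotient.out_eq' c⟩
          invFun := fun h => ⟨c.out⁻¹ * h.1, by
            rw [← QuotientGroup.eq, h.2]; exact Quotient.out_eq' c⟩
          left_inv := fun d => Subtype.ext (inv_mul_cancel_left _ _)
          right_inv := fun h => Subtype.ext (mul_inv_cancel_left _ _) }
    · obtain ⟨d, hd, rfl⟩ : ∃ d ∈ D, c.out * d = h :=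
        ⟨c.out⁻¹ * h, QuotientGroup.eq.mp ((Quotient.out_eq' c).trans
          (Finset.mem_filter.mp hh).2.symm), mul_inv_cancel_left _ _⟩
      rw [mul_inv_rev, mul_assoc d⁻¹]
      exact hinv d hd c.out (c.out⁻¹ * g)
  -- no fixed vector
  set R := localRing M
  haveI : Module.Free R (MonoidAlgebra R G) :=
    Module.Free.of_equiv (MonoidAlgebra.coeffLinearEquiv R).symm
  haveI : Module.Finite R (MonoidAlgebra R G) :=
    Module.Finite.equiv (MonoidAlgebra.coeffLinearEquiv R).symm
  set E : MonoidAlgebra R G :=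
    ofCoeff (Finsupp.equivFunOnFinite.symm fun g => (⟨F g, hFR g⟩ : R)) with hE
  have h0 : E = 0 := by
    refine eq_zero_of_fixed_of_residue_eq_zero (M := M) Finset.univ
      (fun c : G ⧸ D => (⟨F c.out, hFR c.out⟩ : R))
      (fun c => LinearMap.mulLeft R (single c.out 1)) (fun c _ => ?_) ?_
    · rw [residue_eq_zero_iff]
      show Cfsg.MemLocalIdeal M (F c.out)
      rw [hFval]
      exact memLocalIdeal_mul_left (degree_div_index_mem hM hdeg).1 (hcon _)
    · ext g
      simp only [LinearMap.sum_apply, LinearMap.smul_apply, LinearMap.mulLeft_apply, coeff_sum,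
        Finsupp.finsetSum_apply, coeff_smul, Finsupp.smul_apply, coeff_single_mul_apply, one_mul,
        smul_eq_mul]
      push_cast
      exact htrans g
  have h1 : F 1 = 0 := congrArg Subtype.val
    (congrArg (fun z : MonoidAlgebra R G => z.coeff 1) h0)
  rw [hFval, inv_one] at h1
  simp [char_one_ne_zero χ, Subgroup.index_ne_zero_of_finite] at h1

/-- The block of a character of full defect over a central subgroup `D` has defect group `D`. -/
theorem isDef_of_degree [CharP (Res M) p] (hM : Cfsg.IsPModular p M) {D : Subgroup G}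
    (hD : IsPGroup p D) (hDZ : D ≤ Subgroup.center G) {χ : Cfsg.IrrCharacter G}
    (hdeg : (Cfsg.charDegree (χ : G → ℂ)).factorization p = D.index.factorization p)
    {ψ : Cfsg.Agent.Lib.BrauerPairs.Center.Blk (Res M) G} (hψ : blkOf M χ = ψ) :
    IsDef p ψ D := by
  classical
  obtain ⟨D', hD'⟩ := exists_isDef (p := p) ψ
  obtain ⟨h, hh⟩ := exists_not_memLocalIdeal hM hDZ hdeg
  haveI : D.Normal := ⟨fun a ha b => by
    rw [Subgroup.mem_center_iff.mp (hDZ ha) b, mul_inv_cancel_right]; exact ha⟩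
  have hDle : D ≤ D' := by
    obtain ⟨g, -, -, S, rfl⟩ := hD'
    exact normal_le_of_le_centralizer hD (fun d hd => Subgroup.mem_centralizer_singleton_iff.mpr
      (Subgroup.mem_center_iff.mp (hDZ hd) g).symm) S
  set C := Subgroup.centralizer ({h} : Set G)
  -- the class is not large
  have hω := centralChar_mem_localRing (M := M) χ h
  have hC : (Nat.card C).factorization p ≤ (Nat.card D).factorization p := by
    by_contra hlt
    apply hh
    have e : (χ : G → ℂ) h = Cfsg.centralChar (χ : G → ℂ) h *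
        ((χ : G → ℂ) 1 / (D.index : ℂ)) * ((D.index : ℂ) / (C.index : ℂ)) := by
      rw [Cfsg.centralChar]
      have h1 := char_one_ne_zero χ
      have h2 : (C.index : ℂ) ≠ 0 := Nat.cast_ne_zero.mpr Subgroup.index_ne_zero_of_finite
      have h3 : (D.index : ℂ) ≠ 0 := Nat.cast_ne_zero.mpr Subgroup.index_ne_zero_of_finite
      field_simp
      rfl
    rw [e]
    refine memLocalIdeal_mul_left (mul_mem hω (degree_div_index_mem hM hdeg).1) ?_
    have e2 : (D.index : ℂ) / (C.index : ℂ) = (Nat.card C : ℂ) / (Nat.card D : ℂ) := by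
      rw [div_eq_div_iff (Nat.cast_ne_zero.mpr Subgroup.index_ne_zero_of_finite)
        (Nat.cast_ne_zero.mpr Nat.card_pos.ne'), mul_comm, mul_comm (Nat.card C : ℂ)]
      exact_mod_cast D.card_mul_index.trans (C.index_mul_card).symm
    rw [e2]
    obtain ⟨n, hn⟩ := IsPGroup.iff_card.mp hD
    rw [hn, (Fact.out : p.Prime).factorization_pow, Finsupp.single_eq_same, not_le] at hlt
    have hdvd : p ^ n * p ∣ Nat.card C := by
      rw [← pow_succ]
      exact ((Fact.out : p.Prime).pow_dvd_iff_le_factorization Nat.card_pos.ne').mpr hlt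
    obtain ⟨r, hr⟩ := hdvd
    rw [hr, hn, show ((p ^ n * p * r : ℕ) : ℂ) / ((p ^ n : ℕ) : ℂ) = ((p * r : ℕ) : ℂ) by
      have : ((p : ℂ) ^ n) ≠ 0 := pow_ne_zero _ (Nat.cast_ne_zero.mpr hM.1.ne_zero)
      push_cast; field_simp]
    exact (memLocalIdeal_natCast_iff hM _).mpr (dvd_mul_right p r)
  have hne : ψ (classSumC (Res M) h) ≠ 0 := by
    rw [← hψ, blkOf_classSumC, Ne, residue_eq_zero_iff, coe_ccR]
    intro hmem
    apply hh
    have e : (χ : G → ℂ) h = Cfsg.centralChar (χ : G → ℂ) h *
        ((χ : G → ℂ) 1 / (D.index : ℂ)) * ((D.index : ℂ) / (C.index : ℂ)) := by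
      rw [Cfsg.centralChar]
      have h1 := char_one_ne_zero χ
      have h2 : (C.index : ℂ) ≠ 0 := Nat.cast_ne_zero.mpr Subgroup.index_ne_zero_of_finite
      have h3 : (D.index : ℂ) ≠ 0 := Nat.cast_ne_zero.mpr Subgroup.index_ne_zero_of_finite
      field_simp
      rfl
    rw [e, mul_assoc]
    refine memLocalIdeal_mul_right hmem (mul_mem (degree_div_index_mem hM hdeg).1 ?_)
    have hle : D ≤ C := fun d hd => Subgroup.mem_centralizer_singleton_iff.mpr
      (Subgroup.mem_center_iff.mp (hDZ hd) h).symm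
    obtain ⟨r, hr⟩ := Subgroup.index_dvd_of_le hle
    rw [hr, Nat.cast_mul, mul_div_cancel_left₀ _
      (Nat.cast_ne_zero.mpr Subgroup.index_ne_zero_of_finite)]
    exact natCast_mem _ _
  obtain ⟨ν, hν⟩ := exists_pairOf_isDef hD'
  obtain ⟨c, hc⟩ := exists_conj_mem hν hne
  have hle : D'.map (MulAut.conj c⁻¹).toMonoidHom ≤ C := by
    apply mem_centralizer_singleton_of
    have h1 := (mem_centralizer_map_iff c⁻¹ D' (c * h * c⁻¹)).mp hc
    simpa [mul_assoc] using h1
  have hdvd := Subgroup.card_dvd_of_le hle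
  rw [Cfsg.Agent.Lib.BrauerPairs.Maximal.card_map_conj] at hdvd
  obtain ⟨m, hm⟩ := IsPGroup.iff_card.mp hD'.isPGroup
  obtain ⟨n, hn⟩ := IsPGroup.iff_card.mp hD
  rw [hm] at hdvd
  have hmn := ((Fact.out : p.Prime).pow_dvd_iff_le_factorization Nat.card_pos.ne').mp hdvd
  rw [hn, (Fact.out : p.Prime).factorization_pow, Finsupp.single_eq_same] at hC
  rw [Subgroup.eq_of_le_of_card_ge hDle
    (by rw [hm, hn]; exact Nat.pow_le_pow_right hM.1.pos (hmn.trans hC))]
  exact hD'

/-- A character vanishes where the p-part lies in no conjugate of a defect group. -/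
theorem apply_eq_zero_of_isDef [CharP (Res M) p] (hM : Cfsg.IsPModular p M)
    {B : Set (Cfsg.IrrCharacter G)} (hB : Cfsg.IsPBlock M B) {D : Subgroup G}
    (hD : IsDef p (blk hB) D) {g x : G} (hx : Cfsg.IsPPart p g x)
    (hnot : ∀ c : G, c * x * c⁻¹ ∉ D) {χ : Cfsg.IrrCharacter G} (hχ : χ ∈ B) :
    (χ : G → ℂ) g = 0 := by
  classical
  haveI := Fintype.ofFinite G
  have h := SecondMain.apply_eq_sum_of_val_eq_one hM hB hx (0 : MonoidAlgebra (localRing M) G)
    (mul_zero 0) (fun u _ => Commute.zero_right _) (fun ω hω => ?_) hχ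
  · simpa using h
  · obtain ⟨c, hc⟩ := exists_map_le_isDef hω hD
    exact absurd (hc ⟨x, Subgroup.mem_zpowers x, rfl⟩) (hnot c)

end Cfsg.Agent.Lib.BrauerMap.CentralDefect
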