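import Cfsg.Agent.Lib.Characters.Complete
import Cfsg.Agent.Lib.Blocks.Central

/-!
# Restriction to a normal subgroup and induced central characters

A constituent `θ` of `χ` restricted to a normal subgroup `N` is detected by the equality of the
central character of `χ` with the induced central character of `θ` on the classes inside `N`.
-/

namespace Cfsg.Agent.Lib.BrauerMap.Normal

open MonoidAlgebra Cfsg.Agent.Lib.BrauerMap.Basic Cfsg.Agent.Lib.BrauerMap.ClassSum
open scoped ComplexConjugate

universe u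

variable {G : Type u} [Group G]

/-- Restriction of a function to a subgroup. -/
def resFun (N : Subgroup G) (φ : G → ℂ) : N → ℂ := fun n => φ n

theorem resFun_apply (N : Subgroup G) (φ : G → ℂ) (n : N) : resFun N φ n = φ n := rfl

theorem isCharacter_resFun (N : Subgroup G) {φ : G → ℂ} (h : Cfsg.IsCharacter G φ) :
    Cfsg.IsCharacter N (resFun N φ) :=
  Cfsg.Agent.Lib.Characters.Basic.isCharacter_comp N.subtype h

/-- Conjugation by an element of G on a normal subgroup, as an automorphism. -/
def conjHom (N : Subgroup G) [hN : N.Normal] (g : G) : N →* N where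
  toFun n := ⟨g * n * g⁻¹, hN.conj_mem n n.2 g⟩
  map_one' := Subtype.ext (by simp)
  map_mul' a b := Subtype.ext (by simp)

theorem conjHom_surjective (N : Subgroup G) [hN : N.Normal] (g : G) :
    Function.Surjective (conjHom N g) := fun n =>
  ⟨⟨g⁻¹ * n * g, by simpa using hN.conj_mem n n.2 g⁻¹⟩, Subtype.ext (by simp [conjHom, mul_assoc])⟩

/-- The conjugate of an irreducible character of a normal subgroup. -/
def conjIrr (N : Subgroup G) [N.Normal] (g : G) (η : Cfsg.IrrCharacter N) :
    Cfsg.IrrCharacter N :=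
  ⟨fun n => (η : N → ℂ) (conjHom N g n),
    Cfsg.Agent.Lib.Characters.Basic.isIrrCharacter_comp _ (conjHom_surjective N g) η.2⟩

theorem conjIrr_apply (N : Subgroup G) [hN : N.Normal] (g : G) (η : Cfsg.IrrCharacter N) (n : N) :
    (conjIrr N g η : N → ℂ) n = (η : N → ℂ) ⟨g * n * g⁻¹, hN.conj_mem n n.2 g⟩ := rfl

theorem classInner_conjIrr [Fintype G] (N : Subgroup G) [hN : N.Normal] [Fintype N]
    (χ : Cfsg.IrrCharacter G) (g : G) (η : Cfsg.IrrCharacter N) :
    Cfsg.classInner (resFun N (χ : G → ℂ)) (conjIrr N g η : N → ℂ) =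
      Cfsg.classInner (resFun N (χ : G → ℂ)) (η : N → ℂ) := by
  unfold Cfsg.classInner
  congr 1
  refine Fintype.sum_bijective (conjHom N g) ⟨?_, conjHom_surjective N g⟩ _ _ fun n => ?_
  · intro a b h
    have := congrArg Subtype.val h
    exact Subtype.ext (by simpa [conjHom] using this)
  · change resFun N (χ : G → ℂ) n * _ = resFun N (χ : G → ℂ) (conjHom N g n) * _
    rw [resFun_apply, resFun_apply]
    change _ = (χ : G → ℂ) (g * n * g⁻¹) * _
    rw [Cfsg.Agent.Lib.Blocks.char_conj_apply]
    rfl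

variable [Fintype G] (N : Subgroup G) [hN : N.Normal] [Fintype N]

open scoped Classical in
/-- The G-class sum of an element of N inside the group algebra of N. -/
noncomputable def gClassSum (n : N) : MonoidAlgebra ℂ N :=
  ofCoeff (Finsupp.equivFunOnFinite.symm fun h : N => if IsConj (n : G) (h : G) then 1 else 0)

theorem gClassSum_mem_center (n : N) :
    gClassSum N n ∈ Subalgebra.center ℂ (MonoidAlgebra ℂ N) := by
  classical
  rw [mem_center_iff_coeff]
  intro u h
  have e : IsConj (h : G) ((u : G) * h * (u : G)⁻¹) := isConj_iff.2 ⟨u, rfl⟩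
  exact if_congr ⟨fun a => a.trans e.symm, fun a => a.trans e⟩ rfl rfl

open scoped Classical in
theorem lin_gClassSum_mul (φ : N → ℂ) (n y : N) :
    Cfsg.Agent.Lib.Blocks.lin φ (gClassSum N n * single y 1) =
      ∑ h ∈ (Finset.univ.filter fun h : N => IsConj (n : G) (h : G)), φ (h * y) := by
  have e : gClassSum N n = ∑ h ∈ (Finset.univ.filter fun h : N => IsConj (n : G) (h : G)), single h (1 : ℂ) := by
    ext a
    rw [coeff_sum, Finsupp.finsetSum_apply]
    simp only [coeff_single, Finsupp.single_apply]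
    rw [Finset.sum_ite_eq']
    simp [gClassSum]
  rw [e, Finset.sum_mul, map_sum]
  refine Finset.sum_congr rfl fun h _ => ?_
  rw [single_mul_single, one_mul, Cfsg.Agent.Lib.Blocks.lin_single, one_mul]

open scoped Classical in
theorem inducedCentralChar_eq (φ : N → ℂ) (g : G) :
    Cfsg.inducedCentralChar N φ g = ∑ h ∈ (Finset.univ.filter fun h : N => IsConj g (h : G)), φ h / φ 1 :=
  finsum_mem_eq_sum_of_subset _
    (fun a ha => Finset.mem_coe.2 (Finset.mem_filter.2 ⟨Finset.mem_univ _, ha.1⟩))
    (fun a ha => (Finset.mem_filter.1 (Finset.mem_coe.1 ha)).2)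

open scoped Classical in
theorem sum_conj_mul_irr_normal (θ : Cfsg.IrrCharacter N) (n y : N) :
    ∑ h ∈ (Finset.univ.filter fun h : N => IsConj (n : G) (h : G)), (θ : N → ℂ) (h * y) =
      Cfsg.inducedCentralChar N (θ : N → ℂ) (n : G) * (θ : N → ℂ) y := by
  rw [← lin_gClassSum_mul, Cfsg.Agent.Lib.Blocks.lin_center_mul θ (gClassSum_mem_center N n),
    Cfsg.Agent.Lib.Blocks.lin_single, one_mul]
  congr 1
  rw [inducedCentralChar_eq, ← Finset.sum_div]
  congr 1
  rw [← mul_one (gClassSum N n), one_def, lin_gClassSum_mul]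
  simp

open scoped Classical in
theorem sum_conj_mul_irr (χ : Cfsg.IrrCharacter G) (g y : G) :
    ∑ h : G with IsConj g h, (χ : G → ℂ) (h * y) =
      Cfsg.centralChar (χ : G → ℂ) g * (χ : G → ℂ) y := by
  have e : classSum ℂ g = ∑ h : G with IsConj g h, single h (1 : ℂ) := by
    ext a
    rw [coeff_sum, Finsupp.finsetSum_apply, coeff_classSum]
    simp only [coeff_single, Finsupp.single_apply]
    rw [Finset.sum_ite_eq']
    simp
  have hl : Cfsg.Agent.Lib.Blocks.lin (χ : G → ℂ) (classSum ℂ g * single y 1) =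
      ∑ h : G with IsConj g h, (χ : G → ℂ) (h * y) := by
    rw [e, Finset.sum_mul, map_sum]
    refine Finset.sum_congr rfl fun h _ => ?_
    rw [single_mul_single, one_mul, Cfsg.Agent.Lib.Blocks.lin_single, one_mul]
  rw [← hl, Cfsg.Agent.Lib.Blocks.lin_center_mul χ (classSum_mem_center g),
    Cfsg.Agent.Lib.Blocks.lin_single, one_mul]
  congr 1
  exact Cfsg.Agent.Lib.Blocks.omega_classSumC χ g

/-- A constituent of the restriction has the same central character on the classes inside N. -/
theorem centralChar_eq_of_constituent (χ : Cfsg.IrrCharacter G) (θ : Cfsg.IrrCharacter N)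
    (h : Cfsg.classInner (resFun N (χ : G → ℂ)) (θ : N → ℂ) ≠ 0) (n : N) :
    Cfsg.centralChar (χ : G → ℂ) (n : G) = Cfsg.inducedCentralChar N (θ : N → ℂ) (n : G) := by
  classical
  haveI := Fintype.ofFinite (Cfsg.IrrCharacter N)
  have hexp := Cfsg.Agent.Lib.Characters.Complete.classFunction_eq_sum
    (Cfsg.Agent.Lib.Characters.Basic.isClassFunction_of_isCharacter
      (isCharacter_resFun N (Cfsg.Agent.Lib.Characters.Basic.isCharacter_irr χ)))
  set m : Cfsg.IrrCharacter N → ℂ := fun η => Cfsg.classInner (resFun N (χ : G → ℂ)) (η : N → ℂ)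
  have hΦ : ∀ y : N, ∑ h ∈ (Finset.univ.filter fun h : N => IsConj (n : G) (h : G)), resFun N (χ : G → ℂ) (h * y) =
      Cfsg.centralChar (χ : G → ℂ) (n : G) * resFun N (χ : G → ℂ) y := by
    intro y
    simp only [resFun_apply, Subgroup.coe_mul]
    rw [← sum_conj_mul_irr χ (n : G) (y : G)]
    refine Finset.sum_bij (fun h _ => (h : G))
      (fun h hh => Finset.mem_filter.2 ⟨Finset.mem_univ _, (Finset.mem_filter.1 hh).2⟩)
      (fun a _ b _ e => Subtype.ext e) (fun b hb => ?_) (fun h _ => rfl)
    have hc := (Finset.mem_filter.1 hb).2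
    obtain ⟨c, hc'⟩ := isConj_iff.1 hc
    exact ⟨⟨b, hc' ▸ hN.conj_mem _ n.2 c⟩, Finset.mem_filter.2 ⟨Finset.mem_univ _, hc⟩, rfl⟩
  have hfun : Cfsg.centralChar (χ : G → ℂ) (n : G) • resFun N (χ : G → ℂ) =
      ∑ η : Cfsg.IrrCharacter N,
        (m η * Cfsg.inducedCentralChar N (η : N → ℂ) (n : G)) • (η : N → ℂ) := by
    funext y
    rw [Pi.smul_apply, smul_eq_mul, ← hΦ y, Finset.sum_apply]
    conv_lhs => rw [hexp]
    simp only [Finset.sum_apply, Pi.smul_apply, smul_eq_mul]
    rw [Finset.sum_comm]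
    refine Finset.sum_congr rfl fun η _ => ?_
    rw [← Finset.mul_sum, sum_conj_mul_irr_normal, mul_assoc]
  have hi := congrArg (fun φ : N → ℂ => Cfsg.classInner φ (θ : N → ℂ)) hfun
  simp only [Cfsg.Agent.Lib.Characters.Complete.classInner_irr_sum,
    Cfsg.Agent.Lib.Induced.Basic.classInner_smul_left] at hi
  rw [mul_comm] at hi
  exact mul_left_cancel₀ h hi

open scoped Classical in
/-- Averaging an invariant function against central characters. -/
theorem sum_invariant_centralChar (f : N → ℂ)
    (hf : ∀ a b : N, IsConj (a : G) (b : G) → f a = f b) (φ : N → ℂ) :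
    ∑ n : N, f n * φ n / φ 1 =
      ∑ n : N, f n * (((Subgroup.centralizer ({(n : G)} : Set G)).index : ℂ))⁻¹ *
        Cfsg.inducedCentralChar N φ (n : G) := by
  simp only [inducedCentralChar_eq, Finset.mul_sum, Finset.sum_filter]
  rw [Finset.sum_comm]
  refine Finset.sum_congr rfl fun h _ => ?_
  have hterm : ∀ n : N, (f n * (((Subgroup.centralizer ({(n : G)} : Set G)).index : ℂ))⁻¹ *
      if IsConj (n : G) (h : G) then φ h / φ 1 else 0) =
      if IsConj (h : G) (n : G) then
        f h * (((Subgroup.centralizer ({(h : G)} : Set G)).index : ℂ))⁻¹ * (φ h / φ 1) else 0 := by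
    intro n
    by_cases e : IsConj (n : G) (h : G)
    · rw [if_pos e, if_pos e.symm, hf n h e,
        Cfsg.Agent.Lib.Blocks.centralizer_index_eq_of_isConj e]
    · rw [if_neg e, if_neg (fun e' => e e'.symm), mul_zero]
  rw [Finset.sum_congr rfl fun n _ => hterm n, ← Finset.sum_filter, Finset.sum_const,
    nsmul_eq_mul]
  have hcard : (Finset.univ.filter fun n : N => IsConj (h : G) (n : G)).card =
      (Subgroup.centralizer ({(h : G)} : Set G)).index := by
    rw [← card_isConj, ← Fintype.card_subtype, ← Nat.card_eq_fintype_card]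
    refine Nat.card_congr
      { toFun := fun a => ⟨a.1.1, a.2⟩
        invFun := fun a => ⟨⟨a.1, ?_⟩, a.2⟩
        left_inv := fun a => rfl
        right_inv := fun a => rfl }
    obtain ⟨c, hc⟩ := isConj_iff.1 a.2
    exact hc ▸ hN.conj_mem _ h.2 c
  rw [hcard]
  have hne : ((Subgroup.centralizer ({(h : G)} : Set G)).index : ℂ) ≠ 0 :=
    Nat.cast_ne_zero.2 Subgroup.index_ne_zero_of_finite
  field_simp

/-- The converse: equality of the central characters forces a constituent. -/
theorem constituent_of_centralChar_eq (χ : Cfsg.IrrCharacter G) (θ : Cfsg.IrrCharacter N)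
    (h : ∀ n : N, Cfsg.centralChar (χ : G → ℂ) (n : G) =
      Cfsg.inducedCentralChar N (θ : N → ℂ) (n : G)) :
    Cfsg.classInner (resFun N (χ : G → ℂ)) (θ : N → ℂ) ≠ 0 := by
  classical
  haveI := Fintype.ofFinite (Cfsg.IrrCharacter N)
  intro h0
  set m : Cfsg.IrrCharacter N → ℂ :=
    fun η => Cfsg.classInner (resFun N (χ : G → ℂ)) (η : N → ℂ) with hm
  set S := Finset.univ.filter fun η : Cfsg.IrrCharacter N => m η ≠ 0 with hS
  set f : N → ℂ := fun n => ∑ η ∈ S, (η : N → ℂ) 1 * conj ((η : N → ℂ) n) with hfdef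
  have hf : ∀ a b : N, IsConj (a : G) (b : G) → f a = f b := by
    intro a b e
    obtain ⟨c, hc⟩ := isConj_iff.1 e
    refine (Finset.sum_bij (fun η _ => conjIrr N c η) ?_ ?_ ?_ ?_).symm
    · intro η hη
      rw [hS, Finset.mem_filter] at hη ⊢
      refine ⟨Finset.mem_univ _, ?_⟩
      rw [hm]; dsimp only
      rw [classInner_conjIrr]; exact hη.2
    · intro η _ η' _ e'
      apply Subtype.ext
      funext x
      obtain ⟨y, rfl⟩ := conjHom_surjective N c x
      exact congrArg (fun w : Cfsg.IrrCharacter N => (w : N → ℂ) y) e'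
    · intro η hη
      have hinv : conjIrr N c (conjIrr N c⁻¹ η) = η := by
        apply Subtype.ext
        funext x
        rw [conjIrr_apply, conjIrr_apply]
        exact congrArg (η : N → ℂ) (Subtype.ext (by simp [mul_assoc]))
      refine ⟨conjIrr N c⁻¹ η, ?_, hinv⟩
      rw [hS, Finset.mem_filter] at hη ⊢
      refine ⟨Finset.mem_univ _, ?_⟩
      rw [hm]; dsimp only
      rw [classInner_conjIrr]; exact hη.2
    · intro η _
      rw [conjIrr_apply, conjIrr_apply]
      have e1 : (⟨c * ((1 : N) : G) * c⁻¹, hN.conj_mem _ (1 : N).2 c⟩ : N) = 1 :=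
        Subtype.ext (by simp)
      have e2 : (⟨c * (a : G) * c⁻¹, hN.conj_mem _ a.2 c⟩ : N) = b := Subtype.ext hc
      rw [e1, e2]
  have hinner : ∀ φ : N → ℂ, ∑ n : N, f n * φ n =
      (Nat.card N : ℂ) * ∑ η ∈ S, (η : N → ℂ) 1 * Cfsg.classInner φ (η : N → ℂ) := by
    intro φ
    have hc : (Nat.card N : ℂ) ≠ 0 := Nat.cast_ne_zero.2 Nat.card_pos.ne'
    simp only [hfdef, Finset.sum_mul, Finset.mul_sum, Cfsg.classInner]
    rw [Finset.sum_comm]
    refine Finset.sum_congr rfl fun η _ => Finset.sum_congr rfl fun n _ => ?_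
    field_simp
  have h1 := sum_invariant_centralChar N f hf (θ : N → ℂ)
  have h2 : ∑ n : N, f n * resFun N (χ : G → ℂ) n / resFun N (χ : G → ℂ) 1 =
      ∑ n : N, f n * (((Subgroup.centralizer ({(n : G)} : Set G)).index : ℂ))⁻¹ *
        Cfsg.centralChar (χ : G → ℂ) (n : G) := by
    refine Finset.sum_congr rfl fun n _ => ?_
    have hne : ((Subgroup.centralizer ({(n : G)} : Set G)).index : ℂ) ≠ 0 :=
      Nat.cast_ne_zero.2 Subgroup.index_ne_zero_of_finite
    rw [Cfsg.centralChar, resFun_apply, resFun_apply, OneMemClass.coe_one]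
    field_simp
  simp only [h] at h2
  rw [← h1, ← Finset.sum_div, ← Finset.sum_div, hinner, hinner] at h2
  have hθS : θ ∉ S := fun hh => (Finset.mem_filter.1 hh).2 h0
  have hzero : ∑ η ∈ S, (η : N → ℂ) 1 * Cfsg.classInner (θ : N → ℂ) (η : N → ℂ) = 0 :=
    Finset.sum_eq_zero fun η hη => by
      have hne : θ ≠ η := by
        intro e
        subst e
        exact hθS hη
      rw [Cfsg.Agent.Lib.Characters.Basic.classInner_irr_of_ne hne, mul_zero]
  have hdeg : ∑ η ∈ S, (η : N → ℂ) 1 * m η = (χ : G → ℂ) 1 := by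
    have hexp := congrFun (Cfsg.Agent.Lib.Characters.Complete.classFunction_eq_sum
      (Cfsg.Agent.Lib.Characters.Basic.isClassFunction_of_isCharacter
        (isCharacter_resFun N (Cfsg.Agent.Lib.Characters.Basic.isCharacter_irr χ)))) 1
    simp only [Finset.sum_apply, Pi.smul_apply, smul_eq_mul, resFun_apply,
      OneMemClass.coe_one] at hexp
    rw [hexp, hS, Finset.sum_filter]
    refine Finset.sum_congr rfl fun η _ => ?_
    by_cases e : m η = 0
    · rw [if_neg (not_not.2 e)]
      change _ = m η * _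
      rw [e, zero_mul]
    · rw [if_pos e, mul_comm]
  have hχ := Cfsg.Agent.Lib.Blocks.char_one_ne_zero χ
  rw [hzero, mul_zero, zero_div, hdeg, resFun_apply, OneMemClass.coe_one,
    mul_div_assoc, div_self hχ, mul_one] at h2
  exact Nat.card_pos.ne' (Nat.cast_eq_zero.1 h2)

end Cfsg.Agent.Lib.BrauerMap.Normal
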