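import Cfsg.Agent.Lib.BrauerMap.Induced
import Cfsg.Agent.Lib.BrauerMap.Normal
import Cfsg.Agent.Lib.Blocks.Basic

/-!
# Blocks of a normal subgroup covered by a block: Passman's criterion
-/

namespace Cfsg.Agent.Lib.BrauerMap.Covering

open MonoidAlgebra Cfsg.Agent.Lib.BrauerMap.Basic Cfsg.Agent.Lib.BrauerMap.ClassSum
  Cfsg.Agent.Lib.BrauerMap.Induced Cfsg.Agent.Lib.BrauerMap.Normal Cfsg.Agent.Lib.Blocks

universe u

variable {G : Type u} [Group G] [Finite G] {M : Ideal Cfsg.AlgInt} [M.IsMaximal]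

/-- A set of characters saturated for `SameBlock` has an idempotent with local coefficients. -/
theorem memLocalRing_blockCoeff_of_saturated {H : Type u} [Group H] [Finite H]
    (A : Set (Cfsg.IrrCharacter H))
    (hA : ∀ χ ψ : Cfsg.IrrCharacter H, Cfsg.SameBlock M (χ : H → ℂ) (ψ : H → ℂ) → χ ∈ A → ψ ∈ A)
    (h : H) : Cfsg.MemLocalRing M (Cfsg.blockCoeff A h) := by
  classical
  haveI := Fintype.ofFinite (Cfsg.IrrCharacter H)
  let bl : Cfsg.IrrCharacter H → Set (Cfsg.IrrCharacter H) :=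
    fun χ => Cfsg.blockOf M (χ : H → ℂ)
  let F : Cfsg.IrrCharacter H → ℂ :=
    fun χ => (χ : H → ℂ) 1 * starRingEnd ℂ ((χ : H → ℂ) h)
  set S := Finset.univ.filter fun χ : Cfsg.IrrCharacter H => χ ∈ A with hS
  have key : Cfsg.blockCoeff A h = ∑ B ∈ S.image bl, Cfsg.blockCoeff B h := by
    rw [blockCoeff_eq_sum A h, ← Finset.sum_fiberwise_of_maps_to (g := bl) (t := S.image bl)
      (fun χ hχ => Finset.mem_image_of_mem bl hχ), Finset.mul_sum]
    refine Finset.sum_congr rfl fun B hB => ?_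
    obtain ⟨θ, hθ, rfl⟩ := Finset.mem_image.1 hB
    rw [blockCoeff_eq_sum (bl θ) h]
    congr 1
    refine Finset.sum_congr ?_ fun _ _ => rfl
    ext χ
    simp only [Finset.mem_filter, Finset.mem_univ, true_and, hS]
    refine ⟨fun hh => ?_, fun hh => ?_⟩
    · exact hh.2 ▸ mem_blockOf_self χ
    · exact ⟨hA θ χ hh (Finset.mem_filter.1 hθ).2, blockOf_eq_of_mem hh⟩
  rw [key]
  exact mem_localRing_iff.1 (sum_mem fun B hB => by
    obtain ⟨θ, -, rfl⟩ := Finset.mem_image.1 hB
    exact mem_localRing_iff.2 (memLocalRing_blockCoeff (isPBlock_blockOf θ) h))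

variable (N : Subgroup G) [hN : N.Normal]

theorem centralizer_index_conjHom (g : G) (n : N) :
    (Subgroup.centralizer ({conjHom N g n} : Set N)).index =
      (Subgroup.centralizer ({n} : Set N)).index := by
  classical
  rw [← card_isConj, ← card_isConj]
  have hbij : Function.Bijective (conjHom N g) := by
    refine ⟨fun a b e => ?_, conjHom_surjective N g⟩
    have := congrArg Subtype.val e
    exact Subtype.ext (by simpa [conjHom] using this)
  refine (Nat.card_congr (Equiv.subtypeEquiv (Equiv.ofBijective _ hbij) fun a => ?_)).symm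
  refine ⟨fun e => (conjHom N g).map_isConj e, fun e => ?_⟩
  obtain ⟨c, hc⟩ := isConj_iff.1 e
  obtain ⟨d, rfl⟩ := hbij.2 c
  refine isConj_iff.2 ⟨d, hbij.1 ?_⟩
  simpa using hc

theorem sameBlock_conjIrr {θ ψ : Cfsg.IrrCharacter N} (g : G)
    (h : Cfsg.SameBlock M (θ : N → ℂ) (ψ : N → ℂ)) :
    Cfsg.SameBlock M (conjIrr N g θ : N → ℂ) (conjIrr N g ψ : N → ℂ) := by
  intro n
  have key : ∀ η : Cfsg.IrrCharacter N, Cfsg.centralChar (conjIrr N g η : N → ℂ) n =
      Cfsg.centralChar (η : N → ℂ) (conjHom N g n) := by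
    intro η
    rw [Cfsg.centralChar, Cfsg.centralChar, centralizer_index_conjHom]
    change _ * (η : N → ℂ) (conjHom N g n) / (η : N → ℂ) (conjHom N g 1) = _
    rw [map_one]
  rw [key, key]
  exact h _

/-- The union of the G-conjugates of the block of θ. -/
def orbitBlock (θ : Cfsg.IrrCharacter N) (M : Ideal Cfsg.AlgInt) : Set (Cfsg.IrrCharacter N) :=
  {η | ∃ g : G, conjIrr N g η ∈ Cfsg.blockOf M (θ : N → ℂ)}

theorem orbitBlock_saturated (θ : Cfsg.IrrCharacter N) (χ ψ : Cfsg.IrrCharacter N)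
    (h : Cfsg.SameBlock M (χ : N → ℂ) (ψ : N → ℂ)) (hχ : χ ∈ orbitBlock N θ M) :
    ψ ∈ orbitBlock N θ M := by
  obtain ⟨g, hg⟩ := hχ
  exact ⟨g, sameBlock_trans hg (sameBlock_conjIrr N g h)⟩

theorem blockCoeff_orbitBlock_conj (θ : Cfsg.IrrCharacter N) (g : G) (n : N) :
    Cfsg.blockCoeff (orbitBlock N θ M) (conjHom N g n) =
      Cfsg.blockCoeff (orbitBlock N θ M) n := by
  classical
  haveI := Fintype.ofFinite (Cfsg.IrrCharacter N)
  rw [blockCoeff_eq_sum, blockCoeff_eq_sum]
  congr 1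
  refine Finset.sum_bij (fun η _ => conjIrr N g η) ?_ ?_ ?_ ?_
  · intro η hη
    obtain ⟨x, hx⟩ := (Finset.mem_filter.1 hη).2
    refine Finset.mem_filter.2 ⟨Finset.mem_univ _, g⁻¹ * x, ?_⟩
    have e : conjIrr N (g⁻¹ * x) (conjIrr N g η) = conjIrr N x η := by
      apply Subtype.ext; funext m
      rw [conjIrr_apply, conjIrr_apply, conjIrr_apply]
      exact congrArg (η : N → ℂ) (Subtype.ext (by simp [mul_assoc]))
    rw [e]; exact hx
  · intro η _ η' _ e
    apply Subtype.ext; funext x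
    obtain ⟨y, rfl⟩ := conjHom_surjective N g x
    exact congrArg (fun w : Cfsg.IrrCharacter N => (w : N → ℂ) y) e
  · intro η hη
    obtain ⟨x, hx⟩ := (Finset.mem_filter.1 hη).2
    refine ⟨conjIrr N g⁻¹ η, Finset.mem_filter.2 ⟨Finset.mem_univ _, g * x, ?_⟩, ?_⟩
    · have e : conjIrr N (g * x) (conjIrr N g⁻¹ η) = conjIrr N x η := by
        apply Subtype.ext; funext m
        rw [conjIrr_apply, conjIrr_apply, conjIrr_apply]
        exact congrArg (η : N → ℂ) (Subtype.ext (by simp [mul_assoc]))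
      rw [e]; exact hx
    · apply Subtype.ext; funext m
      rw [conjIrr_apply, conjIrr_apply]
      exact congrArg (η : N → ℂ) (Subtype.ext (by simp [mul_assoc]))
  · intro η _
    change _ = (η : N → ℂ) (conjHom N g 1) * _
    rw [map_one]
    rfl

/-- Equal induced central characters modulo M force conjugate blocks. -/
theorem exists_conj_mem_of_residue_eq (θ ψ : Cfsg.IrrCharacter N)
    (h : ∀ g : G, residue M (icR M N θ g) = residue M (icR M N ψ g)) :
    ∃ g : G, conjIrr N g ψ ∈ Cfsg.blockOf M (θ : N → ℂ) := by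
  classical
  haveI : Finite (ConjClasses G) := Quotient.finite _
  haveI := Fintype.ofFinite (ConjClasses G)
  set A := orbitBlock N θ M
  have hA := memLocalRing_blockCoeff_of_saturated A (fun χ ψ => orbitBlock_saturated N θ χ ψ)
  let f : G → Cfsg.AlgInt ⧸ M := fun g =>
    if hg : g ∈ N then residue M ⟨Cfsg.blockCoeff A ⟨g, hg⟩, mem_localRing_iff.2 (hA _)⟩ else 0
  have hf : ∀ u g : G, f (u * g * u⁻¹) = f g := by
    intro u g
    by_cases hg : g ∈ N
    · simp only [f, dif_pos hg, dif_pos (hN.conj_mem g hg u)]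
      exact congrArg _ (Subtype.ext (blockCoeff_orbitBlock_conj N θ u ⟨g, hg⟩))
    · have hg' : u * g * u⁻¹ ∉ N := fun h' => hg (by
        simpa [mul_assoc] using hN.conj_mem _ h' u⁻¹)
      simp only [f, dif_neg hg, dif_neg hg']
  let E := ofClassFun f hf
  have hlin : inducedBar M N θ E = inducedBar M N ψ E := by
    have hE : E = ∑ c : ConjClasses G, (E : MonoidAlgebra (Cfsg.AlgInt ⧸ M) G).coeff c.out •
        classSumC (Cfsg.AlgInt ⧸ M) c.out := by
      refine Subtype.ext ?_
      rw [AddSubmonoidClass.coe_finsetSum]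
      exact eq_sum_classSum E.2
    rw [hE, map_sum, map_sum]
    refine Finset.sum_congr rfl fun c _ => ?_
    rw [map_smul, map_smul, inducedBar_classSumC, inducedBar_classSumC, h]
  have hval : ∀ η : Cfsg.IrrCharacter N,
      inducedBar M N η E = if η ∈ A then 1 else 0 := by
    intro η
    have e : (⟨brauerTo ⊥ N E.1, brauerTo_mem_center (le_normalizer_bot N) E.2⟩ :
        Subalgebra.center (Cfsg.AlgInt ⧸ M) (MonoidAlgebra (Cfsg.AlgInt ⧸ M) N)) =
        mapCenter (residue M) (idemR A hA) := by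
      apply Subtype.ext
      ext n
      rw [coeff_brauerTo, coeff_mapCenter, if_pos (by rw [centralizer_bot]; exact Subgroup.mem_top _)]
      change f (n : G) = _
      simp only [f, dif_pos n.2]
      rfl
    change omegaBar M η _ = _
    rw [e, omegaBar_mapCenter, omegaR_idemR]
    split_ifs <;> simp
  rw [hval, hval, if_pos (show θ ∈ A from ⟨1, by
    have e : conjIrr N (1 : G) θ = θ := by
      apply Subtype.ext; funext m
      rw [conjIrr_apply]
      exact congrArg (θ : N → ℂ) (Subtype.ext (by simp))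
    rw [e]; exact mem_blockOf_self θ⟩)] at hlin
  by_contra hψ
  rw [if_neg (show ψ ∉ A from hψ)] at hlin
  exact one_ne_zero hlin

variable [Fintype G] [Fintype N]

theorem exists_constituent_restrict (χ : Cfsg.IrrCharacter G) :
    ∃ η : Cfsg.IrrCharacter N, Cfsg.classInner (resFun N (χ : G → ℂ)) (η : N → ℂ) ≠ 0 := by
  by_contra h
  push Not at h
  have h2 := congrFun (Cfsg.Agent.Lib.Characters.Basic.character_eq_finsum
    (isCharacter_resFun N (Cfsg.Agent.Lib.Characters.Basic.isCharacter_irr χ))) 1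
  simp only [h, zero_smul, finsum_zero, Pi.zero_apply, resFun_apply, OneMemClass.coe_one] at h2
  exact char_one_ne_zero χ h2

/-- A constituent of the restriction has the congruent induced central character. -/
theorem residue_icR_of_constituent {χ : Cfsg.IrrCharacter G} {θ : Cfsg.IrrCharacter N}
    (h : Cfsg.classInner (resFun N (χ : G → ℂ)) (θ : N → ℂ) ≠ 0) {g : G} (hg : g ∈ N) :
    residue M (icR M N θ g) = residue M (ccR M χ g) :=
  congrArg _ (Subtype.ext (centralChar_eq_of_constituent N χ θ h ⟨g, hg⟩).symm)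

theorem icR_eq_zero_of_notMem (θ : Cfsg.IrrCharacter N) {g : G} (hg : g ∉ N) :
    icR M N θ g = 0 := by
  classical
  apply Subtype.ext
  change Cfsg.inducedCentralChar N (θ : N → ℂ) g = 0
  rw [inducedCentralChar_eq]
  refine Finset.sum_eq_zero fun h hh => absurd ?_ hg
  obtain ⟨c, hc⟩ := isConj_iff.1 (Finset.mem_filter.1 hh).2.symm
  rw [← hc]
  exact hN.conj_mem _ h.2 c

/-- Constituents of characters with congruent central characters on N lie in conjugate
blocks. -/
theorem exists_conj_mem_of_constituents {χ χ' : Cfsg.IrrCharacter G}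
    (hB : Cfsg.SameBlock M (χ : G → ℂ) (χ' : G → ℂ)) {θ ψ : Cfsg.IrrCharacter N}
    (hθ : Cfsg.classInner (resFun N (χ : G → ℂ)) (θ : N → ℂ) ≠ 0)
    (hψ : Cfsg.classInner (resFun N (χ' : G → ℂ)) (ψ : N → ℂ) ≠ 0) :
    ∃ g : G, conjIrr N g ψ ∈ Cfsg.blockOf M (θ : N → ℂ) := by
  refine exists_conj_mem_of_residue_eq N θ ψ fun g => ?_
  by_cases hg : g ∈ N
  · rw [residue_icR_of_constituent N hθ hg, residue_icR_of_constituent N hψ hg]
    exact sameBlock_iff_residue.1 hB g
  · rw [icR_eq_zero_of_notMem N θ hg, icR_eq_zero_of_notMem N ψ hg]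

end Cfsg.Agent.Lib.BrauerMap.Covering
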