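import Cfsg.Agent.Lib.BrauerPairs.Center
import Cfsg.Agent.Lib.BrauerMap.Inflation
import Cfsg.Agent.Lib.BrauerMap.PrincipalSection

/-!
# Counting blocks with class sums
-/

set_option autoImplicit false
set_option linter.style.haveILetI false

namespace Cfsg.Agent.Lib.BrauerMap.BlockCount

open MonoidAlgebra Cfsg.Agent.Lib.BrauerMap.Basic Cfsg.Agent.Lib.BrauerMap.ClassSum
open Cfsg.Agent.Lib.BrauerPairs.Center

universe u v

variable {k : Type v} [Field k] {G : Type u} [Group G] [Finite G]

theorem out_isConj (g : G) : IsConj g (ConjClasses.mk g).out :=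
  ConjClasses.mk_eq_mk_iff_isConj.1 (Quotient.out_eq (ConjClasses.mk g)).symm

theorem mk_out (c : ConjClasses G) : ConjClasses.mk c.out = c := Quotient.out_eq c

/-- A homomorphism of the centre is determined by its values on class sums. -/
theorem apply_eq_sum_classSum [Fintype (ConjClasses G)] (ψ : Blk k G) (z : ZAlg k G) :
    ψ z = ∑ c : ConjClasses G, (z : MonoidAlgebra k G).coeff c.out * ψ (classSumC k c.out) := by
  have hz : z = ∑ c : ConjClasses G,
      (z : MonoidAlgebra k G).coeff c.out • classSumC k c.out := by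
    refine Subtype.ext ?_
    rw [AddSubmonoidClass.coe_finsetSum]
    exact eq_sum_classSum z.2
  conv_lhs => rw [hz]
  rw [map_sum]
  exact Finset.sum_congr rfl fun c _ => by rw [map_smul, smul_eq_mul]

/-- A set of blocks is no larger than a set of classes carrying its idempotents. -/
theorem card_blocks_le [IsAlgClosed k] (𝔅 : Set (Blk k G)) (T : Set (ConjClasses G))
    (h : ∀ ψ ∈ 𝔅, ∀ ψ' ∈ 𝔅, ∀ g : G, (bidem ψ').coeff g ≠ 0 → ψ (classSumC k g) ≠ 0 →
      ConjClasses.mk g ∈ T) :
    Nat.card 𝔅 ≤ Nat.card T := by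
  classical
  haveI : Finite (ConjClasses G) := Quotient.finite _
  haveI := Fintype.ofFinite (ConjClasses G)
  haveI := Fintype.ofFinite 𝔅
  let F : 𝔅 → (T → k) := fun ψ c => ψ.1 (classSumC k (c : ConjClasses G).out)
  have hF : LinearIndependent k F := by
    rw [Fintype.linearIndependent_iff]
    intro a ha ψ'
    have key : ∀ ψ : 𝔅, (ψ : Blk k G) (idem ψ'.1) =
        ∑ c : T, ((idem ψ'.1 : ZAlg k G) : MonoidAlgebra k G).coeff (c : ConjClasses G).out *
          F ψ c := by
      intro ψ
      rw [apply_eq_sum_classSum, ← Finset.sum_filter_add_sum_filter_not Finset.univ (· ∈ T),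
        Finset.sum_eq_zero (s := Finset.univ.filter fun c => ¬ c ∈ T) ?_, add_zero,
        Finset.sum_subtype (p := fun c => c ∈ T) _ (fun c => by simp)]
      intro c hc
      rw [Finset.mem_filter] at hc
      by_contra hne
      obtain ⟨h1, h2⟩ := mul_ne_zero_iff.mp hne
      exact hc.2 (mk_out c ▸ h ψ ψ.2 ψ' ψ'.2 c.out h1 h2)
    have h0 : ∑ ψ, a ψ * (ψ : Blk k G) (idem ψ'.1) = 0 := by
      simp only [key, Finset.mul_sum]
      rw [Finset.sum_comm]
      refine Finset.sum_eq_zero fun c _ => ?_
      have hc := congrFun ha c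
      rw [Finset.sum_apply, Pi.zero_apply] at hc
      simp only [Pi.smul_apply, smul_eq_mul] at hc
      calc _ = ((idem ψ'.1 : ZAlg k G) : MonoidAlgebra k G).coeff (c : ConjClasses G).out *
            ∑ ψ, a ψ * F ψ c := by
            rw [Finset.mul_sum]; exact Finset.sum_congr rfl fun ψ _ => by ring
        _ = 0 := by rw [hc, mul_zero]
    rw [Finset.sum_eq_single ψ', apply_idem_self, mul_one] at h0
    · exact h0
    · intro ψ _ hne
      rw [apply_idem_ne (fun e => hne (Subtype.ext e)), mul_zero]
    · simp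
  have := hF.fintype_card_le_finrank
  rwa [Module.finrank_fintype_fun_eq_card, ← Nat.card_eq_fintype_card,
    ← Nat.card_eq_fintype_card] at this

/-- A set of classes is no larger than a set of blocks separating its combinations. -/
theorem card_le_blocks [IsAlgClosed k] (𝔅 : Set (Blk k G)) (T : Set (ConjClasses G))
    (h : ∀ z : ZAlg k G, (∀ c : ConjClasses G, c ∉ T → (z : MonoidAlgebra k G).coeff c.out = 0) →
      (∀ ψ ∈ 𝔅, ψ z = 0) → z = 0) :
    Nat.card T ≤ Nat.card 𝔅 := by
  classical
  haveI : Finite (ConjClasses G) := Quotient.finite _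
  haveI := Fintype.ofFinite (ConjClasses G)
  haveI := Fintype.ofFinite 𝔅
  let Z : (T → k) →ₗ[k] ZAlg k G :=
    { toFun := fun a => ∑ c : T, a c • classSumC k (c : ConjClasses G).out
      map_add' := fun a b => by simp [add_smul, Finset.sum_add_distrib]
      map_smul' := fun r a => by simp [Finset.smul_sum, smul_smul] }
  let L : (T → k) →ₗ[k] (𝔅 → k) := LinearMap.pi fun ψ => (ψ : Blk k G).toLinearMap ∘ₗ Z
  have hcoeff : ∀ (a : T → k) (c : ConjClasses G),
      ((Z a : ZAlg k G) : MonoidAlgebra k G).coeff c.out =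
        if hc : c ∈ T then a ⟨c, hc⟩ else 0 := by
    intro a c
    simp only [Z, LinearMap.coe_mk, AddHom.coe_mk, AddSubmonoidClass.coe_finsetSum,
      SetLike.val_smul, coeff_sum, coeff_smul, Finsupp.finsetSum_apply, Finsupp.smul_apply,
      classSumC, coeff_classSum, smul_eq_mul]
    have hiff : ∀ d : T, IsConj (d : ConjClasses G).out c.out ↔ (d : ConjClasses G) = c := fun d =>
      ⟨fun e => (mk_out d.1).symm.trans ((ConjClasses.mk_eq_mk_iff_isConj.2 e).trans (mk_out c)),
        fun e => e ▸ IsConj.refl _⟩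
    simp only [hiff]
    split_ifs with hc
    · rw [Finset.sum_eq_single ⟨c, hc⟩]
      · simp
      · intro d _ hd
        rw [if_neg fun e => hd (Subtype.ext e), mul_zero]
      · simp
    · refine Finset.sum_eq_zero fun d _ => ?_
      rw [if_neg fun e : (d : ConjClasses G) = c => hc (e ▸ d.2), mul_zero]
  have hinj : Function.Injective L := by
    rw [← LinearMap.ker_eq_bot, LinearMap.ker_eq_bot']
    intro a ha
    have hz := h (Z a) (fun c hc => by rw [hcoeff, dif_neg hc])
      (fun ψ hψ => congrFun ha ⟨ψ, hψ⟩)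
    funext c
    have := hcoeff a c.1
    rw [hz, dif_pos c.2] at this
    simpa using this.symm
  have := LinearMap.finrank_le_finrank_of_injective hinj
  rwa [Module.finrank_fintype_fun_eq_card, Module.finrank_fintype_fun_eq_card,
    ← Nat.card_eq_fintype_card, ← Nat.card_eq_fintype_card] at this

theorem trace_mulLeft [Fintype G] (w : MonoidAlgebra k G) :
    LinearMap.trace k (MonoidAlgebra k G) (LinearMap.mulLeft k w) =
      (Nat.card G : k) * w.coeff 1 := by
  classical
  set b : Module.Basis G k (MonoidAlgebra k G) :=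
    Module.Basis.ofRepr (MonoidAlgebra.coeffLinearEquiv k) with hb
  rw [LinearMap.trace_eq_matrix_trace k b, Matrix.trace]
  have hdiag : ∀ v : G, (LinearMap.toMatrix b b (LinearMap.mulLeft k w)).diag v = w.coeff 1 := by
    intro v
    have hbv : b v = single v 1 := by
      apply MonoidAlgebra.coeff_injective
      simp [hb]
    rw [Matrix.diag, LinearMap.toMatrix_apply, hbv, LinearMap.mulLeft_apply]
    change (w * single v 1).coeff v = _
    rw [coeff_mul_single_apply, mul_one, mul_inv_cancel]
  rw [Finset.sum_congr rfl fun v _ => hdiag v, Finset.sum_const, Finset.card_univ, nsmul_eq_mul,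
    ← Nat.card_eq_fintype_card]

/-- The centre of the group algebra of a group of order prime to the characteristic has no
nilpotents. -/
theorem eq_zero_of_isNilpotent {p : ℕ} [CharP k p] (hG : ¬ p ∣ Nat.card G)
    {y : MonoidAlgebra k G} (hy : y ∈ Subalgebra.center k (MonoidAlgebra k G))
    (hn : IsNilpotent y) : y = 0 := by
  classical
  haveI := Fintype.ofFinite G
  ext h
  rw [coeff_zero, Finsupp.zero_apply]
  have hn2 : IsNilpotent (y * single h⁻¹ (1 : k)) :=
    Commute.isNilpotent_mul_right (Subalgebra.mem_center_iff.mp hy _).symm hn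
  obtain ⟨m, hm⟩ := hn2
  have hnl : IsNilpotent (LinearMap.mulLeft k (y * single h⁻¹ (1 : k))) :=
    ⟨m, by rw [LinearMap.pow_mulLeft, hm]; exact LinearMap.mulLeft_zero_eq_zero k _⟩
  have htr : IsNilpotent (LinearMap.trace k (MonoidAlgebra k G)
      (LinearMap.mulLeft k (y * single h⁻¹ (1 : k)))) :=
    LinearMap.isNilpotent_trace_of_isNilpotent hnl
  rw [isNilpotent_iff_eq_zero, trace_mulLeft, coeff_mul_single_apply] at htr
  simp only [one_mul, inv_inv, mul_one] at htr
  rcases mul_eq_zero.mp htr with h0 | h0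
  · exact absurd ((CharP.cast_eq_zero_iff k p _).mp h0) hG
  · exact h0

/-- Over a central p-subgroup of index prime to `p`, a nilpotent central element supported on
p-regular elements is zero. -/
theorem eq_zero_of_isNilpotent_regular {p : ℕ} [Fact p.Prime] [CharP k p] (Z : Subgroup G)
    [Z.Normal] (hZ : Z ≤ Subgroup.center G) (hZp : IsPGroup p Z) (hidx : ¬ p ∣ Z.index)
    {y : ZAlg k G} (hn : IsNilpotent y)
    (hreg : ∀ g, (y : MonoidAlgebra k G).coeff g ≠ 0 → ¬ p ∣ orderOf g) : y = 0 := by
  classical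
  haveI := Fintype.ofFinite G
  have hf := QuotientGroup.mk'_surjective Z
  have hcard : ¬ p ∣ Nat.card (G ⧸ Z) := by rwa [← Subgroup.index_eq_card]
  set w := Inflation.pushC k (QuotientGroup.mk' Z) hf y
  have hw : (w : MonoidAlgebra k (G ⧸ Z)) = 0 :=
    eq_zero_of_isNilpotent hcard w.2
      ((hn.map (Inflation.pushC k (QuotientGroup.mk' Z) hf)).map
        (Subalgebra.center k (MonoidAlgebra k (G ⧸ Z))).val)
  refine Subtype.ext (MonoidAlgebra.ext (Finsupp.ext fun g => ?_))
  rw [ZeroMemClass.coe_zero, coeff_zero, Finsupp.zero_apply]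
  by_contra hne
  apply hne
  have h1 := congrArg (fun x : MonoidAlgebra k (G ⧸ Z) => x.coeff (QuotientGroup.mk' Z g)) hw
  simp only [w, Inflation.coe_pushC, Inflation.coeff_push, coeff_zero, Finsupp.zero_apply] at h1
  rw [Finset.sum_eq_single g] at h1
  · rwa [if_pos rfl] at h1
  · intro a _ hag
    split_ifs with ha
    · by_contra ha0
      apply hag
      obtain ⟨z, hz, hz'⟩ : ∃ z ∈ Z, g * z = a :=
        ⟨g⁻¹ * a, QuotientGroup.eq.mp ha.symm, mul_inv_cancel_left g a⟩
      obtain ⟨n, hn'⟩ := IsPGroup.iff_orderOf.mp hZp ⟨z, hz⟩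
      rw [Subgroup.orderOf_mk] at hn'
      have hc : Commute z g := (Subgroup.mem_center_iff.mp (hZ hz) g).symm
      have hx : Cfsg.IsPPart p a z :=
        ⟨g, by rw [hc.eq, hz'], hc, ⟨n, hn'⟩, hreg g hne⟩
      have h1' : Cfsg.IsPPart p a 1 := Lib.Blocks.isPPart_one_of_regular (hreg a ha0)
      rw [PrincipalSection.isPPart_unique Fact.out hx h1', mul_one] at hz'
      exact hz'.symm
    · rfl
  · simp

end Cfsg.Agent.Lib.BrauerMap.BlockCount
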