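import Cfsg.Agent.Lib.BrauerMap.DefectFacts

/-!
# Blocks of `P C(P)` and pairs at `P`: the extended first main theorem
-/

set_option autoImplicit false
set_option linter.style.haveILetI false

namespace Cfsg.Agent.Lib.BrauerMap.FirstMain

open MonoidAlgebra Cfsg.Agent.Lib.BrauerMap.Basic Cfsg.Agent.Lib.BrauerMap.ClassSum
open Cfsg.Agent.Lib.BrauerMap.DefectFacts
open Cfsg.Agent.Lib.BrauerPairs.Center Cfsg.Agent.Lib.BrauerPairs.Trunc
open Cfsg.Agent.Lib.BrauerPairs.Conj Cfsg.Agent.Lib.BrauerPairs.Pairs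
open Cfsg.Agent.Lib.BrauerPairs.Transport Cfsg.Agent.Lib.BrauerPairs.Maximal

open Cfsg.Agent.Lib.BrauerPairs

universe u v

variable {G : Type u} [Group G] [Finite G] {k : Type v} [Field k] [IsAlgClosed k]
  {p : ℕ} [Fact p.Prime] [CharP k p]

local notation "C[" P "]" => Subgroup.centralizer ((P : Subgroup G) : Set G)

omit [IsAlgClosed k] [Fact p.Prime] [CharP k p] in
theorem br_ext_brauerTo {P L : Subgroup G} (hC : C[P] ≤ L) (z : MonoidAlgebra k G) :
    br P (Trunc.ext L (brauerTo P L z)) = br P z := by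
  classical
  ext c
  rw [coeff_br, coeff_br]
  exact (coeff_ext _ _ ⟨(c : G), hC c.2⟩).trans (by rw [coeff_brauerTo, if_pos c.2])

omit [IsAlgClosed k] [Fact p.Prime] [CharP k p] in
theorem isFixedBy_extL {R L : Subgroup G} (hR : R ≤ L) (a : ZAlg k L) :
    IsFixedBy R (Trunc.ext L (a : MonoidAlgebra k L)) :=
  isFixedBy_mono hR (isFixedBy_ext_of_center a.2)

/-- Truncation from the centre of `k[L]` to the centre of `k[C(P)]`. -/
noncomputable def toC {P L : Subgroup G} (hP : IsPGroup p P) (hPL : P ≤ L) (hC : C[P] ≤ L) :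
    ZAlg k L →ₐ[k] ZAlg k C[P] :=
  AlgHom.ofLinearMap
    { toFun := fun a => ⟨br P (Trunc.ext L (a : MonoidAlgebra k L)),
        br_mem_center (isFixedBy_extL hC a)⟩
      map_add' := fun a b => Subtype.ext (by
        simp only [Subalgebra.coe_add, map_add, br_add])
      map_smul' := fun r a => Subtype.ext (by
        simp only [RingHom.id_apply, SetLike.val_smul, map_smul]
        exact brauerTo_smul P _ r _) }
    (Subtype.ext (by
      simp only [LinearMap.coe_mk, AddHom.coe_mk, OneMemClass.coe_one, map_one, br_one]))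
    (fun a b => Subtype.ext (by
      simp only [LinearMap.coe_mk, AddHom.coe_mk, Subalgebra.coe_mul, map_mul]
      exact br_mul hP (isFixedBy_extL hPL a) (isFixedBy_extL hPL b)))

/-- A block of `C(P)` seen as a block of a subgroup `L` between `P C(P)` and `G`. -/
noncomputable def toL {P L : Subgroup G} (hP : IsPGroup p P) (hPL : P ≤ L) (hC : C[P] ≤ L)
    (ω : Blk k C[P]) : Blk k L :=
  ω.comp (toC hP hPL hC)

theorem toL_apply {P L : Subgroup G} (hP : IsPGroup p P) (hPL : P ≤ L) (hC : C[P] ≤ L)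
    (ω : Blk k C[P]) (z : ZAlg k L) :
    toL hP hPL hC ω z = val P ω (Trunc.ext L (z : MonoidAlgebra k L)) :=
  (val_eq ω (isFixedBy_extL hC z)).symm

/-- The composite with the Brauer homomorphism is the block of the pair. -/
theorem toL_comp_brauerHom {P L : Subgroup G} (hP : IsPGroup p P) (hPL : P ≤ L) (hC : C[P] ≤ L)
    (hN : L ≤ Subgroup.normalizer (P : Set G)) (ω : Blk k C[P]) :
    (toL hP hPL hC ω).comp (brauerHom hP hC hN) = pairBlk (a := ⟨P, ω⟩) hP := by
  refine AlgHom.ext fun z => ?_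
  rw [AlgHom.comp_apply, toL_apply, pairBlk_apply]
  refine val_congr ω ?_
  rw [brauerHom_apply, br_ext_brauerTo hC]

/-- A block of `L` does not vanish on every class inside `C(P)`. -/
theorem exists_coeff_ne_zero_of_apply {P L : Subgroup G} (hP : IsPGroup p P) (hPL : P ≤ L)
    (hN : L ≤ Subgroup.normalizer (P : Set G)) (φ : Blk k L) {z : ZAlg k L} (hz : φ z ≠ 0) :
    ∃ h : L, (h : G) ∈ C[P] ∧ (z : MonoidAlgebra k L).coeff h ≠ 0 ∧ φ (classSumC k h) ≠ 0 := by
  classical
  haveI : Finite (ConjClasses L) := Quotient.finite _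
  haveI := Fintype.ofFinite (ConjClasses L)
  haveI : (P.subgroupOf L).Normal := Subgroup.normal_subgroupOf_of_le_normalizer hN
  have hPp : IsPGroup p (P.subgroupOf L) := hP.of_equiv (Subgroup.subgroupOfEquivOfLe hPL).symm
  by_contra hcon
  push Not at hcon
  apply hz
  have hsum : z = ∑ c : ConjClasses L,
      (z : MonoidAlgebra k L).coeff c.out • classSumC k c.out := by
    refine Subtype.ext ?_
    rw [AddSubmonoidClass.coe_finsetSum]
    exact eq_sum_classSum z.2
  rw [hsum, map_sum]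
  refine Finset.sum_eq_zero fun c _ => ?_
  rw [map_smul, smul_eq_mul, mul_eq_zero, or_iff_not_imp_left]
  intro hne
  by_cases hc : (c.out : G) ∈ C[P]
  · exact hcon c.out hc hne
  · refine Nilpotent.algHom_classSum_eq_zero hPp (fun hh => hc ?_) φ
    rw [Subgroup.mem_centralizer_iff] at hh ⊢
    intro q hq
    exact congrArg Subtype.val (hh ⟨q, hPL hq⟩ hq)

/-- Every block of `L` comes from a block of `C(P)`. -/
theorem exists_toL {P L : Subgroup G} (hP : IsPGroup p P) (hPL : P ≤ L) (hC : C[P] ≤ L)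
    (hN : L ≤ Subgroup.normalizer (P : Set G)) (φ : Blk k L) :
    ∃ ω : Blk k C[P], φ = toL hP hPL hC ω := by
  have hfix := isFixedBy_mono hC (isFixedBy_ext_of_center (idem φ).2)
  set e : ZAlg k C[P] := ⟨br P (Trunc.ext L (bidem φ)), br_mem_center hfix⟩
  have he : IsIdempotentElem e :=
    Subtype.ext (br_isIdem hP ((bidem_isIdem φ).map (Trunc.ext L))
      (isFixedBy_mono hPL (isFixedBy_ext_of_center (idem φ).2)))
  obtain ⟨h, hh, hne, -⟩ := exists_coeff_ne_zero_of_apply hP hPL hN φ (z := idem φ)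
    (by rw [apply_idem_self]; exact one_ne_zero)
  have he0 : e ≠ 0 := by
    intro h0
    have h1 := congrArg (fun z : ZAlg k C[P] => (z : MonoidAlgebra k C[P]).coeff ⟨h, hh⟩) h0
    apply hne
    refine (coeff_ext L _ h).symm.trans ((coeff_br P _ ⟨h, hh⟩).symm.trans (h1.trans ?_))
    simp
  obtain ⟨ω, hω⟩ := exists_apply_eq_one (k := k) he he0
  refine ⟨ω, (eq_of_apply_idem_ne_zero ?_).symm⟩
  rw [toL_apply, val_eq ω hfix]
  exact hω ▸ one_ne_zero

/-- Conjugation by a normalizing element. -/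
theorem cBlk_toL {P L : Subgroup G} (hP : IsPGroup p P) (hPL : P ≤ L) (hC : C[P] ≤ L)
    {x : G} (hx : ∀ g, g ∈ C[P] ↔ x * g * x⁻¹ ∈ C[P]) (hL : ∀ g, g ∈ L ↔ x * g * x⁻¹ ∈ L)
    (ω : Blk k C[P]) :
    cBlk x L L hL (toL hP hPL hC ω) = toL hP hPL hC (cBlk x C[P] C[P] hx ω) := by
  refine AlgHom.ext fun z => ?_
  show toL hP hPL hC ω (zMap (conjEquiv x L L hL).symm z) = _
  rw [toL_apply, toL_apply]
  set w := zMap (conjEquiv x L L hL).symm z with hw
  have hz : Trunc.ext L (z : MonoidAlgebra k L) = conjA x (Trunc.ext L (w : MonoidAlgebra k L)) := by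
    rw [hw, coe_zMap]
    generalize (z : MonoidAlgebra k L) = a
    induction a using MonoidAlgebra.induction_linear with
    | zero => simp
    | add f g hf hg => simp only [map_add, ← hf, ← hg]
    | single b r =>
      rw [domCongr_single, ext_single, ext_single, conjA, domCongr_single, MulAut.conj_apply]
      congr 1
      show (b : G) = x * (x⁻¹ * (b : G) * x) * x⁻¹
      simp [mul_assoc]
  rw [hz]
  exact (val_cBlk x P P hx ω _ (isFixedBy_mono hC (isFixedBy_ext_of_center w.2))
    (hz ▸ isFixedBy_mono hC (isFixedBy_ext_of_center z.2))).symm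

/-- If the composite of a block of `L` with the Brauer homomorphism has defect group `P`, the
block has defect group `P`. -/
theorem isDef_of_comp {P L : Subgroup G} (hP : IsPGroup p P) (hPL : P ≤ L) (hC : C[P] ≤ L)
    (hN : L ≤ Subgroup.normalizer (P : Set G)) (φ : Blk k L)
    (hD : IsDef p (φ.comp (brauerHom hP hC hN)) P) : IsDef p φ (P.subgroupOf L) := by
  classical
  set ψ := φ.comp (brauerHom hP hC hN) with hψ
  have hPp : IsPGroup p (P.subgroupOf L) := hP.of_equiv (Subgroup.subgroupOfEquivOfLe hPL).symm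
  haveI : (P.subgroupOf L).Normal := Subgroup.normal_subgroupOf_of_le_normalizer hN
  obtain ⟨D', hD'⟩ := exists_isDef (p := p) φ
  -- the pair of `φ` at `P`
  obtain ⟨h₀, hh₀, hne₀, -⟩ := exists_coeff_ne_zero_of_apply hP hPL hN φ (z := idem φ)
    (by rw [apply_idem_self]; exact one_ne_zero)
  have hmem : h₀ ∈ Subgroup.centralizer ((P.subgroupOf L : Subgroup L) : Set L) := by
    rw [Subgroup.mem_centralizer_iff] at hh₀ ⊢
    intro q hq
    exact Subtype.ext (hh₀ q hq)
  obtain ⟨ν, hν⟩ := exists_pairOf (ψ := φ) hPp hmem hne₀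
  obtain ⟨y, hy⟩ := exists_map_le_isDef hν hD'
  rw [show (P.subgroupOf L).map (MulAut.conj y).toMonoidHom = P.subgroupOf L from
    map_conj_eq_of_mem (by rw [Subgroup.normalizer_eq_top]; exact Subgroup.mem_top y)] at hy
  suffices h : Nat.card D' ≤ Nat.card (P.subgroupOf L) by
    rw [Subgroup.eq_of_le_of_card_ge hy h]
    exact hD'
  -- the defect group is small
  obtain ⟨ν', hν'⟩ := exists_pairOf_isDef hD'
  obtain ⟨h, hhC, hne, hφh⟩ := exists_coeff_ne_zero_of_apply hP hPL hN φ
    (z := brauerHom hP hC hN (idem ψ))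
    (by rw [← AlgHom.comp_apply, ← hψ, apply_idem_self]; exact one_ne_zero)
  rw [brauerHom_apply, coeff_brauerTo, if_pos hhC] at hne
  obtain ⟨c, hc⟩ := exists_conj_mem hν' hφh
  have hle := card_le_of_coeff_ne_zero hD
    (w := ((c * h * c⁻¹ : L) : G))
    (by
      rw [Subgroup.coe_mul, Subgroup.coe_mul, Subgroup.coe_inv, coeff_bidem_conj]
      exact hne)
    (R := D'.map L.subtype) (hD'.isPGroup.map _) (by
      rw [Subgroup.mem_centralizer_iff] at hc ⊢
      rintro _ ⟨d, hd, rfl⟩
      exact congrArg Subtype.val (hc d hd))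
  rw [Subgroup.card_map_of_injective L.subtype_injective] at hle
  rwa [Nat.card_congr (Subgroup.subgroupOfEquivOfLe hPL).toEquiv]

end Cfsg.Agent.Lib.BrauerMap.FirstMain
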