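import Cfsg.Agent.Lib.BrauerPairs.Bridge
import Cfsg.Agent.Lib.BrauerMap.Induced

/-!
# Induced blocks as compositions with the Brauer homomorphism
-/

set_option autoImplicit false
set_option linter.style.haveILetI false

namespace Cfsg.Agent.Lib.BrauerMap.InducedHom

open MonoidAlgebra Cfsg.Agent.Lib.BrauerMap.Basic Cfsg.Agent.Lib.BrauerMap.ClassSum
open Cfsg.Agent.Lib.BrauerMap.Induced
open Cfsg.Agent.Lib.Blocks (localRing residue omegaBar ccR omegaBar_classSumC)
open Cfsg.Agent.Lib.BrauerPairs.Center Cfsg.Agent.Lib.BrauerPairs.Bridge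

universe u

attribute [local instance] Ideal.Quotient.field

variable {G : Type u} [Group G] [Finite G] {p : ℕ} [Fact p.Prime] {M : Ideal Cfsg.AlgInt}
  [M.IsMaximal] [CharP (Res M) p]

/-- An induced block is the composite with the Brauer homomorphism. -/
theorem isInducedBlock_iff {P H : Subgroup G} (hP : IsPGroup p P) (hPH : P ≤ H)
    (hC : Subgroup.centralizer (P : Set G) ≤ H) (hN : H ≤ Subgroup.normalizer (P : Set G))
    {b : Set (Cfsg.IrrCharacter H)} {B : Set (Cfsg.IrrCharacter G)} :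
    Cfsg.IsInducedBlock M H b B ↔ ∃ (hb : Cfsg.IsPBlock M b) (hB : Cfsg.IsPBlock M B),
      (blk hb).comp (brauerHom hP hC hN) = blk hB := by
  have key : ∀ (hb : Cfsg.IsPBlock M b) (hB : Cfsg.IsPBlock M B), ∀ ξ ∈ b, ∀ χ ∈ B,
      ((∀ g : G, Cfsg.MemLocalIdeal M (Cfsg.inducedCentralChar H (ξ : H → ℂ) g -
        Cfsg.centralChar (χ : G → ℂ) g)) ↔ (blk hb).comp (brauerHom hP hC hN) = blk hB) := by
    intro hb hB ξ hξ χ hχ
    rw [induced_congr_iff, ← blkOf_of_mem hb hξ, ← blkOf_of_mem hB hχ]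
    constructor
    · intro h
      refine algHom_ext fun g => ?_
      rw [blkOf_classSumC, ← h g, ← inducedBar_classSumC, inducedBar_eq_brauer hP hPH hC hN]
      rfl
    · intro h g
      rw [← inducedBar_classSumC, inducedBar_eq_brauer hP hPH hC hN, ← blkOf_classSumC, ← h]
      rfl
  constructor
  · rintro ⟨hb, hB, h⟩
    obtain ⟨ξ, hξ⟩ := exists_mem (blk hb)
    obtain ⟨χ, hχ⟩ := exists_mem (blk hB)
    rw [toSet_blk] at hξ hχ
    exact ⟨hb, hB, (key hb hB ξ hξ χ hχ).mp (h ξ hξ χ hχ)⟩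
  · rintro ⟨hb, hB, h⟩
    exact ⟨hb, hB, fun ξ hξ χ hχ => (key hb hB ξ hξ χ hχ).mpr h⟩

/-- Induction is defined between the two sides of the Brauer homomorphism. -/
theorem inducedBlockDefined {P H : Subgroup G} (hP : IsPGroup p P) (hPH : P ≤ H)
    (hC : Subgroup.centralizer (P : Set G) ≤ H) (hN : H ≤ Subgroup.normalizer (P : Set G))
    {b : Set (Cfsg.IrrCharacter H)} (hb : Cfsg.IsPBlock M b) :
    Cfsg.InducedBlockDefined M H b :=
  ⟨toSet ((blk hb).comp (brauerHom hP hC hN)), (isInducedBlock_iff hP hPH hC hN).mpr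
    ⟨hb, isPBlock_toSet _, (blk_toSet _ _).symm⟩⟩

end Cfsg.Agent.Lib.BrauerMap.InducedHom
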