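import Cfsg.Agent.S0943
import Cfsg.Agent.Lib.BrauerMap.CentralDefect
import Cfsg.Agent.Lib.BrauerMap.PrincipalSection
import Cfsg.Agent.Lib.BrauerMap.PKernel
import Cfsg.Agent.Lib.Blocks.Contrib
import Cfsg.Agent.Lib.Clifford.Basic

/-!
# Blocks with defect group `P` in a group `P C(P)`

The members of such a block are told apart by their constituents on `P`, exactly one of them is
trivial on `P`, and there are as many members as conjugacy classes of `P`.
-/

set_option autoImplicit false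
set_option linter.style.haveILetI false

namespace Cfsg.Agent.Lib.BrauerMap.PCentral

open Cfsg.Agent.Lib.Blocks Cfsg.Agent.Lib.Blocks.Contrib
open Cfsg.Agent.Lib.Characters.Basic Cfsg.Agent.Lib.Characters.Complete
open Cfsg.Agent.Lib.BrauerPairs.Bridge (Res isDefectGroup_iff)
open scoped ComplexConjugate

universe u

attribute [local instance] Ideal.Quotient.field

variable {G : Type u} [Group G] {p : ℕ} {P : Subgroup G}

theorem normal_of_sup (hG : P ⊔ Subgroup.centralizer (P : Set G) = ⊤) : P.Normal := by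
  rw [← Subgroup.normalizer_eq_top_iff, eq_top_iff, ← hG]
  exact sup_le Subgroup.le_normalizer (Subgroup.centralizer_le_normalizer _)

theorem exists_mul_eq (hG : P ⊔ Subgroup.centralizer (P : Set G) = ⊤) (g : G) :
    ∃ u ∈ P, ∃ c ∈ Subgroup.centralizer (P : Set G), u * c = g := by
  haveI := normal_of_sup hG
  exact Subgroup.mem_sup_of_normal_left.mp (hG.symm ▸ Subgroup.mem_top g)

/-- Conjugation in `G` of elements of `P` is conjugation in `P`. -/
theorem exists_conj_eq (hG : P ⊔ Subgroup.centralizer (P : Set G) = ⊤) (g : G) :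
    ∃ u ∈ P, ∀ x ∈ P, g * x * g⁻¹ = u * x * u⁻¹ := by
  obtain ⟨u, hu, c, hc, rfl⟩ := exists_mul_eq hG g
  refine ⟨u, hu, fun x hx => ?_⟩
  have h : c * x = x * c := (Subgroup.mem_centralizer_iff.mp hc x hx).symm
  rw [mul_inv_rev, mul_assoc u c x, h]
  simp [mul_assoc]

theorem isConj_subgroup (hG : P ⊔ Subgroup.centralizer (P : Set G) = ⊤) {x y : P}
    (h : IsConj (x : G) (y : G)) : IsConj x y := by
  obtain ⟨g, hg⟩ := isConj_iff.mp h
  obtain ⟨u, hu, he⟩ := exists_conj_eq hG g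
  rw [he x x.2] at hg
  exact isConj_iff.mpr ⟨⟨u, hu⟩, Subtype.ext hg⟩

theorem regular_mem_centralizer [Fact p.Prime] (hP : IsPGroup p P)
    (hG : P ⊔ Subgroup.centralizer (P : Set G) = ⊤) {s : G} (hs : ¬ p ∣ orderOf s) :
    s ∈ Subgroup.centralizer (P : Set G) := by
  obtain ⟨u, hu, c, hc, rfl⟩ := exists_mul_eq hG s
  obtain ⟨k, hk⟩ := hP ⟨u, hu⟩
  have hk' : u ^ p ^ k = 1 := congrArg Subtype.val hk
  have hcomm : Commute u c := Subgroup.mem_centralizer_iff.mp hc u hu
  have h1 : (u * c) ^ p ^ k ∈ Subgroup.centralizer (P : Set G) := by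
    rw [hcomm.mul_pow, hk', one_mul]
    exact Subgroup.pow_mem _ hc _
  obtain ⟨m, hm⟩ := exists_pow_eq_self_of_coprime (x := u * c) (n := p ^ k)
    (((Fact.out : p.Prime).coprime_iff_not_dvd.mpr hs).pow_left k)
  rw [← hm]
  exact Subgroup.pow_mem _ h1 _

theorem commute_regular [Fact p.Prime] (hP : IsPGroup p P)
    (hG : P ⊔ Subgroup.centralizer (P : Set G) = ⊤) {s : G} (hs : ¬ p ∣ orderOf s) {x : G}
    (hx : x ∈ P) : Commute x s :=
  Subgroup.mem_centralizer_iff.mp (regular_mem_centralizer hP hG hs) x hx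

theorem isPPart_mul [Fact p.Prime] (hP : IsPGroup p P)
    (hG : P ⊔ Subgroup.centralizer (P : Set G) = ⊤) {s : G} (hs : ¬ p ∣ orderOf s) {x : G}
    (hx : x ∈ P) : Cfsg.IsPPart p (x * s) x := by
  obtain ⟨k, hk⟩ := IsPGroup.iff_orderOf.mp hP ⟨x, hx⟩
  exact ⟨s, rfl, commute_regular hP hG hs hx, ⟨k, by rw [← hk, Subgroup.orderOf_mk]⟩, hs⟩

variable [Finite G] [Fact p.Prime]

/-- A member of `Irr G` is multiplicative on `P` times the regular elements. -/
theorem apply_mul (hP : IsPGroup p P) (hG : P ⊔ Subgroup.centralizer (P : Set G) = ⊤)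
    (χ : Cfsg.IrrCharacter G) {x s : G} (hx : x ∈ P) (hs : ¬ p ∣ orderOf s) :
    (χ : G → ℂ) (x * s) = (χ : G → ℂ) x * (χ : G → ℂ) s / (χ : G → ℂ) 1 := by
  rw [Cfsg.Agent.S0943.result χ x s ?_, mul_div_cancel_left₀ _ (apply_one_ne_zero χ)]
  intro x' s' hx' hs'
  obtain ⟨g, rfl⟩ := isConj_iff.mp hx'
  obtain ⟨h, rfl⟩ := isConj_iff.mp hs'
  obtain ⟨u, hu, he⟩ := exists_conj_eq hG g
  obtain ⟨v, hv, c, hc, rfl⟩ := exists_mul_eq hG h
  have hsC := regular_mem_centralizer hP hG hs
  have hC : c * s * c⁻¹ ∈ Subgroup.centralizer (P : Set G) :=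
    Subgroup.mul_mem _ (Subgroup.mul_mem _ hc hsC) (Subgroup.inv_mem _ hc)
  have e1 : v * (c * s * c⁻¹) = (c * s * c⁻¹) * v := Subgroup.mem_centralizer_iff.mp hC v hv
  have e2 : u * (c * s * c⁻¹) = (c * s * c⁻¹) * u := Subgroup.mem_centralizer_iff.mp hC u hu
  have e3 : c * x = x * c := (Subgroup.mem_centralizer_iff.mp hc x hx).symm
  have e : g * x * g⁻¹ * (v * c * s * (v * c)⁻¹) = (u * c) * (x * s) * (u * c)⁻¹ := by
    rw [he x hx]
    calc u * x * u⁻¹ * (v * c * s * (v * c)⁻¹)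
        = u * x * u⁻¹ * ((v * (c * s * c⁻¹)) * v⁻¹) := by simp [mul_assoc]
      _ = u * x * u⁻¹ * (c * s * c⁻¹) := by rw [e1, mul_inv_cancel_right]
      _ = u * x * u⁻¹ * ((u * (c * s * c⁻¹)) * u⁻¹) := by rw [e2, mul_inv_cancel_right]
      _ = u * (x * c) * s * c⁻¹ * u⁻¹ := by simp [mul_assoc]
      _ = (u * c) * (x * s) * (u * c)⁻¹ := by rw [← e3]; simp [mul_assoc]
  rw [e]
  exact isClassFunction_irr χ _ _

/-- A sum over `G` of a function living on the section of `P`. -/
theorem sum_eq_sum_section [Fintype G] [Fintype P] (hP : IsPGroup p P)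
    (hG : P ⊔ Subgroup.centralizer (P : Set G) = ⊤) {F : G → ℂ}
    (hF : ∀ g y, Cfsg.IsPPart p g y → y ∉ P → F g = 0) :
    ∑ g : G, F g = ∑ x : P, ∑ s : G, if p ∣ orderOf s then 0 else F ((x : G) * s) := by
  classical
  set A := (Finset.univ : Finset P) ×ˢ Finset.univ.filter (fun s : G => ¬ p ∣ orderOf s) with hA
  have h1 : ∀ x : P, ∑ s : G, (if p ∣ orderOf s then 0 else F ((x : G) * s)) =
      ∑ s ∈ Finset.univ.filter (fun s : G => ¬ p ∣ orderOf s), F ((x : G) * s) := fun x => by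
    rw [Finset.sum_filter]
    exact Finset.sum_congr rfl fun s _ => by rw [ite_not]
  simp only [h1]
  rw [← Finset.sum_product' (f := fun (x : P) (s : G) => F ((x : G) * s))]
  have hinj : Set.InjOn (fun a : P × G => (a.1 : G) * a.2) A := by
    rintro ⟨x, s⟩ hxs ⟨y, t⟩ hyt (h : (x : G) * s = (y : G) * t)
    simp only [hA, Finset.coe_product, Set.mem_prod, Finset.coe_filter, Finset.mem_univ, true_and,
      Set.mem_ofPred_eq] at hxs hyt
    have hxy : (x : G) = y := PrincipalSection.isPPart_unique Fact.out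
      (isPPart_mul hP hG hxs.2 x.2) (h ▸ isPPart_mul hP hG hyt.2 y.2)
    rw [hxy] at h
    exact Prod.ext (Subtype.ext hxy) (mul_left_cancel h)
  rw [← Finset.sum_image (g := fun a : P × G => (a.1 : G) * a.2) hinj]
  refine (Finset.sum_subset (Finset.subset_univ _) fun g _ hg => ?_).symm
  obtain ⟨y, hy⟩ := exists_isPPart (Fact.out : p.Prime) g
  refine hF g y hy fun hyP => hg ?_
  obtain ⟨z, hz, -, -, hzr⟩ := hy
  exact Finset.mem_image.mpr ⟨(⟨y, hyP⟩, z), by simp [hA, hzr], hz⟩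

/-- Each irreducible character restricts to `P` as a multiple of an irreducible one. -/
theorem exists_restrict_eq (hG : P ⊔ Subgroup.centralizer (P : Set G) = ⊤)
    (χ : Cfsg.IrrCharacter G) :
    ∃ (μ : Cfsg.IrrCharacter P) (m : ℕ), m ≠ 0 ∧
      ∀ x : P, (χ : G → ℂ) x = m * (μ : P → ℂ) x := by
  haveI := normal_of_sup hG
  letI := Fintype.ofFinite G
  letI := Fintype.ofFinite P
  obtain ⟨μ, hμ⟩ := Clifford.Basic.exists_constituent_restrict P χ.2
  obtain ⟨m, hm⟩ := exists_classInner_nat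
    (isCharacter_comp P.subtype (isCharacter_irr χ)) (isCharacter_irr μ)
  have hinv : ∀ g, Clifford.Basic.conjC P g μ = (μ : P → ℂ) := fun g => by
    obtain ⟨u, hu, he⟩ := exists_conj_eq hG g
    funext n
    have e : (⟨g * n * g⁻¹, (normal_of_sup hG).conj_mem (n : G) n.2 g⟩ : P) =
        ⟨u, hu⟩ * n * ⟨u, hu⟩⁻¹ := Subtype.ext (he n n.2)
    rw [Clifford.Basic.conjC_apply, e]
    exact isClassFunction_irr μ _ _
  have h := Clifford.Basic.restrict_eq_smul P χ.2 μ hμ hinv
  have hm' : Cfsg.classInner (fun n : P => (χ : G → ℂ) n) μ = m := hm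
  refine ⟨μ, m, fun e => hμ (by rw [hm', e, Nat.cast_zero]), fun x => ?_⟩
  rw [← hm']
  exact congrFun h x

omit [Fact p.Prime] [Finite G] in
theorem apply_one_of_restrict {χ : Cfsg.IrrCharacter G} {μ : Cfsg.IrrCharacter P} {m : ℕ}
    (hm : ∀ x : P, (χ : G → ℂ) x = m * (μ : P → ℂ) x) :
    (χ : G → ℂ) 1 = m * (μ : P → ℂ) 1 := by
  rw [← hm 1, OneMemClass.coe_one]

/-- The value at a regular element, over the degree of the constituent on `P`, is integral. -/
theorem isIntegral_ratio (hP : IsPGroup p P) (hG : P ⊔ Subgroup.centralizer (P : Set G) = ⊤)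
    (χ : Cfsg.IrrCharacter G) {μ : Cfsg.IrrCharacter P} {m : ℕ}
    (hm : ∀ x : P, (χ : G → ℂ) x = m * (μ : P → ℂ) x) {s : G} (hs : ¬ p ∣ orderOf s) :
    IsIntegral ℤ ((χ : G → ℂ) s / (μ : P → ℂ) 1) := by
  classical
  set H := Subgroup.zpowers s with hH
  letI := Fintype.ofFinite P
  letI := Fintype.ofFinite H
  letI := Fintype.ofFinite (Cfsg.IrrCharacter H)
  have hcomm : ∀ (a : P) (t : H), Commute (a : G) (t : G) := fun a t => by
    obtain ⟨k, hk⟩ := Subgroup.mem_zpowers_iff.mp t.2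
    rw [← hk]
    exact (commute_regular hP hG hs a.2).zpow_right k
  set ι : P × H →* G := MonoidHom.noncommCoprod P.subtype H.subtype hcomm
  set f : H → ℂ := fun t =>
    (Nat.card P : ℂ)⁻¹ * ∑ x : P, (χ : G → ℂ) ((x : G) * t) * conj ((μ : P → ℂ) x) with hfdef
  have hf : Cfsg.IsClassFunction H f := fun a b => by
    obtain ⟨i, hi⟩ := Subgroup.mem_zpowers_iff.mp a.2
    obtain ⟨j, hj⟩ := Subgroup.mem_zpowers_iff.mp b.2
    have e : b * a * b⁻¹ = a := Subtype.ext (by
      show (b : G) * a * (b : G)⁻¹ = a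
      rw [← hi, ← hj, (Commute.zpow_zpow_self s j i).eq, mul_inv_cancel_right])
    rw [e]
  have hn : ∀ lam : Cfsg.IrrCharacter H, ∃ n : ℕ, Cfsg.classInner f (lam : H → ℂ) = n := by
    intro lam
    obtain ⟨n, hn⟩ := exists_classInner_nat (isCharacter_comp ι (isCharacter_irr χ))
      (isCharacter_mul (isCharacter_comp (MonoidHom.fst P H) (isCharacter_irr μ))
        (isCharacter_comp (MonoidHom.snd P H) (isCharacter_irr lam)))
    refine ⟨n, ?_⟩
    rw [← hn, Cfsg.classInner, Cfsg.classInner, Nat.card_prod, Nat.cast_mul, mul_inv,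
      Fintype.sum_prod_type, Finset.sum_comm, mul_comm (Nat.card P : ℂ)⁻¹, mul_assoc]
    congr 1
    rw [Finset.mul_sum]
    refine Finset.sum_congr rfl fun t _ => ?_
    simp only [hfdef, Pi.mul_apply, Function.comp_apply, MonoidHom.coe_fst, MonoidHom.coe_snd,
      map_mul, ι]
    rw [mul_assoc, Finset.sum_mul]
    refine congrArg _ (Finset.sum_congr rfl fun x _ => ?_)
    change _ = (χ : G → ℂ) ((x : G) * (t : G)) * _
    ring
  have hval : f ⟨s, Subgroup.mem_zpowers s⟩ = (χ : G → ℂ) s / (μ : P → ℂ) 1 := by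
    have h1 := classInner_self_irr μ
    rw [Cfsg.classInner] at h1
    have h2 : ∀ x : P, (χ : G → ℂ) ((x : G) * s) * conj ((μ : P → ℂ) x) =
        (χ : G → ℂ) s / (μ : P → ℂ) 1 * ((μ : P → ℂ) x * conj ((μ : P → ℂ) x)) := fun x => by
      have hμ1 := apply_one_ne_zero μ
      have hm0 : (m : ℂ) ≠ 0 := fun e => apply_one_ne_zero χ (by
        rw [apply_one_of_restrict hm, e, zero_mul])
      rw [apply_mul hP hG χ x.2 hs, hm x, apply_one_of_restrict hm]
      field_simp
    simp only [hfdef]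
    rw [Finset.sum_congr rfl fun x _ => h2 x, ← Finset.mul_sum, mul_left_comm, h1, mul_one]
  rw [← hval, classFunction_eq_sum hf, Finset.sum_apply]
  refine IsIntegral.sum _ fun lam _ => ?_
  obtain ⟨n, hn'⟩ := hn lam
  rw [Pi.smul_apply, smul_eq_mul, hn']
  exact (isIntegral_algebraMap (R := ℤ) (x := (n : ℤ))).mul (isIntegral_apply (isCharacter_irr lam) _)
    |> fun h => by simpa using h

variable {M : Ideal Cfsg.AlgInt} [M.IsMaximal]

/-- Members vanish off the section of `P`. -/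
theorem apply_eq_zero (hM : Cfsg.IsPModular p M) (hG : P ⊔ Subgroup.centralizer (P : Set G) = ⊤)
    {B : Set (Cfsg.IrrCharacter G)} (hB : Cfsg.IsPBlock M B)
    (hD : Cfsg.IsDefectGroup p M B P) {χ : Cfsg.IrrCharacter G} (hχ : χ ∈ B) {g y : G}
    (hy : Cfsg.IsPPart p g y) (hyP : y ∉ P) : (χ : G → ℂ) g = 0 := by
  haveI := normal_of_sup hG
  haveI : CharP (Res M) p := Cfsg.Agent.Lib.BrauerPairs.Bridge.charP_res hM
  refine CentralDefect.apply_eq_zero_of_isDef hM hB ((isDefectGroup_iff hB P).mp hD) hy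
    (fun c hc => hyP ?_) hχ
  have h := (normal_of_sup hG).conj_mem _ hc c⁻¹
  simpa [mul_assoc] using h

section Block

variable (hM : Cfsg.IsPModular p M) (hP : IsPGroup p P)
  (hG : P ⊔ Subgroup.centralizer (P : Set G) = ⊤)
  {B : Set (Cfsg.IrrCharacter G)} (hB : Cfsg.IsPBlock M B) (hD : Cfsg.IsDefectGroup p M B P)

include hM hP hG hB hD in
open scoped Classical in
/-- The inner product over the regular elements of two members over the same constituent. -/
theorem regSum_eq {χ ψ : Cfsg.IrrCharacter G} (hχ : χ ∈ B) {μ : Cfsg.IrrCharacter P} {m n : ℕ}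
    (hm : ∀ x : P, (χ : G → ℂ) x = m * (μ : P → ℂ) x)
    (hn : ∀ x : P, (ψ : G → ℂ) x = n * (μ : P → ℂ) x) :
    regSum p (χ : G → ℂ) (ψ : G → ℂ) =
      if χ = ψ then (μ : P → ℂ) 1 * (μ : P → ℂ) 1 * (P.index : ℂ) else 0 := by
  letI := Fintype.ofFinite G
  letI := Fintype.ofFinite P
  have hμ1 := apply_one_ne_zero μ
  have hm0 : (m : ℂ) ≠ 0 := fun e => apply_one_ne_zero χ (by
    rw [apply_one_of_restrict hm, e, zero_mul])
  have hn0 : (n : ℂ) ≠ 0 := fun e => apply_one_ne_zero ψ (by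
    rw [apply_one_of_restrict hn, e, zero_mul])
  have h := classInner_irr χ ψ
  rw [Cfsg.classInner, inv_mul_eq_iff_eq_mul₀ (Nat.cast_ne_zero.mpr Nat.card_pos.ne')] at h
  rw [sum_eq_sum_section hP hG (fun g y hy hyP => by
    rw [apply_eq_zero hM hG hB hD hχ hy hyP, zero_mul])] at h
  have h2 : ∀ x : P, ∑ s : G, (if p ∣ orderOf s then 0 else
      (χ : G → ℂ) ((x : G) * s) * conj ((ψ : G → ℂ) ((x : G) * s))) =
      ((μ : P → ℂ) x * conj ((μ : P → ℂ) x)) *
        (regSum p (χ : G → ℂ) (ψ : G → ℂ) / ((μ : P → ℂ) 1 * (μ : P → ℂ) 1)) := by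
    intro x
    rw [regSum_eq_sum, Finset.sum_div, Finset.mul_sum]
    refine Finset.sum_congr rfl fun s _ => ?_
    split_ifs with hs
    · simp
    · rw [apply_mul hP hG χ x.2 hs, apply_mul hP hG ψ x.2 hs, hm x, hn x,
        apply_one_of_restrict hm, apply_one_of_restrict hn, map_div₀, map_mul, map_mul, map_mul,
        conj_apply_one (isCharacter_irr μ), map_natCast, apply_inv (isCharacter_irr ψ) s]
      field_simp
  have h1 := classInner_self_irr μ
  rw [Cfsg.classInner, inv_mul_eq_iff_eq_mul₀ (Nat.cast_ne_zero.mpr Nat.card_pos.ne'),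
    mul_one] at h1
  rw [Finset.sum_congr rfl fun x _ => h2 x, ← Finset.sum_mul, h1, ← P.card_mul_index,
    Nat.cast_mul, mul_assoc, mul_right_inj' (Nat.cast_ne_zero.mpr Nat.card_pos.ne'),
    div_eq_iff (mul_ne_zero hμ1 hμ1)] at h
  rw [h]
  split_ifs <;> ring

include hP hG hB in
/-- The congruence in the block for the class function of a member. -/
theorem memLocalIdeal_sub_regSum {χ φ ψ : Cfsg.IrrCharacter G} (hχ : χ ∈ B) (hφ : φ ∈ B)
    {μ : Cfsg.IrrCharacter P} {n : ℕ} (hn : ∀ x : P, (ψ : G → ℂ) x = n * (μ : P → ℂ) x) :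
    regSum p (χ : G → ℂ) (ψ : G → ℂ) / (μ : P → ℂ) 1 / (χ : G → ℂ) 1 ∈ localRing M ∧
      Cfsg.MemLocalIdeal M (regSum p (χ : G → ℂ) (ψ : G → ℂ) / (μ : P → ℂ) 1 / (χ : G → ℂ) 1 -
        regSum p (φ : G → ℂ) (ψ : G → ℂ) / (μ : P → ℂ) 1 / (φ : G → ℂ) 1) := by
  letI := Fintype.ofFinite G
  set f : G → ℂ := fun g =>
    ((μ : P → ℂ) 1)⁻¹ * if p ∣ orderOf g then 0 else (ψ : G → ℂ) g⁻¹ with hf
  have hfc : Cfsg.IsClassFunction G f := classFun_smul _ (regular_conj_classFun (p := p) ψ)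
  have hfR : ∀ g, f g ∈ localRing M := fun g => by
    simp only [hf]
    split_ifs with h
    · rw [mul_zero]; exact zero_mem _
    · rw [inv_mul_eq_div]
      exact mem_localRing_of_isIntegral
        (isIntegral_ratio hP hG ψ hn (by rwa [orderOf_inv]))
  have key : ∀ θ : Cfsg.IrrCharacter G, (∑ g : G, f g * (θ : G → ℂ) g) =
      regSum p (θ : G → ℂ) (ψ : G → ℂ) / (μ : P → ℂ) 1 := fun θ => by
    rw [← sum_regular_conj, Finset.sum_div]
    refine Finset.sum_congr rfl fun g _ => ?_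
    simp only [hf]
    ring
  have h := sum_div_mem (M := M) hfc hfR χ
  rw [key] at h
  refine ⟨h.1, ?_⟩
  have h' := h.2 hB hχ φ hφ
  rwa [key] at h'

omit [Fact p.Prime] in
theorem natCast_index_ne_zero : (P.index : ℂ) ≠ 0 :=
  Nat.cast_ne_zero.mpr Subgroup.index_ne_zero_of_finite

include hM hP hG hB hD in
/-- There is a member trivial on `P`, with the `p`-part of the index as `p`-part of its degree. -/
theorem exists_trivialOn :
    ∃ θ ∈ B, (∀ x ∈ P, (θ : G → ℂ) x = (θ : G → ℂ) 1) ∧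
      (Cfsg.charDegree (θ : G → ℂ)).factorization p = P.index.factorization p := by
  haveI := normal_of_sup hG
  obtain ⟨χ, hχ⟩ := PKernel.exists_infl_mem hM (QuotientGroup.mk' P)
    (QuotientGroup.mk'_surjective P) (by rwa [QuotientGroup.ker_mk']) hB
  refine ⟨_, hχ, fun x hx => ?_, le_antisymm ?_ ?_⟩
  · rw [Inflation.infl_apply, Inflation.infl_apply, map_one, QuotientGroup.mk'_apply,
      (QuotientGroup.eq_one_iff x).mpr hx]
  · have e : Cfsg.charDegree
        (Inflation.infl (QuotientGroup.mk' P) (QuotientGroup.mk'_surjective P) χ : G → ℂ) =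
        Cfsg.charDegree (χ : G ⧸ P → ℂ) := by
      rw [Cfsg.charDegree, Cfsg.charDegree, Inflation.infl_apply, map_one]
    rw [e]
    refine (Nat.factorization_le_iff_dvd (Cfsg.Agent.Lib.H80.ClassMult.deg_spec χ).1.ne'
      Subgroup.index_ne_zero_of_finite).mpr ?_ p
    rw [Subgroup.index_eq_card]
    exact Cfsg.Agent.Lib.H80.ClassMult.charDegree_dvd_card χ
  · exact ((Fact.out : p.Prime).pow_dvd_iff_le_factorization
      (Cfsg.Agent.Lib.H80.ClassMult.deg_spec _).1.ne').mp
      (pow_dvd_charDegree hM hB hD hχ)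

omit [Fact p.Prime] [Finite G] in
theorem restrict_of_trivialOn {θ : Cfsg.IrrCharacter G}
    (hθ : ∀ x ∈ P, (θ : G → ℂ) x = (θ : G → ℂ) 1) (x : P) :
    (θ : G → ℂ) x = (Cfsg.charDegree (θ : G → ℂ) : ℕ) * (oneChar P : P → ℂ) x := by
  rw [hθ x x.2, oneChar_apply, mul_one]
  exact (Cfsg.Agent.Lib.H80.ClassMult.deg_spec θ).2

include hM hP hG hB hD in
/-- The index over the multiplicity is a unit. -/
theorem not_memLocalIdeal_index_div {χ : Cfsg.IrrCharacter G} (hχ : χ ∈ B)
    {μ : Cfsg.IrrCharacter P} {m : ℕ} (hm : ∀ x : P, (χ : G → ℂ) x = m * (μ : P → ℂ) x) :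
    ¬ Cfsg.MemLocalIdeal M ((P.index : ℂ) / (m : ℂ)) := by
  classical
  obtain ⟨θ, hθ, htriv, hdeg⟩ := exists_trivialOn hM hP hG hB hD
  have hθr := restrict_of_trivialOn htriv
  obtain ⟨hu1, hu2⟩ := CentralDefect.degree_div_index_mem hM hdeg
  have hθ1 := apply_one_ne_zero θ
  have hμ1 := apply_one_ne_zero μ
  have hm0 : (m : ℂ) ≠ 0 := fun e => apply_one_ne_zero χ (by
    rw [apply_one_of_restrict hm, e, zero_mul])
  have hunit : ¬ Cfsg.MemLocalIdeal M ((P.index : ℂ) / (θ : G → ℂ) 1) := fun h => by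
    apply not_memLocalIdeal_one (M := M)
    have := memLocalIdeal_mul_right h hu1
    rwa [div_mul_div_comm, mul_comm, div_self (mul_ne_zero hθ1 natCast_index_ne_zero)] at this
  intro hI
  set R := regSum p (χ : G → ℂ) (θ : G → ℂ)
  obtain ⟨hR1, hc1⟩ := memLocalIdeal_sub_regSum hP hG hB hχ hθ hθr
  obtain ⟨-, hc2⟩ := memLocalIdeal_sub_regSum hP hG hB hθ hχ hm
  rw [oneChar_apply, div_one, div_one, regSum_eq hM hP hG hB hD hθ hθr hθr, if_pos rfl,
    oneChar_apply, one_mul, one_mul] at hc1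
  rw [oneChar_apply, div_one] at hR1
  rw [regSum_eq hM hP hG hB hD hχ hm hm, if_pos rfl, regSum_comm] at hc2
  have e2 : (μ : P → ℂ) 1 * (μ : P → ℂ) 1 * (P.index : ℂ) / (μ : P → ℂ) 1 / (χ : G → ℂ) 1 =
      (P.index : ℂ) / (m : ℂ) := by
    rw [apply_one_of_restrict hm]
    field_simp
  rw [e2] at hc2
  -- `R / χ 1` is a unit
  have hA : ¬ Cfsg.MemLocalIdeal M (R / (χ : G → ℂ) 1) := fun h => hunit (by
    have h' := memLocalIdeal_sub h hc1
    rwa [sub_sub_cancel] at h')
  have hBmem : Cfsg.MemLocalIdeal M (R / (μ : P → ℂ) 1 / (θ : G → ℂ) 1) := by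
    simpa using memLocalIdeal_add hc2 hI
  have hratio : Cfsg.MemLocalIdeal M ((m : ℂ) / (θ : G → ℂ) 1) := by
    have := memLocalIdeal_mul_right hBmem (inv_mem_localRing hR1 hA)
    have hR0 : R ≠ 0 := fun e => hA (by rw [e, zero_div]; exact memLocalIdeal_zero)
    convert this using 1
    rw [apply_one_of_restrict hm]
    field_simp
    exact (div_self hR0).symm
  apply hunit
  have := memLocalIdeal_mul_right hI (memLocalRing_of_memLocalIdeal hratio)
  convert this using 1
  field_simp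

include hM hP hG hB hD in
/-- A member is determined by its constituent on `P`. -/
theorem eq_of_restrict {χ φ : Cfsg.IrrCharacter G} (hχ : χ ∈ B) (hφ : φ ∈ B)
    {μ : Cfsg.IrrCharacter P} {m n : ℕ} (hm : ∀ x : P, (χ : G → ℂ) x = m * (μ : P → ℂ) x)
    (hn : ∀ x : P, (φ : G → ℂ) x = n * (μ : P → ℂ) x) : χ = φ := by
  classical
  by_contra hne
  obtain ⟨-, hc⟩ := memLocalIdeal_sub_regSum hP hG hB hφ hχ hn
  rw [regSum_eq hM hP hG hB hD hφ hn hn, if_pos rfl, regSum_eq hM hP hG hB hD hχ hm hn,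
    if_neg hne, zero_div, zero_div, sub_zero, apply_one_of_restrict hn] at hc
  refine not_memLocalIdeal_index_div hM hP hG hB hD hφ hn ?_
  have hμ1 := apply_one_ne_zero μ
  have hn0 : (n : ℂ) ≠ 0 := fun e => apply_one_ne_zero φ (by
    rw [apply_one_of_restrict hn, e, zero_mul])
  convert hc using 1
  field_simp

include hM hP hG hB hD in
/-- As many members as classes of `P`. -/
theorem card_eq_card_conjClasses : Nat.card B = Nat.card (ConjClasses P) := by
  classical
  letI := Fintype.ofFinite G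
  haveI : Finite (ConjClasses P) := Quotient.finite _
  letI := Fintype.ofFinite (ConjClasses P)
  haveI : Finite (Cfsg.IrrCharacter P) := inferInstance
  refine le_antisymm ?_ ?_
  · choose f k hk hf using fun χ : B => exists_restrict_eq hG (χ : Cfsg.IrrCharacter G)
    have hinj : Function.Injective f := fun χ φ e =>
      Subtype.ext (eq_of_restrict hM hP hG hB hD χ.2 φ.2 (hf χ) (e ▸ hf φ))
    exact (Nat.card_le_card_of_injective f hinj).trans card_irr_eq_card_conjClasses.le
  · obtain ⟨θ, hθ, htriv, -⟩ := exists_trivialOn hM hP hG hB hD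
    haveI : Finite B := (Set.toFinite B).to_subtype
    letI := Fintype.ofFinite B
    set v : ConjClasses P → B → ℂ :=
      fun c χ => ((χ : Cfsg.IrrCharacter G) : G → ℂ) (c.out : G) with hv
    have hpp : ∀ x : P, Cfsg.IsPPart p (x : G) (x : G) := fun x => by
      have := isPPart_mul hP hG (s := (1 : G)) (by simp [(Fact.out : p.Prime).ne_one]) x.2
      rwa [mul_one] at this
    have horth : ∀ c d : ConjClasses P, c ≠ d → ∑ χ : B, v c χ * conj (v d χ) = 0 := by
      intro c d hcd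
      have h := sum_block_eq_zero hM (hpp c.out) (hpp d.out)
        (fun e => hcd ((Quotient.out_eq c).symm.trans
          ((Quotient.sound (isConj_subgroup hG e)).trans (Quotient.out_eq d)))) hB
      rw [finsum_mem_eq_finite_toFinset_sum _ (Set.toFinite B)] at h
      rw [← h, Finset.sum_subtype (Set.toFinite B).toFinset (p := (· ∈ B)) (by simp)]
      exact Finset.sum_congr rfl fun χ _ => by rw [hv, apply_inv (isCharacter_irr _)]
    have hpos : ∀ c : ConjClasses P, ∑ χ : B, v c χ * conj (v c χ) ≠ 0 := by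
      intro c h
      simp only [Complex.mul_conj] at h
      rw [← Complex.ofReal_sum, Complex.ofReal_eq_zero,
        Finset.sum_eq_zero_iff_of_nonneg fun χ _ => Complex.normSq_nonneg _] at h
      have h1 := h ⟨θ, hθ⟩ (Finset.mem_univ _)
      rw [Complex.normSq_eq_zero] at h1
      exact apply_one_ne_zero θ ((htriv _ (c.out : P).2).symm.trans h1)
    have hli : LinearIndependent ℂ v := by
      rw [Fintype.linearIndependent_iff]
      intro a ha d
      have h0 : ∑ χ : B, (∑ c, a c • v c) χ * conj (v d χ) = 0 :=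
        Finset.sum_eq_zero fun χ _ => by rw [ha, Pi.zero_apply, zero_mul]
      simp only [Finset.sum_apply, Pi.smul_apply, smul_eq_mul, Finset.sum_mul, mul_assoc] at h0
      rw [Finset.sum_comm] at h0
      simp only [← Finset.mul_sum] at h0
      rw [Finset.sum_eq_single d (fun c _ hcd => by rw [horth c d hcd, mul_zero])
        (fun h => absurd (Finset.mem_univ _) h)] at h0
      exact (mul_eq_zero.mp h0).resolve_right (hpos d)
    have := hli.fintype_card_le_finrank
    rwa [Module.finrank_fintype_fun_eq_card, ← Nat.card_eq_fintype_card,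
      ← Nat.card_eq_fintype_card] at this

end Block

end Cfsg.Agent.Lib.BrauerMap.PCentral
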