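import Cfsg.Agent.S0971
import Cfsg.Agent.Lib.BrauerMap.PCentral
import Cfsg.Agent.Lib.BrauerMap.FirstMain
import Cfsg.Agent.Lib.BrauerPairs.Inertial
import Cfsg.Agent.Lib.BrauerPairs.NormalSub

/-!
# Blocks with a normal defect group, seen from `P C(P)`
-/

set_option autoImplicit false
set_option linter.style.haveILetI false

namespace Cfsg.Agent.Lib.BrauerMap.NormalDefect

open MonoidAlgebra Cfsg.Agent.Lib.BrauerMap.Basic
open Cfsg.Agent.Lib.BrauerPairs.Center Cfsg.Agent.Lib.BrauerPairs.Trunc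
open Cfsg.Agent.Lib.BrauerPairs.Conj Cfsg.Agent.Lib.BrauerPairs.Pairs
open Cfsg.Agent.Lib.BrauerPairs.Transport Cfsg.Agent.Lib.BrauerPairs.Maximal
open Cfsg.Agent.Lib.BrauerPairs.Bridge
open Cfsg.Agent.Lib.BrauerPairs
open Cfsg.Agent.Lib.Blocks Cfsg.Agent.Lib.Blocks.Contrib
open Cfsg.Agent.Lib.Characters.Basic Cfsg.Agent.Lib.Characters.Complete

universe u v

attribute [local instance] Ideal.Quotient.field

local notation "C[" P "]" => Subgroup.centralizer (SetLike.coe P)

/-- A block of `C(P)` is determined by the block of `L` it gives. -/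
theorem toL_injective {G : Type u} [Group G] [Finite G] {k : Type v} [Field k] [IsAlgClosed k]
    {p : ℕ} [Fact p.Prime] [CharP k p] {P L : Subgroup G} (hP : IsPGroup p P) (hPL : P ≤ L)
    (hC : C[P] ≤ L) (hL : L ≤ P ⊔ C[P]) :
    Function.Injective (FirstMain.toL (k := k) hP hPL hC) := by
  intro ω ω' he
  refine AlgHom.ext fun z => ?_
  have h1 : IsFixedBy P (Trunc.ext C[P] (z : MonoidAlgebra k C[P])) :=
    Cfsg.Agent.Lib.BrauerPairs.LocalDefect.isFixedBy_self P _
  have h2 : IsFixedBy C[P] (Trunc.ext C[P] (z : MonoidAlgebra k C[P])) :=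
    isFixedBy_ext_of_center z.2
  have hfix : IsFixedBy L (Trunc.ext C[P] (z : MonoidAlgebra k C[P])) :=
    isFixedBy_mono hL (Cfsg.Agent.Lib.BrauerPairs.LocalDefect.isFixedBy_sup h1 h2)
  let a : ZAlg k L := ⟨Cfsg.Agent.Lib.BrauerPairs.NormalSub.res L (Trunc.ext C[P] (z : MonoidAlgebra k C[P])),
    Cfsg.Agent.Lib.BrauerPairs.NormalSub.res_mem_center hfix⟩
  have key : ∀ η : Blk k C[P], FirstMain.toL hP hPL hC η a = η z := by
    intro η
    rw [FirstMain.toL_apply]
    show val P η (Trunc.ext L (Cfsg.Agent.Lib.BrauerPairs.NormalSub.res L _)) = _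
    rw [Cfsg.Agent.Lib.BrauerPairs.NormalSub.ext_res
      (fun g hg => coeff_ext_of_notMem _ _ (fun h => hg (hC h))),
      val_eq η (isFixedBy_ext_of_center z.2)]
    refine congrArg η (Subtype.ext ?_)
    ext h
    rw [coeff_br, coeff_ext]
  rw [← key ω, ← key ω', he]

/-- A natural quotient that is a unit of the local ring has balanced `p`-parts. -/
theorem factorization_eq_of_unit {p : ℕ} [Fact p.Prime] {M : Ideal Cfsg.AlgInt} [M.IsMaximal]
    (hM : Cfsg.IsPModular p M) {a b : ℕ} (ha : a ≠ 0) (hb : b ≠ 0)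
    (hmem : (a : ℂ) / (b : ℂ) ∈ localRing M) (hne : ¬ Cfsg.MemLocalIdeal M ((a : ℂ) / (b : ℂ))) :
    a.factorization p = b.factorization p := by
  have hp : p.Prime := Fact.out
  refine le_antisymm ?_ ?_
  · by_contra hlt
    apply hne
    obtain ⟨c, hc⟩ := (hp.pow_dvd_iff_le_factorization ha).mpr (Nat.succ_le_of_lt (not_le.mp hlt))
    have hb' := natCast_inv_mem_localRing hM (Nat.not_dvd_ordCompl hp hb)
    have h := memLocalIdeal_mul_right (natCast_prime_mem_localIdeal hM)
      (mul_mem (natCast_mem _ c) hb')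
    convert h using 1
    have h2 : ((p ^ b.factorization p * (b / p ^ b.factorization p) : ℕ) : ℂ) = b :=
      congrArg _ (Nat.ordProj_mul_ordCompl_eq_self b p)
    have hb'0 : ((b / p ^ b.factorization p : ℕ) : ℂ) ≠ 0 :=
      Nat.cast_ne_zero.mpr fun e => Nat.not_dvd_ordCompl hp hb (e ▸ dvd_zero p)
    push_cast at h2
    rw [hc, pow_succ]
    push_cast
    have hp0 : (p : ℂ) ^ b.factorization p ≠ 0 := pow_ne_zero _ (Nat.cast_ne_zero.mpr hp.ne_zero)
    generalize ((b / p ^ b.factorization p : ℕ) : ℂ) = b' at h2 hb'0 ⊢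
    rw [← h2]
    field_simp
  · refine (hp.pow_dvd_iff_le_factorization ha).mp ?_
    have h1 : (p : ℤ) ^ b.factorization p ∣ (a : ℤ) := by
      refine pow_dvd_of_div_mem hM _ _ ?_
      have h := mul_mem hmem (natCast_mem (localRing M) (b / p ^ b.factorization p))
      convert h using 1
      have h2 : ((p ^ b.factorization p * (b / p ^ b.factorization p) : ℕ) : ℂ) = b :=
        congrArg _ (Nat.ordProj_mul_ordCompl_eq_self b p)
      have hb'0 : ((b / p ^ b.factorization p : ℕ) : ℂ) ≠ 0 :=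
        Nat.cast_ne_zero.mpr fun e => Nat.not_dvd_ordCompl hp hb (e ▸ dvd_zero p)
      push_cast at h2
      have hp0 : (p : ℂ) ^ b.factorization p ≠ 0 :=
        pow_ne_zero _ (Nat.cast_ne_zero.mpr hp.ne_zero)
      generalize ((b / p ^ b.factorization p : ℕ) : ℂ) = b' at h2 hb'0 ⊢
      rw [← h2, Int.cast_natCast]
      field_simp
    exact_mod_cast h1

section PCentral

variable {G : Type u} [Group G] [Finite G] {p : ℕ} [Fact p.Prime] {M : Ideal Cfsg.AlgInt}
  [M.IsMaximal] {P : Subgroup G}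

variable (hM : Cfsg.IsPModular p M) (hP : IsPGroup p P) (hG : P ⊔ C[P] = ⊤)
  {B : Set (Cfsg.IrrCharacter G)} (hB : Cfsg.IsPBlock M B) (hD : Cfsg.IsDefectGroup p M B P)

include hM hP hG hB hD in
/-- Every irreducible character of `P` lies under a member, and this gives the degree. -/
theorem exists_over (μ : Cfsg.IrrCharacter P) :
    ∃ χ ∈ B, (Cfsg.charDegree (χ : G → ℂ)).factorization p =
      P.index.factorization p + (Cfsg.charDegree (μ : P → ℂ)).factorization p := by
  classical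
  haveI : Finite B := (Set.toFinite B).to_subtype
  choose f m hm0 hf using fun χ : B => PCentral.exists_restrict_eq hG (χ : Cfsg.IrrCharacter G)
  have hinj : Function.Injective f := fun χ φ e =>
    Subtype.ext (PCentral.eq_of_restrict hM hP hG hB hD χ.2 φ.2 (hf χ) (e ▸ hf φ))
  obtain ⟨χ, rfl⟩ := ((Nat.bijective_iff_injective_and_card f).mpr ⟨hinj,
    (PCentral.card_eq_card_conjClasses hM hP hG hB hD).trans
      card_irr_eq_card_conjClasses.symm⟩).2 μ
  refine ⟨χ, χ.2, ?_⟩
  have h1 := PCentral.apply_one_of_restrict (hf χ)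
  rw [(Cfsg.Agent.Lib.H80.ClassMult.deg_spec _).2, (Cfsg.Agent.Lib.H80.ClassMult.deg_spec _).2,
    ← Nat.cast_mul, Nat.cast_inj] at h1
  rw [h1, Nat.factorization_mul (hm0 χ) (Cfsg.Agent.Lib.H80.ClassMult.deg_spec _).1.ne',
    Finsupp.add_apply]
  congr 1
  symm
  refine factorization_eq_of_unit hM Subgroup.index_ne_zero_of_finite (hm0 χ) ?_
    (PCentral.not_memLocalIdeal_index_div hM hP hG hB hD χ.2 (hf χ))
  have h2 := (PCentral.memLocalIdeal_sub_regSum hP hG hB χ.2 χ.2 (hf χ)).1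
  rw [PCentral.regSum_eq hM hP hG hB hD χ.2 (hf χ) (hf χ), if_pos rfl,
    PCentral.apply_one_of_restrict (hf χ)] at h2
  convert h2 using 1
  have hμ1 := apply_one_ne_zero (f χ)
  have hm1 : (m χ : ℂ) ≠ 0 := Nat.cast_ne_zero.mpr (hm0 χ)
  field_simp

end PCentral

variable {G : Type u} [Group G] [Fintype G] {p : ℕ} [Fact p.Prime] {M : Ideal Cfsg.AlgInt}
  [M.IsMaximal] {P : Subgroup G} [P.Normal]

/-- For every irreducible character of the defect group some member of the block has at least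
that much height. -/
theorem exists_degree_ge (hM : Cfsg.IsPModular p M) {B : Set (Cfsg.IrrCharacter G)}
    (hB : Cfsg.IsPBlock M B) (hD : Cfsg.IsDefectGroup p M B P)
    : ∀ μ : Cfsg.IrrCharacter ↥(P.subgroupOf (P ⊔ C[P])),
    ∃ χ ∈ B, P.index.factorization p + (Cfsg.charDegree (μ : ↥(P.subgroupOf (P ⊔ C[P])) → ℂ)).factorization p ≤
      (Cfsg.charDegree (χ : G → ℂ)).factorization p := by
  classical
  haveI : CharP (Res M) p := charP_res hM
  set N := P ⊔ C[P] with hNdef
  intro μ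
  haveI : N.Normal := Subgroup.sup_normal _ _
  letI := Fintype.ofFinite N
  have hdef := (isDefectGroup_iff hB P).mp hD
  have hP := hdef.isPGroup
  have hPN : P ≤ N := le_sup_left
  have hC : C[P] ≤ N := le_sup_right
  have hNn : N ≤ Subgroup.normalizer (P : Set G) := by
    rw [Subgroup.normalizer_eq_top]; exact le_top
  -- a covered block
  obtain ⟨χ₀, hχ₀⟩ := isPBlock_nonempty hB
  obtain ⟨θ₀, hin₀⟩ := Clifford.Basic.exists_constituent_restrict N χ₀.2
  have hb : Cfsg.IsPBlock M (Cfsg.blockOf M (θ₀ : N → ℂ)) := ⟨θ₀, rfl⟩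
  have hcomp : (blk hb).comp (brauerHom hP hC hNn) = blk hB := by
    obtain ⟨_, _, h⟩ := (InducedHom.isInducedBlock_iff hP hPN hC hNn).mp
      (Cfsg.Agent.S0971.induced_of_covers P N hP hC hb hB hχ₀ (mem_blockOf_self θ₀) hin₀)
    exact h
  set b := Cfsg.blockOf M (θ₀ : N → ℂ) with hbdef
  have hDb : Cfsg.IsDefectGroup p M b (P.subgroupOf N) :=
    (isDefectGroup_iff hb _).mpr (FirstMain.isDef_of_comp hP hPN hC hNn _ (hcomp.symm ▸ hdef))
  have hG' : P.subgroupOf N ⊔ Subgroup.centralizer ((P.subgroupOf N : Subgroup N) : Set N) = ⊤ := by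
    have e : (P ⊔ C[P]).subgroupOf N = ⊤ := Subgroup.subgroupOf_self _
    rw [Subgroup.subgroupOf_sup hPN hC] at e
    rw [eq_top_iff, ← e]
    refine sup_le_sup_left (fun c hc => ?_) _
    rw [Subgroup.mem_centralizer_iff]
    intro q hq
    exact Subtype.ext (Subgroup.mem_centralizer_iff.mp hc q hq)
  obtain ⟨θ, hθ, hθdeg⟩ := exists_over hM (hP.of_equiv (Subgroup.subgroupOfEquivOfLe hPN).symm)
    hG' hb hDb μ
  -- a member over it
  have hindc : Cfsg.IsCharacter G (Cfsg.indFun N (θ : N → ℂ)) :=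
    Induced.Character.isCharacter_indFun N (isCharacter_irr θ)
  obtain ⟨χ, hχin⟩ := Clifford.Basic.exists_constituent hindc (fun h0 => by
    have h1 := congrFun h0 1
    rw [Induced.Basic.indFun_one, Pi.zero_apply] at h1
    exact mul_ne_zero (Nat.cast_ne_zero.mpr Subgroup.index_ne_zero_of_finite)
      (apply_one_ne_zero θ) h1)
  rw [Induced.Basic.frobenius_reciprocity N _ (isClassFunction_irr χ)] at hχin
  have hin := Clifford.Basic.classInner_ne_zero_symm hχin
  have hχB : χ ∈ B := by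
    have hB' : Cfsg.IsPBlock M (Cfsg.blockOf M (χ : G → ℂ)) := ⟨χ, rfl⟩
    obtain ⟨_, _, h⟩ := (InducedHom.isInducedBlock_iff hP hPN hC hNn).mp
      (Cfsg.Agent.S0971.induced_of_covers P N hP hC hb hB' (mem_blockOf_self χ) hθ hin)
    rw [← toSet_blk hB, mem_toSet, ← hcomp, h]
    exact blkOf_of_mem _ (mem_blockOf_self χ)
  refine ⟨χ, hχB, ?_⟩
  set T := Clifford.Basic.inertia N (θ : N → ℂ) with hT
  have hNT : N ≤ T := Clifford.Basic.le_inertia N (isClassFunction_irr θ)
  -- p-elements of the inertia group lie in `N`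
  obtain ⟨ω, hω⟩ := FirstMain.exists_toL hP hPN hC hNn (blk hb)
  have htop : Top p (⟨P, ω⟩ : Idx (Res M) G) := by
    refine top_of_isDef (ψ := blk hB) (pairOf_iff.mpr ⟨hP, ?_⟩) hdef
    rw [← FirstMain.toL_comp_brauerHom hP hPN hC hNn ω, ← hω]
    exact hcomp
  have hfix : ∀ u ∈ T, IsPGroup p (Subgroup.zpowers u) → u ∈ N := by
    intro u hu hup
    have huN : u ∈ Subgroup.normalizer (P : Set G) := by
      rw [Subgroup.normalizer_eq_top]; exact Subgroup.mem_top _
    have hL : ∀ g, g ∈ N ↔ u * g * u⁻¹ ∈ N :=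
      fun g => ⟨fun h => Subgroup.Normal.conj_mem ‹N.Normal› g h u, fun h => by
        simpa [mul_assoc] using Subgroup.Normal.conj_mem ‹N.Normal› _ h u⁻¹⟩
    have hxC := mem_centralizer_conj_iff huN
    have hu' : u⁻¹ ∈ T := inv_mem hu
    have e1 : pushIrr (conjEquiv u N N hL) θ = θ := by
      refine Subtype.ext (funext fun n => ?_)
      rw [pushIrr_apply]
      refine (congrArg (θ : N → ℂ) (Subtype.ext ?_)).trans (congrFun hu' n)
      show u⁻¹ * (n : G) * u = u⁻¹ * (n : G) * (u⁻¹)⁻¹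
      rw [inv_inv]
    have e2 := blkOf_pushIrr_conj (M := M) u N N hL θ
    rw [e1, blkOf_of_mem hb hθ, hω, FirstMain.cBlk_toL hP hPN hC hxC hL] at e2
    have e3 := toL_injective hP hPN hC le_rfl e2
    refine Cfsg.Agent.Lib.BrauerPairs.Inertial.mem_sup_of_top htop huN hup ?_
    rw [← bext_cBlk u _ _ hxC, ← e3]
  have hrel : ¬ p ∣ N.relIndex T := by
    obtain ⟨S⟩ : Nonempty (Sylow p T) := inferInstance
    have hle : (S : Subgroup T) ≤ N.subgroupOf T := fun s hs =>
      hfix s s.2 fun x => by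
        obtain ⟨i, hi⟩ := Subgroup.mem_zpowers_iff.mp x.2
        obtain ⟨k, hk⟩ := S.2 ⟨s, hs⟩
        have hk' : (s : G) ^ p ^ k = 1 :=
          congrArg (fun t : (S : Subgroup T) => ((t : T) : G)) hk
        refine ⟨k, Subtype.ext ?_⟩
        rw [SubmonoidClass.coe_pow, ← hi, OneMemClass.coe_one, ← zpow_natCast, ← zpow_mul,
          mul_comm, zpow_mul, zpow_natCast, hk', one_zpow]
    exact fun h => S.not_dvd_index (h.trans (Subgroup.index_dvd_of_le hle))
  -- degrees
  have hdeg := Clifford.Basic.clifford_degree N χ.2 θ hin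
  obtain ⟨e, he⟩ := exists_classInner_nat
    (isCharacter_comp N.subtype (isCharacter_irr χ)) (isCharacter_irr θ)
  have he' : Cfsg.classInner (fun n : N => (χ : G → ℂ) n) (θ : N → ℂ) = e := he
  have he0 : e ≠ 0 := fun h => hin (by rw [he', h, Nat.cast_zero])
  rw [he', (Cfsg.Agent.Lib.H80.ClassMult.deg_spec _).2,
    (Cfsg.Agent.Lib.H80.ClassMult.deg_spec _).2, ← hT, ← Nat.cast_mul, ← Nat.cast_mul,
    Nat.cast_inj] at hdeg
  have hT0 : T.index ≠ 0 := Subgroup.index_ne_zero_of_finite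
  have hθ0 := (Cfsg.Agent.Lib.H80.ClassMult.deg_spec θ).1.ne'
  have eP : P.index = (P.subgroupOf N).index * N.index := (Subgroup.relIndex_mul_index hPN).symm
  have eT : N.index = (N.subgroupOf T).index * T.index := (Subgroup.relIndex_mul_index hNT).symm
  have hrel' : ¬ p ∣ (N.subgroupOf T).index := hrel
  rw [hdeg, Nat.factorization_mul (mul_ne_zero he0 hT0) hθ0, Nat.factorization_mul he0 hT0,
    Finsupp.add_apply, Finsupp.add_apply, hθdeg, eP,
    Nat.factorization_mul (Subgroup.index_ne_zero_of_finite : (P.subgroupOf N).index ≠ 0)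
      Subgroup.index_ne_zero_of_finite, Finsupp.add_apply, eT,
    Nat.factorization_mul (Subgroup.index_ne_zero_of_finite : (N.subgroupOf T).index ≠ 0) hT0,
    Finsupp.add_apply, Nat.factorization_eq_zero_of_not_dvd hrel']
  omega

end Cfsg.Agent.Lib.BrauerMap.NormalDefect
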