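import Cfsg.Agent.Lib.Blocks.Contrib

/-!
# Character sums over the p-elements
-/

set_option autoImplicit false
set_option linter.style.haveILetI false

namespace Cfsg.Agent.Lib.BrauerMap.PElements

open Cfsg.Agent.Lib.Blocks Cfsg.Agent.Lib.Blocks.Contrib
open Cfsg.Agent.Lib.Characters.Basic Cfsg.Agent.Lib.Characters.Complete

universe u

variable {G : Type u} [Group G]

open scoped Classical in
/-- The indicator of the elements of p-power order. -/
noncomputable def pInd (p : ℕ) (g : G) : ℂ := if ∃ k : ℕ, orderOf g = p ^ k then 1 else 0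

theorem pInd_isClassFunction (p : ℕ) : Cfsg.IsClassFunction G (pInd (G := G) p) := fun g h => by
  classical
  simp only [pInd]
  rw [show h * g * h⁻¹ = MulAut.conj h g from rfl, (MulAut.conj h).orderOf_eq g]

open scoped Classical in
/-- The sum of a character over the p-elements is divisible by the p-part of the order. -/
theorem isIntegral_sum_pInd [Fintype G] (p : ℕ) [Fact p.Prime] {θ : G → ℂ}
    (hθ : Cfsg.IsCharacter G θ) :
    IsIntegral ℤ ((∑ g : G, θ g * pInd p g) / ((p : ℂ) ^ (Nat.card G).factorization p)) := by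
  have hp : p.Prime := Fact.out
  have hmem := Cfsg.Agent.Lib.Brauer.Monomial.char_mem hθ
  clear hθ
  induction hmem using Submodule.span_induction with
  | mem x hx =>
    obtain ⟨E, ⟨q, hq, hE⟩, l, rfl⟩ := hx
    letI := Fintype.ofFinite E
    haveI := Cfsg.Agent.Lib.Brauer.Monomial.isNilpotent_of_elementary hq hE
    obtain ⟨S⟩ : Nonempty (Sylow p E) := inferInstance
    haveI : (S : Subgroup E).Normal := inferInstance
    letI := Fintype.ofFinite (S : Subgroup E)
    have hS : ∀ e : E, (∃ k : ℕ, orderOf (e : G) = p ^ k) ↔ e ∈ (S : Subgroup E) := by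
      intro e
      rw [Subgroup.orderOf_coe]
      constructor
      · rintro ⟨k, hk⟩
        rw [← QuotientGroup.eq_one_iff, ← orderOf_eq_one_iff]
        refine Nat.eq_one_of_dvd_coprimes
          ((hp.coprime_iff_not_dvd.mpr S.not_dvd_index).pow_left k)
          (hk ▸ orderOf_map_dvd (QuotientGroup.mk' (S : Subgroup E)) e) ?_
        rw [Subgroup.index_eq_card]
        exact orderOf_dvd_natCard _
      · intro he
        obtain ⟨k, hk⟩ := IsPGroup.iff_orderOf.mp S.2 ⟨e, he⟩
        exact ⟨k, by simpa [Subgroup.orderOf_mk] using hk⟩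
    have h1 : ∑ g : G, Cfsg.indFun E l g * pInd p g =
        (E.index : ℂ) * ∑ s : (S : Subgroup E), l (s : E) := by
      rw [Cfsg.Agent.Lib.Induced.Basic.sum_indFun_mul E l (pInd_isClassFunction p)]
      refine congrArg _ ?_
      rw [← Finset.sum_subtype (Finset.univ.filter fun e : E => e ∈ (S : Subgroup E))
        (fun e => by simp) (fun e : E => l e), Finset.sum_filter]
      refine Finset.sum_congr rfl fun e _ => ?_
      simp only [pInd, hS]
      split_ifs <;> simp
    obtain ⟨n, hn⟩ := exists_classInner_nat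
      (Cfsg.Agent.Lib.Brauer.Elementary.isCharacter_hom (l.comp (S : Subgroup E).subtype))
      (isCharacter_one (G := (S : Subgroup E)))
    have h2 : ∑ s : (S : Subgroup E), l (s : E) = (Nat.card (S : Subgroup E) : ℂ) * n := by
      rw [← hn, Cfsg.classInner, ← mul_assoc,
        mul_inv_cancel₀ (Nat.cast_ne_zero.mpr Nat.card_pos.ne'), one_mul]
      simp
    obtain ⟨c, hc⟩ : p ^ (Nat.card G).factorization p ∣ E.index * Nat.card (S : Subgroup E) := by
      have h3 : E.index * Nat.card (S : Subgroup E) * (S : Subgroup E).index = Nat.card G := by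
        rw [mul_assoc, Subgroup.card_mul_index, mul_comm, Subgroup.card_mul_index]
      exact (Nat.Coprime.pow_left _ (hp.coprime_iff_not_dvd.mpr S.not_dvd_index)).dvd_of_dvd_mul_right
        (h3 ▸ Nat.ordProj_dvd (Nat.card G) p)
    rw [h1, h2, ← mul_assoc, ← Nat.cast_mul, hc, Nat.cast_mul, Nat.cast_pow, mul_assoc,
      mul_div_cancel_left₀ _ (pow_ne_zero _ (Nat.cast_ne_zero.mpr hp.ne_zero)), ← Nat.cast_mul]
    exact isIntegral_algebraMap (x := ((c * n : ℕ) : ℤ))
  | zero => simpa using isIntegral_zero
  | add x y _ _ h1 h2 =>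
    have h := h1.add h2
    rw [← add_div, ← Finset.sum_add_distrib] at h
    simpa only [Pi.add_apply, add_mul] using h
  | smul r x _ hx =>
    have h := (isIntegral_algebraMap (R := ℤ) (A := ℂ) (x := r)).mul hx
    rw [← mul_div_assoc, Finset.mul_sum] at h
    simpa [zsmul_eq_mul, mul_assoc] using h

/-- The sum over the p-elements is a local multiple of the group order. -/
theorem sum_pInd_div_card_mem [Fintype G] {p : ℕ} [Fact p.Prime] {M : Ideal Cfsg.AlgInt}
    [M.IsMaximal] (hM : Cfsg.IsPModular p M) {θ : G → ℂ} (hθ : Cfsg.IsCharacter G θ) :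
    (∑ g : G, θ g * pInd p g) / (Nat.card G : ℂ) ∈ localRing M := by
  rw [natCast_card_eq p G, div_mul_eq_div_div, div_eq_mul_inv]
  exact mul_mem (mem_localRing_of_isIntegral (isIntegral_sum_pInd p hθ))
    (natCast_inv_mem_localRing hM (not_dvd_primeToCard Fact.out))

end Cfsg.Agent.Lib.BrauerMap.PElements
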